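/-
The generalized Fitting subgroup of a finite group.
Main results: `layer_le_centralizer_fitting`, `exists_component_le`,
`centralizer_genFitting_le_fitting`, `centralizer_genFitting_le`, `layer_eq_bot_iff`,
`layer_eq_bot_iff_centralizer_fitting_le`, `fitting_inf_layer_eq`, `genFitting_normal`,
`genFitting_characteristic`, `fitting_map_subtype_of_isSubnormal`, `genFitting_map_subtype_le`,
`subnormal_le_genFitting_decomp`, `genFitting_inf_of_normal`, `genFitting_eq_pCore_of`.
-/
import Cfsg.Agent.Lib.Components.Basic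
import Cfsg.Agent.Lib.Cores.Fitting

namespace Cfsg.Agent.Components

open Subgroup
open scoped Pointwise

variable {G : Type*} [Group G] [Finite G]

theorem fitting_isSolvable : Group.IsSolvable ↥(Cfsg.fittingSubgroup G) :=
  inferInstance

theorem layer_le_centralizer_fitting :
    Cfsg.layer G ≤ centralizer (Cfsg.fittingSubgroup G : Set G) :=
  layer_le_centralizer_of_solvable fitting_isSolvable (normalizer_eq_top (H := Cfsg.fittingSubgroup G) ▸ le_top)

theorem fitting_le_centralizer_layer :
    Cfsg.fittingSubgroup G ≤ centralizer (Cfsg.layer G : Set G) :=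
  le_centralizer_iff.mp layer_le_centralizer_fitting

/-- A subnormal subgroup centralising `F(G)` that is not nilpotent contains a component. -/
theorem exists_component_le {S : Subgroup G} (hS : S.IsSubnormal)
    (hF : S ≤ centralizer (Cfsg.fittingSubgroup G : Set G)) (hne : ¬ Group.IsNilpotent ↥S) :
    ∃ K : Subgroup G, Cfsg.IsComponent K ∧ K ≤ S := by
  obtain ⟨K, ⟨hK, hKS, hKn⟩, hmin⟩ := Set.Finite.exists_minimal
    (s := {K : Subgroup G | K.IsSubnormal ∧ K ≤ S ∧ ¬ Group.IsNilpotent ↥K})
    (Set.toFinite _) ⟨S, hS, le_rfl, hne⟩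
  have hsmall : ∀ M : Subgroup G, M ≤ K → M.IsSubnormal → M ≠ K →
      M ≤ Cfsg.fittingSubgroup G := by
    intro M hMK hM hMne
    refine Cores.le_fittingSubgroup_of_isSubnormal hM ?_
    by_contra hn
    exact hMne (le_antisymm hMK (hmin ⟨hM, hMK.trans hKS, hn⟩ hMK))
  have hKF : K ≤ centralizer (Cfsg.fittingSubgroup G : Set G) := hKS.trans hF
  refine ⟨K, ⟨hK, ?_⟩, hKS⟩
  have hperf : ⁅K, K⁆ = K := by
    by_contra h
    have h1 := hsmall _ (commutator_le_self K) (IsSubnormal.step _ _ (commutator_le_self K) hK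
      (normal_subgroupOf_of_le_normalizer (normalizer_commutator_ge_left K K))) h
    refine hKn ((isNilpotent_iff_lowerCentralSeries K).mpr ⟨2, ?_⟩)
    rw [Subgroup.lowerCentralSeries_succ, Subgroup.lowerCentralSeries_succ,
      Subgroup.lowerCentralSeries_zero, commutator_comm, commutator_eq_bot_iff_le_centralizer]
    exact hKF.trans (centralizer_le (SetLike.coe_subset_coe.mpr h1))
  have : Group.IsPerfect ↥K := Subgroup.isPerfect_iff.mpr hperf
  have : Nontrivial ↥K := by
    by_contra h
    rw [not_nontrivial_iff_subsingleton] at h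
    exact hKn inferInstance
  refine isQuasisimple_of_normal_le_center fun N hN => ?_
  by_cases h : N = ⊤
  · exact Or.inl h
  · right
    have h1 := hsmall _ (map_subtype_le N) (hN.isSubnormal.trans' hK) (fun he => h (by
      rw [← map_subtype_inj, he, ← MonoidHom.range_eq_map, range_subtype]))
    rw [le_center_iff_commutator_eq_bot, commutator_comm, commutator_eq_bot_iff_le_centralizer]
    exact hKF.trans (centralizer_le (SetLike.coe_subset_coe.mpr h1))

/-- A subnormal subgroup centralising `F(G)` without components lies in `F(G)`. -/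
theorem le_fitting_of_no_component {S : Subgroup G} (hS : S.IsSubnormal)
    (hF : S ≤ centralizer (Cfsg.fittingSubgroup G : Set G))
    (h : ∀ K : Subgroup G, Cfsg.IsComponent K → ¬ K ≤ S) : S ≤ Cfsg.fittingSubgroup G := by
  refine Cores.le_fittingSubgroup_of_isSubnormal hS ?_
  by_contra hn
  obtain ⟨K, hK, hKS⟩ := exists_component_le hS hF hn
  exact h K hK hKS

omit [Finite G] in
theorem fitting_le_genFitting : Cfsg.fittingSubgroup G ≤ Cfsg.generalizedFittingSubgroup G :=
  le_sup_right

omit [Finite G] in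
theorem layer_le_genFitting : Cfsg.layer G ≤ Cfsg.generalizedFittingSubgroup G :=
  le_sup_left

omit [Finite G] in
instance genFitting_characteristic : (Cfsg.generalizedFittingSubgroup G).Characteristic := by
  refine characteristic_iff_map_eq.mpr fun e => ?_
  rw [Cfsg.generalizedFittingSubgroup, Subgroup.map_sup, layer_map_equiv,
    Cores.fittingSubgroup_map_mulEquiv]

instance genFitting_normal : (Cfsg.generalizedFittingSubgroup G).Normal := inferInstance

omit [Finite G] in
theorem genFitting_map_equiv {G' : Type*} [Group G'] (e : G ≃* G') :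
    (Cfsg.generalizedFittingSubgroup G).map e.toMonoidHom = Cfsg.generalizedFittingSubgroup G' := by
  rw [Cfsg.generalizedFittingSubgroup, Subgroup.map_sup, layer_map_equiv,
    Cores.fittingSubgroup_map_mulEquiv]
  rfl

/-- `C_G(F*(G))` is contained in `F(G)`. -/
theorem centralizer_genFitting_le_fitting :
    centralizer (Cfsg.generalizedFittingSubgroup G : Set G) ≤ Cfsg.fittingSubgroup G := by
  refine le_fitting_of_no_component (Normal.isSubnormal inferInstance)
    (centralizer_le (SetLike.coe_subset_coe.mpr fitting_le_genFitting)) fun K hK h => ?_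
  exact IsComponent.not_le_centralizer hK (h.trans (centralizer_le (SetLike.coe_subset_coe.mpr
    ((IsComponent.le_layer hK).trans layer_le_genFitting))))

theorem centralizer_genFitting_le :
    centralizer (Cfsg.generalizedFittingSubgroup G : Set G) ≤ Cfsg.generalizedFittingSubgroup G :=
  centralizer_genFitting_le_fitting.trans fitting_le_genFitting

omit [Finite G] in
theorem layer_eq_bot_iff : Cfsg.layer G = ⊥ ↔ ∀ K : Subgroup G, ¬ Cfsg.IsComponent K :=
  ⟨fun h _ hK => IsComponent.ne_bot hK (le_bot_iff.mp (h ▸ IsComponent.le_layer hK)),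
    fun h => le_bot_iff.mp (layer_le fun K hK => absurd hK (h K))⟩

omit [Finite G] in
theorem genFitting_eq_fitting_of_layer_eq_bot (h : Cfsg.layer G = ⊥) :
    Cfsg.generalizedFittingSubgroup G = Cfsg.fittingSubgroup G := by
  rw [Cfsg.generalizedFittingSubgroup, h, bot_sup_eq]

theorem layer_eq_bot_iff_centralizer_fitting_le :
    centralizer (Cfsg.fittingSubgroup G : Set G) ≤ Cfsg.fittingSubgroup G ↔ Cfsg.layer G = ⊥ := by
  constructor
  · intro h
    rw [layer_eq_bot_iff]
    intro K hK
    exact IsComponent.not_le_of_isSolvable hK fitting_isSolvable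
      (((IsComponent.le_layer hK).trans layer_le_centralizer_fitting).trans h)
  · intro h
    have := centralizer_genFitting_le_fitting (G := G)
    rwa [genFitting_eq_fitting_of_layer_eq_bot h] at this

/-- `F(G) ∩ E(G)` is the centre of `E(G)`. -/
theorem fitting_inf_layer_eq :
    Cfsg.fittingSubgroup G ⊓ Cfsg.layer G =
      Cfsg.layer G ⊓ centralizer (Cfsg.layer G : Set G) := by
  refine le_antisymm (le_inf inf_le_right (inf_le_left.trans fitting_le_centralizer_layer))
    (le_inf (Cores.le_fittingSubgroup inferInstance ?_) inf_le_left)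
  have : IsMulCommutative ↥(Cfsg.layer G ⊓ centralizer (Cfsg.layer G : Set G)) :=
    le_centralizer_iff_isMulCommutative.mp
      (inf_le_right.trans (centralizer_le (SetLike.coe_subset_coe.mpr inf_le_left)))
  exact Cores.isNilpotent_of_isMulCommutative _

theorem fitting_map_subtype_of_isSubnormal {S : Subgroup G} (hS : S.IsSubnormal) :
    (Cfsg.fittingSubgroup ↥S).map S.subtype = Cfsg.fittingSubgroup G ⊓ S := by
  refine le_antisymm (le_inf (Cores.fittingSubgroup_map_le_of_isSubnormal hS) (map_subtype_le _)) ?_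
  have h : (Cfsg.fittingSubgroup G).subgroupOf S ≤ Cfsg.fittingSubgroup ↥S := by
    refine Cores.le_fittingSubgroup inferInstance ?_
    have hi : Group.IsNilpotent (((Cfsg.fittingSubgroup G).subgroupOf S).map S.subtype : Subgroup G) :=
      Cores.isNilpotent_of_le_fittingSubgroup (by rw [subgroupOf_map_subtype]; exact inf_le_left)
    exact Group.nilpotent_of_mulEquiv (_h := hi)
      (((Cfsg.fittingSubgroup G).subgroupOf S).equivMapOfInjective _ (subtype_injective S)).symm
  intro x hx
  exact ⟨⟨x, hx.2⟩, h (mem_subgroupOf.mpr hx.1), rfl⟩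

theorem genFitting_map_subtype_le {S : Subgroup G} (hS : S.IsSubnormal) :
    (Cfsg.generalizedFittingSubgroup ↥S).map S.subtype ≤ Cfsg.generalizedFittingSubgroup G := by
  rw [Cfsg.generalizedFittingSubgroup, Subgroup.map_sup]
  exact sup_le_sup (layer_map_subtype_le hS) (Cores.fittingSubgroup_map_le_of_isSubnormal hS)

/-- A subnormal subgroup contained in `F*(G)` is its own generalized Fitting subgroup. -/
theorem subnormal_le_genFitting_decomp {S : Subgroup G} (hS : S.IsSubnormal)
    (hle : S ≤ Cfsg.generalizedFittingSubgroup G) :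
    Cfsg.fittingSubgroup ↥S ⊔ Cfsg.layer ↥S = ⊤ := by
  rw [← map_subtype_inj, Subgroup.map_sup, fitting_map_subtype_of_isSubnormal hS,
    ← MonoidHom.range_eq_map, range_subtype]
  refine le_antisymm (sup_le inf_le_right (map_subtype_le _)) ?_
  set E1 : Subgroup G := sSup {L | Cfsg.IsComponent L ∧ L ≤ S} with hE1
  set E2 : Subgroup G := sSup {L | Cfsg.IsComponent L ∧ ¬ L ≤ S} with hE2
  have hE1S : E1 ≤ S := sSup_le fun L hL => hL.2
  have hE1' : E1 ≤ (Cfsg.layer ↥S).map S.subtype :=
    sSup_le fun L hL => IsComponent.le_layer_map_subtype hL.1 hL.2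
  have hE1E : E1 ≤ Cfsg.layer G := sSup_le fun L hL => IsComponent.le_layer hL.1
  have hE2E : E2 ≤ Cfsg.layer G := sSup_le fun L hL => IsComponent.le_layer hL.1
  have hE : Cfsg.layer G ≤ E1 ⊔ E2 := layer_le fun L hL => by
    by_cases h : L ≤ S
    · exact (le_sSup (show L ∈ {L | Cfsg.IsComponent L ∧ L ≤ S} from ⟨hL, h⟩)).trans le_sup_left
    · exact (le_sSup (show L ∈ {L | Cfsg.IsComponent L ∧ ¬ L ≤ S} from ⟨hL, h⟩)).trans le_sup_right
  have hE2S : E2 ≤ centralizer (S : Set G) := sSup_le fun L hL =>
    commutator_eq_bot_iff_le_centralizer.mp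
      ((IsComponent.le_or_commutes hL.1 hS).resolve_left hL.2)
  have hc : E2 ⊔ Cfsg.fittingSubgroup G ≤ centralizer (E1 : Set G) :=
    sup_le (hE2S.trans (centralizer_le (SetLike.coe_subset_coe.mpr hE1S)))
      (fitting_le_centralizer_layer.trans (centralizer_le (SetLike.coe_subset_coe.mpr hE1E)))
  have hn : E2 ⊔ Cfsg.fittingSubgroup G ≤ normalizer (E1 : Set G) := by
    rw [le_normalizer_iff_commutator_le_right, commutator_eq_bot_iff_le_centralizer.mpr hc]
    exact bot_le
  intro x hx
  have hx' : x ∈ E1 ⊔ (E2 ⊔ Cfsg.fittingSubgroup G) := by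
    rw [← sup_assoc]
    exact (hle.trans (sup_le_sup_right hE _)) hx
  obtain ⟨a, ha, t, ht, rfl⟩ := Set.mem_mul.mp
    (by rwa [← coe_mul_of_right_le_normalizer_left E1 _ hn] :
      x ∈ (E1 : Set G) * ((E2 ⊔ Cfsg.fittingSubgroup G : Subgroup G) : Set G))
  have htS : t ∈ S := by
    have := S.mul_mem (S.inv_mem (hE1S ha)) hx
    simpa using this
  obtain ⟨b, hb, f, hf, rfl⟩ := mem_sup_of_normal_right.mp ht
  have hbc : b ∈ centralizer (Cfsg.layer G : Set G) := by
    have h1 : b ∈ centralizer (E1 : Set G) := hc ((le_sup_left : E2 ≤ _) hb)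
    have h2 : b ∈ centralizer (E2 : Set G) := by
      intro y hy
      have e1 : y * (b * f) = b * f * y := (hE2S hy (b * f) htS).symm
      have e2 : y * f = f * y := fitting_le_centralizer_layer hf y (hE2E hy)
      refine mul_right_cancel (b := f) ?_
      calc y * b * f = b * f * y := by rw [mul_assoc, e1]
        _ = b * y * f := by rw [mul_assoc, ← e2, ← mul_assoc]
    intro y hy
    have hy' : y ∈ centralizer ({b} : Set G) := by
      have hle' : E1 ⊔ E2 ≤ centralizer ({b} : Set G) := by
        refine sup_le ?_ ?_ <;> intro z hz w hw <;> rw [Set.mem_singleton_iff] at hw <;> subst hw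
        · exact (h1 z hz).symm
        · exact (h2 z hz).symm
      exact hle' (hE hy)
    exact (hy' b rfl).symm
  have hbF : b ∈ Cfsg.fittingSubgroup G := by
    have h3 : b ∈ Cfsg.fittingSubgroup G ⊓ Cfsg.layer G := by
      rw [fitting_inf_layer_eq]
      exact ⟨hE2E hb, hbc⟩
    exact h3.1
  exact Subgroup.mul_mem _ ((le_sup_right : _ ≤ (Cfsg.fittingSubgroup G ⊓ S) ⊔ _) (hE1' ha))
    ((le_sup_left : _ ≤ (Cfsg.fittingSubgroup G ⊓ S) ⊔ _) ⟨Subgroup.mul_mem _ hbF hf, htS⟩)

/-- `F*(N) = F*(G) ∩ N` for a normal subgroup `N`. -/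
theorem genFitting_inf_of_normal (N : Subgroup G) [hN : N.Normal] :
    Cfsg.generalizedFittingSubgroup G ⊓ N = (Cfsg.generalizedFittingSubgroup ↥N).map N.subtype := by
  refine le_antisymm ?_ (le_inf (genFitting_map_subtype_le hN.isSubnormal) (map_subtype_le _))
  set S := (Cfsg.generalizedFittingSubgroup G ⊓ N).subgroupOf N with hSdef
  have hSn : S.Normal := inferInstance
  have hmap : S.map N.subtype = Cfsg.generalizedFittingSubgroup G ⊓ N :=
    map_subgroupOf_eq_of_le inf_le_right
  have hsn : (S.map N.subtype).IsSubnormal := hSn.isSubnormal.trans' hN.isSubnormal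
  have hdec := subnormal_le_genFitting_decomp hsn (hmap ▸ inf_le_left)
  rw [← hmap]
  refine map_mono ?_
  have h1 := genFitting_map_subtype_le (G := ↥N) (S := S) hSn.isSubnormal
  let e := S.equivMapOfInjective N.subtype (subtype_injective N)
  have h2 : Cfsg.generalizedFittingSubgroup ↥S = ⊤ := by
    apply Subgroup.map_injective (f := e.toMonoidHom) e.injective
    rw [genFitting_map_equiv, map_top_of_surjective e.toMonoidHom e.surjective,
      Cfsg.generalizedFittingSubgroup, sup_comm, hdec]
  rwa [h2, ← MonoidHom.range_eq_map, range_subtype] at h1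

/-- If `O_{p'}(G) = 1` then `F(G) = O_p(G)`. -/
theorem fitting_eq_pCore_of {p : ℕ} [Fact p.Prime] (hO : Cfsg.pPrimeCore p G = ⊥) :
    Cfsg.fittingSubgroup G = Cfsg.pCore p G := by
  refine le_antisymm ?_ (Cores.pCore_le_fittingSubgroup p)
  rw [Cores.fittingSubgroup_eq_iSup_pCore]
  refine iSup_le fun q => ?_
  by_cases h : (q : ℕ) = p
  · exact h ▸ le_rfl
  · have : Fact (q : ℕ).Prime := ⟨q.2⟩
    refine (Cores.le_pPrimeCore (Cores.pCore_normal q G) ?_).trans (hO.le.trans bot_le)
    obtain ⟨n, hn⟩ := IsPGroup.iff_card.mp (Cores.isPGroup_pCore q G)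
    rw [hn]
    exact Nat.Coprime.pow_left n ((Nat.coprime_primes q.2 Fact.out).mpr h)

/-- If `E(G) = 1` and `O_{p'}(G) = 1` then `F*(G) = O_p(G)`. -/
theorem genFitting_eq_pCore_of {p : ℕ} [Fact p.Prime] (hE : Cfsg.layer G = ⊥)
    (hO : Cfsg.pPrimeCore p G = ⊥) : Cfsg.generalizedFittingSubgroup G = Cfsg.pCore p G := by
  rw [genFitting_eq_fitting_of_layer_eq_bot hE, fitting_eq_pCore_of hO]

end Cfsg.Agent.Components
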