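/-
Quasisimple groups and the three-subgroup lemma for perfect subgroups.
Main results: `commutator_eq_bot_of_perfect`, `IsQuasisimple.eq_top_or_le_center`,
`IsQuasisimple.of_surjective`, `isQuasisimple_congr`, `isQuasisimple_of_normal_le_center`,
`IsQuasisimple.not_isSolvable`, `isQuasisimple_commutator`.
-/
import Cfsg.Agent.EqLemmas

namespace Cfsg.Agent.Components

open Subgroup
open scoped commutatorElement

section ThreeSubgroup

variable {G : Type*} [Group G]

/-- If `L` is perfect and `[[L, H], L] = 1` then `[L, H] = 1`. -/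
theorem commutator_eq_bot_of_perfect {L H : Subgroup G} (hL : ⁅L, L⁆ = L)
    (h : ⁅⁅L, H⁆, L⁆ = ⊥) : ⁅L, H⁆ = ⊥ := by
  have h' : ⁅⁅H, L⁆, L⁆ = ⊥ := by rwa [commutator_comm H L]
  have key := commutator_commutator_eq_bot_of_rotate h h'
  rwa [hL] at key

/-- If `L` is perfect and `[L, H]` is centralised by `L` then `[L, H] = 1`. -/
theorem commutator_eq_bot_of_perfect_of_le {L H Z : Subgroup G} (hL : ⁅L, L⁆ = L)
    (h : ⁅L, H⁆ ≤ Z) (hZ : ⁅Z, L⁆ = ⊥) : ⁅L, H⁆ = ⊥ :=
  commutator_eq_bot_of_perfect hL <| le_bot_iff.mp <| hZ ▸ commutator_mono h le_rfl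

theorem center_map_subtype_le_centralizer (K : Subgroup G) :
    (center ↥K).map K.subtype ≤ centralizer (K : Set G) := by
  rintro _ ⟨z, hz, rfl⟩ k hk
  exact congrArg Subtype.val (mem_center_iff.mp hz ⟨k, hk⟩)

theorem center_map_subtype (K : Subgroup G) :
    (center ↥K).map K.subtype = K ⊓ centralizer (K : Set G) := by
  refine le_antisymm (le_inf (map_subtype_le _) (center_map_subtype_le_centralizer K)) ?_
  rintro x ⟨hx, hx'⟩
  exact ⟨⟨x, hx⟩, mem_center_iff.mpr fun k => Subtype.ext (hx' k.1 k.2), rfl⟩

theorem le_center_iff_commutator_eq_bot {K : Subgroup G} {Z : Subgroup ↥K} :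
    Z ≤ center ↥K ↔ ⁅Z.map K.subtype, K⁆ = ⊥ := by
  rw [commutator_eq_bot_iff_le_centralizer]
  constructor
  · exact fun h => (map_mono h).trans (center_map_subtype_le_centralizer K)
  · intro h z hz
    exact mem_center_iff.mpr fun k => Subtype.ext (h ⟨z, hz, rfl⟩ k.1 k.2)

end ThreeSubgroup

section Quasisimple

variable {H : Type*} [Group H]

theorem IsQuasisimple.center_ne_top (hH : Cfsg.IsQuasisimple H) : center H ≠ ⊤ := by
  intro h
  have := hH.2
  have hs : Subsingleton (H ⧸ center H) := by
    rw [h]; exact QuotientGroup.subsingleton_quotient_top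
  exact not_nontrivial _ (IsSimpleGroup.toNontrivial (G := H ⧸ center H))

theorem IsQuasisimple.nontrivial (hH : Cfsg.IsQuasisimple H) : Nontrivial H := by
  by_contra h
  rw [not_nontrivial_iff_subsingleton] at h
  exact IsQuasisimple.center_ne_top hH (Subsingleton.elim _ _)

theorem IsQuasisimple.not_isSolvable (hH : Cfsg.IsQuasisimple H) : ¬ Group.IsSolvable H := by
  have := IsQuasisimple.nontrivial hH
  have := hH.1
  exact Group.IsPerfect.not_isSolvable H

theorem IsQuasisimple.not_isNilpotent (hH : Cfsg.IsQuasisimple H) : ¬ Group.IsNilpotent H := by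
  have := IsQuasisimple.nontrivial hH
  have := hH.1
  exact Group.IsPerfect.not_isNilpotent H

theorem IsQuasisimple.not_isMulCommutative (hH : Cfsg.IsQuasisimple H) : ¬ IsMulCommutative H := by
  have := IsQuasisimple.nontrivial hH
  have := hH.1
  exact Group.IsPerfect.not_isMulCommutative H

/-- A subgroup `N` of a perfect group with `N ⊔ Z(H) = H` is everything. -/
theorem eq_top_of_sup_center_eq_top [Group.IsPerfect H] {N : Subgroup H}
    (h : N ⊔ center H = ⊤) : N = ⊤ := by
  have hn : N.Normal := by
    rw [← normalizer_eq_top_iff, eq_top_iff, ← h]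
    refine sup_le le_normalizer ?_
    intro z hz
    rw [mem_normalizer_iff]
    intro n
    have hc : z * n * z⁻¹ = n := by rw [← mem_center_iff.mp hz n, mul_inv_cancel_right]
    rw [hc]
  rw [eq_top_iff, ← Group.IsPerfect.commutator_eq_top (G := H), _root_.commutator_def, commutator_le]
  intro a _ b _
  have ha : a ∈ N ⊔ center H := h ▸ mem_top a
  have hb : b ∈ N ⊔ center H := h ▸ mem_top b
  obtain ⟨a', ha', z, hz, rfl⟩ := mem_sup_of_normal_right.mp ha
  obtain ⟨b', hb', w, hw, rfl⟩ := mem_sup_of_normal_right.mp hb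
  have hzc : ∀ g, g * z = z * g := mem_center_iff.mp hz
  have hwc : ∀ g, g * w = w * g := mem_center_iff.mp hw
  have e1 : ⁅a' * z, b' * w⁆ = ⁅a', b'⁆ := by
    simp only [commutatorElement_def, mul_inv_rev]
    calc a' * z * (b' * w) * (z⁻¹ * a'⁻¹) * (w⁻¹ * b'⁻¹)
        = a' * (z * (b' * w) * z⁻¹) * a'⁻¹ * (w⁻¹ * b'⁻¹) := by group
      _ = a' * (b' * w) * a'⁻¹ * (w⁻¹ * b'⁻¹) := by
          rw [← hzc (b' * w), mul_inv_cancel_right]
      _ = a' * b' * (w * a'⁻¹ * w⁻¹) * b'⁻¹ := by group
      _ = a' * b' * a'⁻¹ * b'⁻¹ := by rw [← hwc, mul_inv_cancel_right]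
  rw [e1]
  exact N.mul_mem (N.mul_mem (N.mul_mem ha' hb') (N.inv_mem ha')) (N.inv_mem hb')

theorem IsQuasisimple.normal_eq_top_or_le_center (hH : Cfsg.IsQuasisimple H) (N : Subgroup H)
    [N.Normal] : N = ⊤ ∨ N ≤ center H := by
  have := hH.1
  have := hH.2
  have hN : (N.map (QuotientGroup.mk' (center H))).Normal :=
    Normal.map inferInstance _ (QuotientGroup.mk'_surjective _)
  rcases hN.eq_bot_or_eq_top with h | h
  · right
    rwa [Subgroup.map_eq_bot_iff, QuotientGroup.ker_mk'] at h
  · left
    apply eq_top_of_sup_center_eq_top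
    have := congrArg (comap (QuotientGroup.mk' (center H))) h
    rwa [comap_map_eq, comap_top, QuotientGroup.ker_mk'] at this

/-- In a quasisimple group every subnormal subgroup is the whole group or central. -/
theorem IsQuasisimple.eq_top_or_le_center (hH : Cfsg.IsQuasisimple H) {K : Subgroup H}
    (hK : K.IsSubnormal) : K = ⊤ ∨ K ≤ center H := by
  rcases hK.lt_normal with h | ⟨N, hN, hle, hlt⟩
  · exact Or.inl h
  · rcases IsQuasisimple.normal_eq_top_or_le_center hH N with h | h
    · exact absurd h hlt.ne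
    · exact Or.inr (hle.trans h)

/-- A perfect nontrivial group all of whose proper normal subgroups are central is quasisimple. -/
theorem isQuasisimple_of_normal_le_center [Group.IsPerfect H] [Nontrivial H]
    (h : ∀ N : Subgroup H, N.Normal → N = ⊤ ∨ N ≤ center H) : Cfsg.IsQuasisimple H := by
  refine ⟨inferInstance, ?_⟩
  have hne : center H ≠ ⊤ := by
    intro hc
    exact Group.IsPerfect.not_isMulCommutative H
      ⟨⟨fun a b => (mem_center_iff.mp (hc ▸ mem_top b) a)⟩⟩
  have : Nontrivial (H ⧸ center H) := QuotientGroup.nontrivial_iff.mpr hne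
  refine { eq_bot_or_eq_top_of_normal := fun N hN => ?_ }
  rcases h (N.comap (QuotientGroup.mk' (center H))) (hN.comap _) with h' | h'
  · right
    have := congrArg (map (QuotientGroup.mk' (center H))) h'
    rwa [map_comap_eq_self_of_surjective (QuotientGroup.mk'_surjective _),
      map_top_of_surjective _ (QuotientGroup.mk'_surjective _)] at this
  · left
    have := map_mono (f := QuotientGroup.mk' (center H)) h'
    rw [map_comap_eq_self_of_surjective (QuotientGroup.mk'_surjective _)] at this
    have hb : (center H).map (QuotientGroup.mk' (center H)) = ⊥ := by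
      rw [Subgroup.map_eq_bot_iff, QuotientGroup.ker_mk']
    exact le_bot_iff.mp (hb ▸ this)

/-- A nontrivial image of a quasisimple group is quasisimple. -/
theorem IsQuasisimple.of_surjective (hH : Cfsg.IsQuasisimple H) {K : Type*} [Group K]
    [Nontrivial K] (f : H →* K) (hf : Function.Surjective f) : Cfsg.IsQuasisimple K := by
  have := hH.1
  have : Group.IsPerfect K := Group.IsPerfect.ofSurjective hf
  refine isQuasisimple_of_normal_le_center fun N hN => ?_
  rcases IsQuasisimple.normal_eq_top_or_le_center hH (N.comap f) with h | h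
  · left
    rw [← map_comap_eq_self_of_surjective hf N, h, map_top_of_surjective f hf]
  · right
    rw [← map_comap_eq_self_of_surjective hf N]
    refine (map_mono h).trans ?_
    rintro _ ⟨z, hz, rfl⟩
    rw [mem_center_iff]
    intro k
    obtain ⟨g, rfl⟩ := hf k
    rw [← map_mul, ← map_mul, mem_center_iff.mp hz g]

theorem isQuasisimple_congr {K : Type*} [Group K] (e : H ≃* K) :
    Cfsg.IsQuasisimple H ↔ Cfsg.IsQuasisimple K := by
  constructor
  · intro h
    have := IsQuasisimple.nontrivial h
    have : Nontrivial K := e.symm.toEquiv.nontrivial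
    exact IsQuasisimple.of_surjective h e.toMonoidHom e.surjective
  · intro h
    have := IsQuasisimple.nontrivial h
    have : Nontrivial H := e.toEquiv.nontrivial
    exact IsQuasisimple.of_surjective h e.symm.toMonoidHom e.symm.surjective

/-- If `X / Z(X)` is nonabelian simple then `X = X' Z(X)` and `X'` is quasisimple. -/
theorem isQuasisimple_commutator {X : Type*} [Group X] (hs : IsSimpleGroup (X ⧸ center X))
    (hna : ¬ IsMulCommutative (X ⧸ center X)) :
    commutator X ⊔ center X = ⊤ ∧ Cfsg.IsQuasisimple ↥(commutator X) := by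
  set π := QuotientGroup.mk' (center X) with hπ
  have hsurj : Function.Surjective π := QuotientGroup.mk'_surjective _
  have hsup : ∀ N : Subgroup X, N.Normal → ¬ N ≤ center X → N ⊔ center X = ⊤ := by
    intro N hN hle
    have hNm : (N.map π).Normal := Normal.map hN _ hsurj
    rcases hNm.eq_bot_or_eq_top with h | h
    · rw [Subgroup.map_eq_bot_iff, hπ, QuotientGroup.ker_mk'] at h
      exact absurd h hle
    · have := congrArg (comap π) h
      rwa [comap_map_eq, comap_top, hπ, QuotientGroup.ker_mk'] at this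
  have hD : ¬ commutator X ≤ center X := by
    intro h
    refine hna ⟨⟨fun a b => ?_⟩⟩
    by_contra hab
    have h1 : (commutator X).map π = ⊥ := by rwa [Subgroup.map_eq_bot_iff, hπ, QuotientGroup.ker_mk']
    obtain ⟨x, rfl⟩ := hsurj a
    obtain ⟨y, rfl⟩ := hsurj b
    have : π (x * y * x⁻¹ * y⁻¹) ∈ (commutator X).map π :=
      mem_map_of_mem _ (commutator_mem_commutator (mem_top x) (mem_top y))
    rw [h1, mem_bot, map_mul, map_mul, map_mul, map_inv, map_inv, mul_inv_eq_one, mul_inv_eq_iff_eq_mul] at this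
    exact hab this
  have htop := hsup (commutator X) inferInstance hD
  refine ⟨htop, ?_⟩
  -- any normal subgroup `N` with `N Z(X) = X` contains the commutator subgroup
  have hge : ∀ N : Subgroup X, N.Normal → N ⊔ center X = ⊤ → commutator X ≤ ⁅N, N⁆ := by
    intro N hN h
    rw [_root_.commutator_def, commutator_le]
    intro a _ b _
    have ha : a ∈ N ⊔ center X := h ▸ mem_top a
    have hb : b ∈ N ⊔ center X := h ▸ mem_top b
    obtain ⟨a', ha', z, hz, rfl⟩ := mem_sup_of_normal_right.mp ha
    obtain ⟨b', hb', w, hw, rfl⟩ := mem_sup_of_normal_right.mp hb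
    have hzc : ∀ g, g * z = z * g := mem_center_iff.mp hz
    have hwc : ∀ g, g * w = w * g := mem_center_iff.mp hw
    have e1 : ⁅a' * z, b' * w⁆ = ⁅a', b'⁆ := by
      simp only [commutatorElement_def, mul_inv_rev]
      calc a' * z * (b' * w) * (z⁻¹ * a'⁻¹) * (w⁻¹ * b'⁻¹)
          = a' * (z * (b' * w) * z⁻¹) * a'⁻¹ * (w⁻¹ * b'⁻¹) := by group
        _ = a' * (b' * w) * a'⁻¹ * (w⁻¹ * b'⁻¹) := by
            rw [← hzc (b' * w), mul_inv_cancel_right]
        _ = a' * b' * (w * a'⁻¹ * w⁻¹) * b'⁻¹ := by group
        _ = a' * b' * a'⁻¹ * b'⁻¹ := by rw [← hwc, mul_inv_cancel_right]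
    rw [e1]
    exact commutator_mem_commutator ha' hb'
  set D := commutator X with hDdef
  have hperf : ⁅D, D⁆ = D := le_antisymm (commutator_le_left D D) (hge D inferInstance htop)
  have : Group.IsPerfect ↥D := Subgroup.isPerfect_iff.mpr hperf
  have : Nontrivial ↥D := by
    rw [Subgroup.nontrivial_iff_ne_bot]
    intro h
    exact hD (h ▸ bot_le)
  refine isQuasisimple_of_normal_le_center fun N hN => ?_
  have hNX : (N.map D.subtype).Normal := by
    rw [← normalizer_eq_top_iff, eq_top_iff, ← htop]
    refine sup_le ?_ ?_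
    · refine (normal_subgroupOf_iff_le_normalizer (map_subtype_le N)).mp ?_
      rwa [subgroupOf, comap_map_eq_self_of_injective (subtype_injective _)]
    · intro z hz
      rw [mem_normalizer_iff]
      intro n
      have hc : z * n * z⁻¹ = n := by rw [← mem_center_iff.mp hz n, mul_inv_cancel_right]
      rw [hc]
  by_cases hle : N.map D.subtype ≤ center X
  · right
    intro n hn
    exact mem_center_iff.mpr fun d =>
      Subtype.ext (mem_center_iff.mp (hle ⟨n, hn, rfl⟩) d.1)
  · left
    have h1 := hge _ hNX (hsup _ hNX hle)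
    rw [eq_top_iff]
    intro d _
    obtain ⟨n, hn, hnd⟩ := (commutator_le_left (N.map D.subtype) (N.map D.subtype)) (h1 d.2)
    rwa [Subtype.ext hnd] at hn

end Quasisimple

end Cfsg.Agent.Components
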