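/-
Components and the layer of a finite group.
Main results: `isComponent_map_subtype_iff`, `IsComponent.subgroupOf`, `IsComponent.le_or_commutes`,
`IsComponent.commutator_eq_bot` (distinct components commute), `IsComponent.commutator_solvable`,
`layer_normal`, `layer_characteristic`, `layer_perfect`, `layer_le_centralizer_of_solvable`,
`IsComponent.mem_of_le_sSup`, `center_layer_eq`, `layer_eq_centralizer_sup_commutator`.
-/
import Cfsg.Agent.Lib.Components.Quasisimple

namespace Cfsg.Agent.Components

open Subgroup
open scoped Pointwise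

universe u

variable {G : Type u} [Group G]

theorem IsComponent.perfect {L : Subgroup G} (hL : Cfsg.IsComponent L) : ⁅L, L⁆ = L :=
  Subgroup.isPerfect_iff.mp hL.2.1

theorem IsComponent.ne_bot {L : Subgroup G} (hL : Cfsg.IsComponent L) : L ≠ ⊥ :=
  (Subgroup.nontrivial_iff_ne_bot L).mp (IsQuasisimple.nontrivial hL.2)

/-- A component is not contained in its own centraliser. -/
theorem IsComponent.not_le_centralizer {L : Subgroup G} (hL : Cfsg.IsComponent L) :
    ¬ L ≤ centralizer (L : Set G) := fun h =>
  IsComponent.ne_bot hL <| (IsComponent.perfect hL).symm.trans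
    (commutator_eq_bot_iff_le_centralizer.mpr h)

/-- A component is not contained in any solvable subgroup. -/
theorem IsComponent.not_le_of_isSolvable {L H : Subgroup G} (hL : Cfsg.IsComponent L)
    (hH : Group.IsSolvable ↥H) : ¬ L ≤ H := fun h => by
  have := hH
  exact IsQuasisimple.not_isSolvable hL.2
    (Group.isSolvable_of_isSolvable_injective (inclusion_injective h))

theorem isSubnormal_of_map_subtype {H : Subgroup G} {K : Subgroup ↥H}
    (h : (K.map H.subtype).IsSubnormal) : K.IsSubnormal := by
  have := h.comap H.subtype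
  rwa [comap_map_eq_self_of_injective (subtype_injective _)] at this

theorem isQuasisimple_map_iff {G' : Type*} [Group G'] {f : G →* G'} (hf : Function.Injective f)
    (K : Subgroup G) : Cfsg.IsQuasisimple ↥(K.map f) ↔ Cfsg.IsQuasisimple ↥K :=
  (isQuasisimple_congr (K.equivMapOfInjective f hf)).symm

/-- Components of a subnormal subgroup are exactly the components lying in it. -/
theorem isComponent_map_subtype_iff {H : Subgroup G} (hH : H.IsSubnormal) (K : Subgroup ↥H) :
    Cfsg.IsComponent (K.map H.subtype) ↔ Cfsg.IsComponent K :=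
  ⟨fun h => ⟨isSubnormal_of_map_subtype h.1,
      (isQuasisimple_map_iff (subtype_injective H) K).mp h.2⟩,
   fun h => ⟨h.1.trans' hH, (isQuasisimple_map_iff (subtype_injective H) K).mpr h.2⟩⟩

/-- A component is a component of every subgroup containing it. -/
theorem IsComponent.subgroupOf {L H : Subgroup G} (hL : Cfsg.IsComponent L) (h : L ≤ H) :
    Cfsg.IsComponent (L.subgroupOf H) := by
  refine ⟨hL.1.subgroupOf, ?_⟩
  rw [← isQuasisimple_map_iff (subtype_injective H), map_subgroupOf_eq_of_le h]
  exact hL.2

theorem IsComponent.of_subgroupOf {L H : Subgroup G} (hH : H.IsSubnormal) (h : L ≤ H)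
    (hL : Cfsg.IsComponent (L.subgroupOf H)) : Cfsg.IsComponent L := by
  have := (isComponent_map_subtype_iff hH _).mpr hL
  rwa [map_subgroupOf_eq_of_le h] at this

theorem IsComponent.map_equiv {G' : Type*} [Group G'] (e : G ≃* G') {L : Subgroup G}
    (hL : Cfsg.IsComponent L) : Cfsg.IsComponent (L.map e.toMonoidHom) :=
  ⟨hL.1.map e.surjective, (isQuasisimple_map_iff e.injective L).mpr hL.2⟩

theorem IsComponent.conj {L : Subgroup G} (hL : Cfsg.IsComponent L) (g : G) :
    Cfsg.IsComponent (L.map (MulAut.conj g).toMonoidHom) :=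
  IsComponent.map_equiv _ hL

/-! ### Components against subnormal subgroups -/

theorem map_subtype_commutator_eq_bot {M : Subgroup G} {A B : Subgroup ↥M}
    (h : ⁅A, B⁆ = ⊥) : ⁅A.map M.subtype, B.map M.subtype⁆ = ⊥ := by
  rw [← map_commutator, h, Subgroup.map_bot]

private theorem le_or_commutes_aux (n : ℕ) : ∀ (G : Type u) [Group G] [Finite G],
    Nat.card G < n → ∀ (L H : Subgroup G), Cfsg.IsComponent L → H.IsSubnormal →
      L ≤ H ∨ ⁅L, H⁆ = ⊥ := by
  induction n with
  | zero => intros; omega
  | succ n ih =>
    intro G _ _ hn L H hL hH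
    rcases hH.lt_normal with rfl | ⟨M, hM, hHM, hMlt⟩
    · exact Or.inl le_top
    have small : ∀ K : Subgroup G, K < ⊤ → Nat.card ↥K < n := by
      intro K hK
      have h1 : Nat.card ↥K < Nat.card G := by
        refine lt_of_le_of_ne (Subgroup.card_le_card_group K) fun he => hK.ne ?_
        exact (Subgroup.card_eq_iff_eq_top K).mp he
      omega
    by_cases hLM : L ≤ M
    · rcases ih ↥M (small M hMlt) (L.subgroupOf M) (H.subgroupOf M)
        (IsComponent.subgroupOf hL hLM) hH.subgroupOf with h | h
      · left
        have := map_mono (f := M.subtype) h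
        rwa [map_subgroupOf_eq_of_le hLM, map_subgroupOf_eq_of_le hHM] at this
      · right
        have := map_subtype_commutator_eq_bot h
        rwa [map_subgroupOf_eq_of_le hLM, map_subgroupOf_eq_of_le hHM] at this
    · rcases hL.1.lt_normal with rfl | ⟨N, hN, hLN, hNlt⟩
      · right
        have hq : Cfsg.IsQuasisimple G := (isQuasisimple_congr topEquiv).mp hL.2
        rcases IsQuasisimple.eq_top_or_le_center hq hH with h | h
        · exact absurd (le_top.trans (h ▸ hHM)) hLM
        · exact commutator_top_left_eq_bot_iff_le_center.mpr h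
      · have hNM : ⁅L, N ⊓ M⁆ = ⊥ := by
          rcases ih ↥N (small N hNlt) (L.subgroupOf N) (M.subgroupOf N)
            (IsComponent.subgroupOf hL hLN) hM.isSubnormal.subgroupOf with h | h
          · have := map_mono (f := N.subtype) h
            rw [map_subgroupOf_eq_of_le hLN, subgroupOf_map_subtype] at this
            exact absurd (this.trans inf_le_left) hLM
          · have := map_subtype_commutator_eq_bot h
            rwa [map_subgroupOf_eq_of_le hLN, subgroupOf_map_subtype, inf_comm] at this
        right
        have hle : ⁅L, H⁆ ≤ N ⊓ M :=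
          (commutator_mono hLN hHM).trans (commutator_le_inf N M)
        exact commutator_eq_bot_of_perfect_of_le (IsComponent.perfect hL) hle
          (by rw [commutator_comm]; exact hNM)

/-- A component is contained in, or centralises, every subnormal subgroup. -/
theorem IsComponent.le_or_commutes [Finite G] {L H : Subgroup G} (hL : Cfsg.IsComponent L)
    (hH : H.IsSubnormal) : L ≤ H ∨ ⁅L, H⁆ = ⊥ :=
  le_or_commutes_aux (Nat.card G + 1) G (Nat.lt_succ_self _) L H hL hH

theorem IsComponent.eq_of_le [Finite G] {L K : Subgroup G} (hL : Cfsg.IsComponent L)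
    (hK : Cfsg.IsComponent K) (h : L ≤ K) : L = K := by
  rcases IsQuasisimple.eq_top_or_le_center hK.2 (hL.1.subgroupOf (K := K)) with h1 | h1
  · exact le_antisymm h (subgroupOf_eq_top.mp h1)
  · refine absurd ?_ (IsComponent.not_le_centralizer hL)
    have := map_mono (f := K.subtype) h1
    rw [map_subgroupOf_eq_of_le h] at this
    exact (this.trans (center_map_subtype_le_centralizer K)).trans
      (centralizer_le (SetLike.coe_subset_coe.mpr h))

/-- Distinct components commute. -/
theorem IsComponent.commutator_eq_bot [Finite G] {L K : Subgroup G} (hL : Cfsg.IsComponent L)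
    (hK : Cfsg.IsComponent K) (h : L ≠ K) : ⁅L, K⁆ = ⊥ :=
  (IsComponent.le_or_commutes hL hK.1).resolve_left fun hle =>
    h (IsComponent.eq_of_le hL hK hle)

/-- A component centralises every solvable subgroup that it normalises. -/
theorem IsComponent.commutator_solvable [Finite G] {L H : Subgroup G} (hL : Cfsg.IsComponent L)
    (hsolv : Group.IsSolvable ↥H) (hinv : L ≤ normalizer (H : Set G)) : ⁅L, H⁆ = ⊥ := by
  have hHJ : H ≤ L ⊔ H := le_sup_right
  have hN : (H.subgroupOf (L ⊔ H)).Normal :=
    normal_subgroupOf_of_le_normalizer (sup_le hinv le_normalizer)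
  rcases IsComponent.le_or_commutes (IsComponent.subgroupOf hL (le_sup_left (b := H)))
      hN.isSubnormal with h | h
  · have := map_mono (f := (L ⊔ H).subtype) h
    rw [map_subgroupOf_eq_of_le le_sup_left, map_subgroupOf_eq_of_le hHJ] at this
    exact absurd this (IsComponent.not_le_of_isSolvable hL hsolv)
  · have := map_subtype_commutator_eq_bot h
    rwa [map_subgroupOf_eq_of_le le_sup_left, map_subgroupOf_eq_of_le hHJ] at this

/-! ### The layer -/

theorem IsComponent.le_layer {L : Subgroup G} (hL : Cfsg.IsComponent L) : L ≤ Cfsg.layer G :=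
  le_sSup hL

theorem layer_le {K : Subgroup G} (h : ∀ L : Subgroup G, Cfsg.IsComponent L → L ≤ K) :
    Cfsg.layer G ≤ K :=
  sSup_le h

theorem layer_map_equiv {G' : Type*} [Group G'] (e : G ≃* G') :
    (Cfsg.layer G).map e.toMonoidHom = Cfsg.layer G' := by
  refine le_antisymm (map_le_iff_le_comap.mpr (layer_le fun L hL => map_le_iff_le_comap.mp
    (IsComponent.le_layer (IsComponent.map_equiv e hL)))) (layer_le fun L hL => ?_)
  have h := map_mono (f := e.toMonoidHom) (IsComponent.le_layer (IsComponent.map_equiv e.symm hL))
  rw [map_map] at h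
  convert h using 1
  rw [show e.toMonoidHom.comp e.symm.toMonoidHom = MonoidHom.id G' from
    MonoidHom.ext e.apply_symm_apply, Subgroup.map_id]

instance layer_characteristic : (Cfsg.layer G).Characteristic :=
  characteristic_iff_map_eq.mpr fun e => layer_map_equiv e

instance layer_normal : (Cfsg.layer G).Normal := inferInstance

theorem layer_map_subtype_le {H : Subgroup G} (hH : H.IsSubnormal) :
    (Cfsg.layer ↥H).map H.subtype ≤ Cfsg.layer G :=
  map_le_iff_le_comap.mpr <| layer_le fun L hL => map_le_iff_le_comap.mp <|
    IsComponent.le_layer ((isComponent_map_subtype_iff hH L).mpr hL)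

theorem IsComponent.le_layer_map_subtype {L H : Subgroup G} (hL : Cfsg.IsComponent L)
    (h : L ≤ H) : L ≤ (Cfsg.layer ↥H).map H.subtype := by
  have := map_mono (f := H.subtype) (IsComponent.le_layer (IsComponent.subgroupOf hL h))
  rwa [map_subgroupOf_eq_of_le h] at this

theorem layer_perfect : ⁅Cfsg.layer G, Cfsg.layer G⁆ = Cfsg.layer G :=
  le_antisymm (commutator_le_left _ _) <| layer_le fun L hL =>
    (IsComponent.perfect hL).symm.le.trans
      (commutator_mono (IsComponent.le_layer hL) (IsComponent.le_layer hL))

instance layer_isPerfect : Group.IsPerfect ↥(Cfsg.layer G) :=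
  Subgroup.isPerfect_iff.mpr layer_perfect

theorem IsComponent.layer_le_normalizer [Finite G] {L : Subgroup G} (hL : Cfsg.IsComponent L) :
    Cfsg.layer G ≤ normalizer (L : Set G) := by
  refine layer_le fun K hK => ?_
  by_cases h : K = L
  · exact h ▸ le_normalizer
  · rw [le_normalizer_iff_commutator_le_right, IsComponent.commutator_eq_bot hK hL h]
    exact bot_le

theorem IsComponent.normal_in_layer [Finite G] {L : Subgroup G} (hL : Cfsg.IsComponent L) :
    (L.subgroupOf (Cfsg.layer G)).Normal :=
  normal_subgroupOf_of_le_normalizer (IsComponent.layer_le_normalizer hL)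

/-- The layer centralises every solvable subgroup that it normalises. -/
theorem layer_le_centralizer_of_solvable [Finite G] {N : Subgroup G}
    (hN : Group.IsSolvable ↥N) (hnorm : Cfsg.layer G ≤ normalizer (N : Set G)) :
    Cfsg.layer G ≤ centralizer (N : Set G) :=
  layer_le fun _ hL => commutator_eq_bot_iff_le_centralizer.mp
    (IsComponent.commutator_solvable hL hN ((IsComponent.le_layer hL).trans hnorm))

/-- Components commute with the join of components different from them. -/
theorem IsComponent.le_centralizer_sSup [Finite G] {L : Subgroup G} (hL : Cfsg.IsComponent L)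
    {S : Set (Subgroup G)} (hS : ∀ K ∈ S, Cfsg.IsComponent K) (hLS : L ∉ S) :
    L ≤ centralizer ((sSup S : Subgroup G) : Set G) := by
  rw [le_centralizer_iff]
  exact sSup_le fun K hK => commutator_eq_bot_iff_le_centralizer.mp
    (IsComponent.commutator_eq_bot (hS K hK) hL fun h => hLS (h ▸ hK))

theorem IsComponent.mem_of_le_sSup [Finite G] {L : Subgroup G} (hL : Cfsg.IsComponent L)
    {S : Set (Subgroup G)} (hS : ∀ K ∈ S, Cfsg.IsComponent K) (hle : L ≤ sSup S) : L ∈ S := by
  by_contra h
  exact IsComponent.not_le_centralizer hL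
    ((IsComponent.le_centralizer_sSup hL hS h).trans
      (centralizer_le (SetLike.coe_subset_coe.mpr hle)))

theorem sSup_components_inf_centralizer_le [Finite G] {S : Set (Subgroup G)}
    (hS : ∀ K ∈ S, Cfsg.IsComponent K) :
    sSup S ⊓ centralizer ((sSup S : Subgroup G) : Set G) ≤
      ⨆ K ∈ S, K ⊓ centralizer (K : Set G) := by
  have hfin : S.Finite := Set.toFinite S
  revert hS
  refine Set.Finite.induction_on (motive := fun S _ => (∀ K ∈ S, Cfsg.IsComponent K) →
    sSup S ⊓ centralizer ((sSup S : Subgroup G) : Set G) ≤
      ⨆ K ∈ S, K ⊓ centralizer (K : Set G)) S hfin ?_ ?_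
  · intro _; simp
  · intro L T hLT _ ih hS
    have hL : Cfsg.IsComponent L := hS L (Set.mem_insert _ _)
    have hT : ∀ K ∈ T, Cfsg.IsComponent K := fun K hK => hS K (Set.mem_insert_of_mem _ hK)
    set M : Subgroup G := sSup T with hM
    have hc : L ≤ centralizer (M : Set G) := IsComponent.le_centralizer_sSup hL hT hLT
    have hn : L ≤ normalizer (M : Set G) := by
      rw [le_normalizer_iff_commutator_le_right, commutator_eq_bot_iff_le_centralizer.mpr hc]
      exact bot_le
    rw [sSup_insert]
    rintro x ⟨hx, hxc⟩
    obtain ⟨l, hl, m, hm, rfl⟩ := Set.mem_mul.mp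
      (by rwa [← coe_mul_of_left_le_normalizer_right L M hn] : x ∈ (L : Set G) * (M : Set G))
    have hlL : l ∈ centralizer (L : Set G) := by
      intro y hy
      have h1 := hxc y (le_sup_left (a := L) hy)
      have h2 : m * y = y * m := hc hy m hm
      have h3 : (y * l) * m = (l * y) * m := by
        rw [mul_assoc, h1, mul_assoc, h2, ← mul_assoc]
      exact mul_right_cancel h3
    have hmM : m ∈ centralizer (M : Set G) := by
      intro y hy
      have h1 := hxc y (le_sup_right (b := M) hy)
      have h2 : y * l = l * y := hc hl y hy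
      have h3 : l * (y * m) = l * (m * y) := by
        rw [← mul_assoc, ← h2, mul_assoc, h1, ← mul_assoc]
      exact mul_left_cancel h3
    refine Subgroup.mul_mem _ ?_ ?_
    · exact le_iSup₂ (f := fun K (_ : K ∈ insert L T) => K ⊓ centralizer (K : Set G)) L
        (Set.mem_insert _ _) ⟨hl, hlL⟩
    · exact iSup₂_le (fun K hK => le_iSup₂
        (f := fun K (_ : K ∈ insert L T) => K ⊓ centralizer (K : Set G)) K
        (Set.mem_insert_of_mem _ hK)) (ih hT ⟨hm, hmM⟩)

/-- The centre of the layer is generated by the centres of the components. -/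
theorem center_layer_eq [Finite G] : (center ↥(Cfsg.layer G)).map (Cfsg.layer G).subtype =
    ⨆ L : {K : Subgroup G // Cfsg.IsComponent K},
      (center ↥(L : Subgroup G)).map (L : Subgroup G).subtype := by
  rw [center_map_subtype]
  simp only [center_map_subtype]
  refine le_antisymm ((sSup_components_inf_centralizer_le (S := {K | Cfsg.IsComponent K})
    fun K hK => hK).trans (iSup₂_le fun K hK => le_iSup
      (fun L : {K : Subgroup G // Cfsg.IsComponent K} =>
        (L : Subgroup G) ⊓ centralizer ((L : Subgroup G) : Set G)) ⟨K, hK⟩)) ?_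
  refine iSup_le fun ⟨L, hL⟩ => le_inf (inf_le_left.trans (IsComponent.le_layer hL)) ?_
  rw [le_centralizer_iff]
  refine layer_le fun K hK => ?_
  by_cases h : K = L
  · subst h
    exact le_centralizer_iff.mp inf_le_right
  · exact (commutator_eq_bot_iff_le_centralizer.mp
      (IsComponent.commutator_eq_bot hK hL h)).trans
        (centralizer_le (SetLike.coe_subset_coe.mpr inf_le_left))

/-- `E(X) = C_{E(X)}(U) [E(X), U]`. -/
theorem layer_eq_centralizer_sup_commutator [Finite G] (U : Subgroup G) :
    Cfsg.layer G = (Cfsg.layer G ⊓ centralizer (U : Set G)) ⊔ ⁅Cfsg.layer G, U⁆ := by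
  set E := Cfsg.layer G with hE
  set D := ⁅E, U⁆ with hD
  have hDE : D ≤ E := commutator_le_left E U
  have hDsn : D.IsSubnormal :=
    IsSubnormal.step D E hDE (layer_normal.isSubnormal)
      (normal_subgroupOf_of_le_normalizer (normalizer_commutator_ge_left E U))
  refine le_antisymm (layer_le fun L hL => ?_) (sup_le inf_le_left hDE)
  rcases IsComponent.le_or_commutes hL hDsn with h | h
  · exact h.trans le_sup_right
  · refine le_trans (le_inf (IsComponent.le_layer hL) ?_) le_sup_left
    rw [← commutator_eq_bot_iff_le_centralizer]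
    exact commutator_eq_bot_of_perfect_of_le (IsComponent.perfect hL)
      (commutator_mono (IsComponent.le_layer hL) le_rfl) (by rwa [commutator_comm])

end Cfsg.Agent.Components
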