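/-
Subgroups generated by `p`-elements / `p'`-elements, and Thompson's `P x Q` lemma in the form used
for components and `p`-layers.
Main results: `mem_centralizer_of_mem_centralizer` (element form of the P x Q lemma),
`le_centralizer_of_le_centralizer` (for subgroups generated by p'-elements),
`pPrimeGen_eq_self_of_perfect`, `pPrimeGen_eq_self_of_coprime`, `pGen_eq_self_of_perfect`,
`pPrimeGen_eq_self_of_commutator_sup`.
-/
import Cfsg.Agent.EqLemmas

namespace Cfsg.Agent.Components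

open Subgroup
open scoped commutatorElement

variable {G : Type*} [Group G] {p : ℕ}

/-- The subgroup generated by the elements of `L` of order prime to `p`. -/
def pPrimeGen (p : ℕ) (L : Subgroup G) : Subgroup G :=
  closure {x | x ∈ L ∧ (orderOf x).Coprime p}

/-- The subgroup generated by the `p`-elements of `L`. -/
def pGen (p : ℕ) (L : Subgroup G) : Subgroup G :=
  closure {x | x ∈ L ∧ ∃ k : ℕ, x ^ p ^ k = 1}

theorem pPrimeGen_le (p : ℕ) (L : Subgroup G) : pPrimeGen p L ≤ L :=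
  (closure_le _).mpr fun _ h => h.1

theorem pGen_le (p : ℕ) (L : Subgroup G) : pGen p L ≤ L :=
  (closure_le _).mpr fun _ h => h.1

theorem pPrimeGen_mono {L M : Subgroup G} (h : L ≤ M) : pPrimeGen p L ≤ pPrimeGen p M :=
  closure_mono fun _ hx => ⟨h hx.1, hx.2⟩

theorem pGen_mono {L M : Subgroup G} (h : L ≤ M) : pGen p L ≤ pGen p M :=
  closure_mono fun _ hx => ⟨h hx.1, hx.2⟩

theorem normalizer_le_normalizer_pPrimeGen (p : ℕ) (L : Subgroup G) :
    normalizer (L : Set G) ≤ normalizer (pPrimeGen p L : Set G) := by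
  refine le_normalizer_closure_iff.mpr ?_
  rintro g hg x ⟨hx, ho⟩
  refine subset_closure ⟨(mem_normalizer_iff.mp hg x).mp hx, ?_⟩
  rwa [← MulAut.conj_apply, MulEquiv.orderOf_eq]

theorem normalizer_le_normalizer_pGen (p : ℕ) (L : Subgroup G) :
    normalizer (L : Set G) ≤ normalizer (pGen p L : Set G) := by
  refine le_normalizer_closure_iff.mpr ?_
  rintro g hg x ⟨hx, k, hk⟩
  refine subset_closure ⟨(mem_normalizer_iff.mp hg x).mp hx, k, ?_⟩
  rw [← MulAut.conj_apply, ← map_pow, hk, map_one]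

theorem pPrimeGen_eq_self_of_coprime {L : Subgroup G} (h : (Nat.card L).Coprime p) :
    pPrimeGen p L = L := by
  refine le_antisymm (pPrimeGen_le p L) fun x hx => subset_closure ⟨hx, ?_⟩
  exact Nat.Coprime.coprime_dvd_left (Subgroup.orderOf_dvd_natCard L hx) h

theorem exists_pow_coprime [Finite G] [Fact p.Prime] (x : G) :
    ∃ k : ℕ, (orderOf (x ^ p ^ k)).Coprime p := by
  obtain ⟨k, m, hm, hkm⟩ := Nat.exists_eq_pow_mul_and_not_dvd (orderOf_pos x).ne' p
    (Fact.out (p := p.Prime)).ne_one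
  refine ⟨k, ?_⟩
  rw [orderOf_pow_of_dvd (pow_ne_zero _ (Fact.out (p := p.Prime)).ne_zero) ⟨m, hkm⟩, hkm,
    Nat.mul_div_cancel_left _ (pow_pos (Fact.out (p := p.Prime)).pos _)]
  exact ((Fact.out (p := p.Prime)).coprime_iff_not_dvd.mpr hm).symm

/-- If `L` is the product of its derived subgroup and its `p'`-generated part then it is generated
by `p'`-elements. -/
theorem pPrimeGen_eq_self_of_commutator_sup [Finite G] [Fact p.Prime] {L : Subgroup G}
    (h : L ≤ ⁅L, L⁆ ⊔ pPrimeGen p L) : pPrimeGen p L = L := by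
  set N := pPrimeGen p L with hN
  have hNL : N ≤ L := pPrimeGen_le p L
  have hn : (N.subgroupOf L).Normal :=
    normal_subgroupOf_of_le_normalizer (le_normalizer.trans (normalizer_le_normalizer_pPrimeGen p L))
  have hp : IsPGroup p (↥L ⧸ N.subgroupOf L) := by
    intro y
    obtain ⟨x, rfl⟩ := QuotientGroup.mk_surjective y
    obtain ⟨k, hk⟩ := exists_pow_coprime (p := p) (x : G)
    refine ⟨k, ?_⟩
    rw [← QuotientGroup.mk_pow, QuotientGroup.eq_one_iff, mem_subgroupOf]
    exact subset_closure ⟨by simpa using pow_mem x.2 _, by simpa using hk⟩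
  have : Group.IsPerfect (↥L ⧸ N.subgroupOf L) := by
    rw [Group.isPerfect_def, eq_top_iff]
    intro y _
    obtain ⟨x, rfl⟩ := QuotientGroup.mk_surjective y
    have hcl : L ≤ ((commutator (↥L ⧸ N.subgroupOf L)).comap
        (QuotientGroup.mk' (N.subgroupOf L))).map L.subtype := by
      refine h.trans (sup_le ?_ ?_)
      · rw [commutator_le]
        intro a ha b hb
        refine ⟨⁅(⟨a, ha⟩ : ↥L), ⟨b, hb⟩⁆, ?_, rfl⟩
        rw [SetLike.mem_coe, mem_comap, map_commutatorElement]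
        exact commutator_mem_commutator (mem_top _) (mem_top _)
      · intro a ha
        refine ⟨⟨a, hNL ha⟩, ?_, rfl⟩
        rw [SetLike.mem_coe, mem_comap, QuotientGroup.mk'_apply,
          (QuotientGroup.eq_one_iff _).mpr (mem_subgroupOf.mpr ha : (⟨a, hNL ha⟩ : ↥L) ∈ N.subgroupOf L)]
        exact one_mem _
    obtain ⟨z, hz, hzx⟩ := hcl x.2
    rwa [Subtype.ext hzx] at hz
  have hnil : Group.IsNilpotent (↥L ⧸ N.subgroupOf L) := hp.isNilpotent
  have hs : Subsingleton (↥L ⧸ N.subgroupOf L) := by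
    by_contra hc
    rw [not_subsingleton_iff_nontrivial] at hc
    exact Group.IsPerfect.not_isNilpotent _ hnil
  refine le_antisymm hNL fun x hx => ?_
  exact mem_subgroupOf.mp <| (QuotientGroup.eq_one_iff (⟨x, hx⟩ : ↥L)).mp (Subsingleton.elim _ _)

theorem pPrimeGen_eq_self_of_perfect [Finite G] [Fact p.Prime] {L : Subgroup G}
    (h : ⁅L, L⁆ = L) : pPrimeGen p L = L :=
  pPrimeGen_eq_self_of_commutator_sup (h.ge.trans le_sup_left)

/-- Thompson's `P x Q` lemma, element form: a `p'`-element normalising the `p`-group `Q` that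
commutes with the `p`-group `P` and with `C_Q(P)` centralises `Q`. -/
theorem mem_centralizer_of_mem_centralizer [Finite G] [Fact p.Prime] {P Q : Subgroup G}
    (hP : IsPGroup p ↥P) (hQ : IsPGroup p ↥Q) (hPQ : P ≤ normalizer (Q : Set G)) {l : G}
    (hl : (orderOf l).Coprime p) (hlQ : l ∈ normalizer (Q : Set G))
    (hlP : l ∈ centralizer (P : Set G))
    (hlC : ∀ y ∈ Q, y ∈ centralizer (P : Set G) → l * y = y * l) :
    l ∈ centralizer (Q : Set G) := by
  set R := Q ⊓ centralizer ({l} : Set G) with hR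
  have hRl : ∀ y ∈ R, l * y = y * l := fun y hy => hy.2 l rfl
  suffices hQR : Q ≤ R by
    exact fun y hy => (hRl y (hQR hy)).symm
  by_contra hne
  set M := Q ⊓ normalizer (R : Set G) with hM
  have hRM : R ≤ M := le_inf inf_le_left le_normalizer
  have hMR : ¬ M ≤ R := by
    have : Group.IsNilpotent ↥Q := hQ.isNilpotent
    have hlt : R.subgroupOf Q < ⊤ :=
      lt_top_iff_ne_top.mpr fun h => hne (subgroupOf_eq_top.mp h)
    obtain ⟨x, hx, hxR⟩ := SetLike.exists_of_lt
      (Group.normalizerCondition_of_isNilpotent (R.subgroupOf Q) hlt)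
    intro hle
    refine hxR (mem_subgroupOf.mpr (hle ⟨x.2, mem_normalizer_iff.mpr fun y => ?_⟩))
    constructor
    · intro hy
      have := (mem_normalizer_iff.mp hx ⟨y, hy.1⟩).mp (mem_subgroupOf.mpr hy)
      exact mem_subgroupOf.mp this
    · intro hy
      have hyQ : y ∈ Q := by
        have h1 := Q.mul_mem (Q.mul_mem (Q.inv_mem x.2) hy.1) x.2
        simpa [mul_assoc] using h1
      have h2 : (x * ⟨y, hyQ⟩ * x⁻¹ : ↥Q) ∈ R.subgroupOf Q := mem_subgroupOf.mpr hy
      exact mem_subgroupOf.mp ((mem_normalizer_iff.mp hx ⟨y, hyQ⟩).mpr h2)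
  have hPl : P ≤ centralizer ({l} : Set G) := fun π hπ y hy => by
    rw [Set.mem_singleton_iff] at hy
    subst hy
    exact (hlP π hπ).symm
  have hPM : P ≤ normalizer (M : Set G) := by
    intro π hπ
    have hπR : π ∈ normalizer (R : Set G) :=
      inf_normalizer_le_normalizer_inf ⟨hPQ hπ, le_normalizer (hPl hπ)⟩
    exact inf_normalizer_le_normalizer_inf ⟨hPQ hπ, le_normalizer hπR⟩
  set T := P ⊔ M with hT
  have hTp : IsPGroup p ↥T := hP.to_sup_of_normal_right' (hQ.to_le inf_le_left) hPM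
  have hTM : T ≤ normalizer (M : Set G) := sup_le hPM le_normalizer
  obtain ⟨n, hn⟩ : ∃ n, T.lowerCentralSeries n = ⊥ :=
    (isNilpotent_iff_lowerCentralSeries T).mp hTp.isNilpotent
  let f : ℕ → Subgroup G := Nat.rec M fun _ A => ⁅A, T⁆
  have hf0 : f 0 = M := rfl
  have hfs : ∀ i, f (i + 1) = ⁅f i, T⁆ := fun _ => rfl
  have hfT : ∀ i, f i ≤ T.lowerCentralSeries i := by
    intro i
    induction i with
    | zero => rw [hf0, Subgroup.lowerCentralSeries_zero]; exact le_sup_right
    | succ i ih => rw [hfs, Subgroup.lowerCentralSeries_succ]; exact commutator_mono ih le_rfl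
  have hfM : ∀ i, f i ≤ M := by
    intro i
    induction i with
    | zero => exact le_of_eq hf0
    | succ i ih =>
      rw [hfs]
      exact (commutator_mono ih le_rfl).trans (le_normalizer_iff_commutator_le_left.mp hTM)
  have hex : ∃ i, ¬ f i ≤ R ∧ f (i + 1) ≤ R := by
    by_contra hc
    have hall : ∀ i, ¬ f i ≤ R := by
      intro i
      induction i with
      | zero => exact hMR
      | succ i ih => exact fun h => hc ⟨i, ih, h⟩
    exact hall n (le_trans (hn ▸ hfT n) bot_le)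
  obtain ⟨i, hi, hi1⟩ := hex
  obtain ⟨x, hxi, hxR⟩ := SetLike.not_le_iff_exists.mp hi
  have hxM : x ∈ M := hfM i hxi
  set c := l * x * l⁻¹ * x⁻¹ with hc
  have hcQ : c ∈ Q := Q.mul_mem ((mem_normalizer_iff.mp hlQ x).mp hxM.1) (Q.inv_mem hxM.1)
  -- `c` centralises `R`
  have hcR : ∀ y ∈ R, c * y = y * c := by
    intro y hy
    have hxyx : x⁻¹ * y * x⁻¹⁻¹ ∈ R :=
      (mem_normalizer_iff.mp (inv_mem hxM.2) y).mp hy
    rw [inv_inv] at hxyx
    have h1 := hRl _ hxyx
    have h2 := hRl _ hy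
    calc c * y = l * x * l⁻¹ * (x⁻¹ * y * x) * x⁻¹ := by rw [hc]; group
      _ = l * x * l⁻¹ * ((x⁻¹ * y * x) * l) * l⁻¹ * x⁻¹ := by group
      _ = l * x * l⁻¹ * (l * (x⁻¹ * y * x)) * l⁻¹ * x⁻¹ := by rw [← h1]
      _ = (l * y) * x * l⁻¹ * x⁻¹ := by group
      _ = (y * l) * x * l⁻¹ * x⁻¹ := by rw [h2]
      _ = y * c := by rw [hc]; group
  have hcP : c ∈ centralizer (P : Set G) := by
    intro π hπ
    set s := ⁅π, x⁆ with hs
    have hsR : s ∈ R := hi1 (by
      rw [hfs, commutator_comm]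
      exact commutator_mem_commutator ((le_sup_left : P ≤ P ⊔ M) hπ) hxi)
    have hls := hRl _ hsR
    have hlπ : l * π = π * l := (hlP π hπ).symm
    have hπ' : π * x * π⁻¹ = s * x := by rw [hs, commutatorElement_def]; group
    have hls' : s⁻¹ * l = l * s⁻¹ := by
      calc s⁻¹ * l = s⁻¹ * (l * s) * s⁻¹ := by group
        _ = s⁻¹ * (s * l) * s⁻¹ := by rw [hls]
        _ = l * s⁻¹ := by group
    have e : π * c * π⁻¹ = c := by
      calc π * c * π⁻¹ = (π * l) * x * l⁻¹ * x⁻¹ * π⁻¹ := by rw [hc]; group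
        _ = l * (π * x * π⁻¹) * (π * l⁻¹) * x⁻¹ * π⁻¹ := by rw [← hlπ]; group
        _ = l * (π * x * π⁻¹) * l⁻¹ * (l * π) * l⁻¹ * x⁻¹ * π⁻¹ := by group
        _ = l * (π * x * π⁻¹) * l⁻¹ * (π * l) * l⁻¹ * x⁻¹ * π⁻¹ := by rw [hlπ]
        _ = l * (π * x * π⁻¹) * l⁻¹ * (π * x * π⁻¹)⁻¹ := by group
        _ = l * (s * x) * l⁻¹ * (s * x)⁻¹ := by rw [hπ']
        _ = (l * s) * x * l⁻¹ * x⁻¹ * s⁻¹ := by group
        _ = s * c * s⁻¹ := by rw [hls, hc]; group
        _ = c := by rw [← hcR s hsR, mul_inv_cancel_right]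
    calc π * c = π * c * π⁻¹ * π := by group
      _ = c * π := by rw [e]
  have hlc : l * c = c * l := hlC c hcQ hcP
  have hiter : ∀ m : ℕ, l ^ m * x * (l ^ m)⁻¹ = c ^ m * x := by
    intro m
    induction m with
    | zero => simp
    | succ m ih =>
      calc l ^ (m + 1) * x * (l ^ (m + 1))⁻¹ = l * (l ^ m * x * (l ^ m)⁻¹) * l⁻¹ := by
            rw [pow_succ']; group
        _ = (l * c ^ m) * x * l⁻¹ := by rw [ih]; group
        _ = (c ^ m * l) * x * l⁻¹ := by rw [(Commute.pow_right hlc m).eq]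
        _ = c ^ (m + 1) * x := by rw [pow_succ, hc]; group
  have hcN : c ^ orderOf l = 1 := by
    have := hiter (orderOf l)
    rw [pow_orderOf_eq_one] at this
    simpa using this.symm
  have hc1 : c = 1 := by
    obtain ⟨k, hk⟩ := hQ ⟨c, hcQ⟩
    have hk' : c ^ p ^ k = 1 := congrArg Subtype.val hk
    have h1 := Nat.dvd_gcd (orderOf_dvd_of_pow_eq_one hcN) (orderOf_dvd_of_pow_eq_one hk')
    rw [(Nat.Coprime.pow_right k hl).gcd_eq_one, Nat.dvd_one, orderOf_eq_one_iff] at h1
    exact h1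
  refine hxR ⟨hxM.1, fun y hy => ?_⟩
  rw [Set.mem_singleton_iff] at hy
  subst hy
  calc y * x = y * x * y⁻¹ * x⁻¹ * (x * y) := by group
    _ = c * (x * y) := by rw [hc]
    _ = x * y := by rw [hc1, one_mul]

/-- Thompson's `P x Q` lemma for a subgroup generated by `p'`-elements. -/
theorem le_centralizer_of_le_centralizer [Finite G] [Fact p.Prime] {P Q L : Subgroup G}
    (hP : IsPGroup p ↥P) (hQ : IsPGroup p ↥Q) (hPQ : P ≤ normalizer (Q : Set G))
    (hL : pPrimeGen p L = L) (hLQ : L ≤ normalizer (Q : Set G))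
    (hLP : L ≤ centralizer (P : Set G))
    (hLC : L ≤ centralizer ((Q ⊓ centralizer (P : Set G) : Subgroup G) : Set G)) :
    L ≤ centralizer (Q : Set G) := by
  rw [← hL, pPrimeGen, closure_le]
  rintro l ⟨hl, ho⟩
  exact mem_centralizer_of_mem_centralizer hP hQ hPQ ho (hLQ hl) (hLP hl)
    fun y hy hy' => (hLC hl y ⟨hy, hy'⟩).symm

end Cfsg.Agent.Components
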