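/-
`p`-components and the `p`-layer of a finite group.
Main results: `not_forall_pElement_central`, `pGen_component_eq_self`, `pComponentOf`,
`isPComponent_pComponentOf`, `eq_pComponentOf`, `existsUnique_isPComponent`,
`map_pLayer`, `IsPComponent.perfect`, `IsPComponent.pLayer_le_normalizer`,
`IsPComponent.inf_pPrimeCore_eq`, `IsPComponent.quotientEquiv`.
-/
import Cfsg.Agent.Lib.Components.Basic
import Cfsg.Agent.Lib.Components.Centralize
import Cfsg.Agent.Lib.Cores.Subnormal

namespace Cfsg.Agent.Components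

open Subgroup
open scoped commutatorElement

variable {G : Type*} [Group G] [Finite G] {p : ℕ} [Fact p.Prime]

/-- In a perfect group whose order is divisible by `p`, some `p`-element is not central. -/
theorem not_dvd_card_of_pElements_central [Group.IsPerfect G]
    (h : ∀ x : G, (∃ k : ℕ, x ^ p ^ k = 1) → x ∈ center G) : ¬ p ∣ Nat.card G := by
  obtain ⟨P⟩ := (Sylow.nonempty (p := p) (G := G))
  have hPc : (P : Subgroup G) ≤ center G := fun x hx => by
    obtain ⟨k, hk⟩ := P.isPGroup' ⟨x, hx⟩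
    exact h x ⟨k, congrArg Subtype.val hk⟩
  have hN : normalizer ((P : Subgroup G) : Set G) ≤ centralizer ((P : Subgroup G) : Set G) := by
    intro g _ y hy
    exact ((mem_center_iff.mp (hPc hy)) g).symm
  have hker : (MonoidHom.transferSylow P hN).ker = ⊤ := by
    rw [eq_top_iff, ← Group.IsPerfect.commutator_eq_top (G := G), _root_.commutator_def,
      commutator_le]
    intro a _ b _
    rw [MonoidHom.mem_ker, map_commutatorElement, commutatorElement_eq_one_iff_mul_comm]
    exact Subtype.ext (mem_center_iff.mp (hPc (MonoidHom.transferSylow P hN b).2) _)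
  have := MonoidHom.not_dvd_card_ker_transferSylow P hN
  rwa [hker, card_top] at this

omit [Fact p.Prime] in
/-- A component of a group with trivial `p'`-core has order divisible by `p`. -/
theorem IsComponent.not_coprime (hO : Cfsg.pPrimeCore p G = ⊥) {L : Subgroup G}
    (hL : Cfsg.IsComponent L) : ¬ (Nat.card L).Coprime p := fun h =>
  IsComponent.ne_bot hL (le_bot_iff.mp (hO ▸ Cores.le_pPrimeCore_of_isSubnormal hL.1 h))

theorem IsComponent.dvd_card (hO : Cfsg.pPrimeCore p G = ⊥) {L : Subgroup G}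
    (hL : Cfsg.IsComponent L) : p ∣ Nat.card L := by
  by_contra h
  exact IsComponent.not_coprime hO hL
    (((Fact.out (p := p.Prime)).coprime_iff_not_dvd.mpr h).symm)

/-- A component of a group with trivial `p'`-core has a non-central `p`-element. -/
theorem IsComponent.exists_pElement_not_central (hO : Cfsg.pPrimeCore p G = ⊥) {L : Subgroup G}
    (hL : Cfsg.IsComponent L) : ∃ x ∈ L, (∃ k : ℕ, x ^ p ^ k = 1) ∧ x ∉ centralizer (L : Set G) := by
  have := hL.2.1
  by_contra hc
  refine not_dvd_card_of_pElements_central (G := ↥L) (p := p) ?_ (IsComponent.dvd_card hO hL)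
  rintro x ⟨k, hk⟩
  refine mem_center_iff.mpr fun y => Subtype.ext ?_
  by_contra hne
  refine hc ⟨x, x.2, ⟨k, by simpa using congrArg Subtype.val hk⟩, fun hx => hne ?_⟩
  exact hx y y.2

/-- A component of a group with trivial `p'`-core is generated by its `p`-elements. -/
theorem IsComponent.pGen_eq (hO : Cfsg.pPrimeCore p G = ⊥) {L : Subgroup G}
    (hL : Cfsg.IsComponent L) : pGen p L = L := by
  have hn : ((pGen p L).subgroupOf L).Normal :=
    normal_subgroupOf_of_le_normalizer (le_normalizer.trans (normalizer_le_normalizer_pGen p L))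
  rcases IsQuasisimple.normal_eq_top_or_le_center hL.2 ((pGen p L).subgroupOf L) with h | h
  · exact le_antisymm (pGen_le p L) (subgroupOf_eq_top.mp h)
  · obtain ⟨x, hx, hk, hxc⟩ := IsComponent.exists_pElement_not_central hO hL
    exact absurd (center_map_subtype_le_centralizer L ⟨⟨x, hx⟩,
      h (mem_subgroupOf.mpr (subset_closure ⟨hx, hk⟩)), rfl⟩) hxc

/-! ### Lifting through a normal `p'`-subgroup -/

omit [Finite G] [Fact p.Prime] in
/-- The `p`-elements of the image lift to `p`-elements. -/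
theorem map_pGen_of_ker_coprime {Q : Type*} [Group Q] (f : G →* Q)
    (hker : (Nat.card f.ker).Coprime p) (H : Subgroup G) :
    (pGen p H).map f = pGen p (H.map f) := by
  rw [pGen, MonoidHom.map_closure]
  refine le_antisymm (closure_mono ?_) ((closure_le _).mpr ?_)
  · rintro _ ⟨x, ⟨hx, k, hk⟩, rfl⟩
    exact ⟨⟨x, hx, rfl⟩, k, by rw [← map_pow, hk, map_one]⟩
  · rintro y ⟨⟨g, hg, rfl⟩, k, hk⟩
    set m := Nat.card f.ker with hm
    have h1 : g ^ p ^ k ∈ f.ker := by rw [MonoidHom.mem_ker, map_pow, hk]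
    have h2 : (g ^ m) ^ p ^ k = 1 := by
      rw [← pow_mul, mul_comm, pow_mul]
      exact orderOf_dvd_iff_pow_eq_one.mp (orderOf_dvd_natCard f.ker h1)
    have hmem : f (g ^ m) ∈ closure (f '' {x | x ∈ H ∧ ∃ k : ℕ, x ^ p ^ k = 1}) :=
      subset_closure ⟨g ^ m, ⟨H.pow_mem hg m, k, h2⟩, rfl⟩
    have hco : (orderOf (f g)).Coprime m :=
      Nat.Coprime.coprime_dvd_left (orderOf_dvd_of_pow_eq_one hk) (hker.symm.pow_left k)
    obtain ⟨j, hj⟩ := exists_pow_eq_self_of_coprime hco.symm
    rw [SetLike.mem_coe, ← hj, ← map_pow]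
    exact (map_pow f (g ^ m) j) ▸ pow_mem hmem j

omit [Finite G] [Fact p.Prime] in
/-- If `H` is subnormal and `G = H Y` with `Y` a normal `p'`-subgroup then `H` contains all
`p`-elements of `G`. -/
theorem mem_of_pElement_of_isSubnormal_sup {H Y : Subgroup G} [hY : Y.Normal]
    (hH : H.IsSubnormal) (hco : (Nat.card Y).Coprime p) (hsup : H ⊔ Y = ⊤) {x : G} {k : ℕ}
    (hx : x ^ p ^ k = 1) : x ∈ H := by
  induction hH with
  | top => exact mem_top x
  | step A M hle hM hN ih =>
    have hxM : x ∈ M := ih (top_le_iff.mp (hsup ▸ sup_le_sup_right hle Y))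
    have hxs : x ∈ A ⊔ Y := hsup ▸ mem_top x
    obtain ⟨a, ha, y, hy, hay⟩ := mem_sup_of_normal_right.mp hxs
    have hyM : y ∈ M := by
      have := M.mul_mem (M.inv_mem (hle ha)) (hay ▸ hxM)
      simpa using this
    have := hN
    let π := QuotientGroup.mk' (A.subgroupOf M)
    have h1 : π ⟨x, hxM⟩ = π ⟨y, hyM⟩ := by
      have e : (⟨x, hxM⟩ : ↥M) = ⟨a, hle ha⟩ * ⟨y, hyM⟩ := Subtype.ext hay.symm
      have e' : π ⟨a, hle ha⟩ = 1 :=
        (QuotientGroup.eq_one_iff _).mpr (mem_subgroupOf.mpr ha)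
      rw [e, map_mul, e', one_mul]
    have h2 : π ⟨x, hxM⟩ ^ Nat.card Y = 1 := by
      rw [h1, ← map_pow]
      convert map_one π using 2
      exact Subtype.ext (orderOf_dvd_iff_pow_eq_one.mp (orderOf_dvd_natCard Y hy))
    have h3 : π ⟨x, hxM⟩ ^ p ^ k = 1 := by
      rw [← map_pow]
      convert map_one π using 2
      exact Subtype.ext hx
    have h4 := pow_gcd_eq_one.mpr ⟨h2, h3⟩
    rw [(hco.pow_right k).gcd_eq_one, pow_one] at h4
    exact mem_subgroupOf.mp ((QuotientGroup.eq_one_iff _).mp h4)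

omit [Finite G] [Fact p.Prime] in
/-- If `H ≤ K` is subnormal and `K ≤ H Y` for a normal `p'`-subgroup `Y`, then `H` contains all
`p`-elements of `K`. -/
theorem pGen_le_of_le_sup {H K Y : Subgroup G} [Y.Normal] (hH : H.IsSubnormal) (hHK : H ≤ K)
    (hco : (Nat.card Y).Coprime p) (hK : K ≤ H ⊔ Y) : pGen p K ≤ H := by
  rw [pGen, closure_le]
  rintro x ⟨hx, k, hk⟩
  have hsup : H.subgroupOf K ⊔ Y.subgroupOf K = ⊤ := by
    rw [eq_top_iff]
    intro z _
    obtain ⟨h, hh, y, hy, hz⟩ := mem_sup_of_normal_right.mp (hK z.2)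
    have hyK : y ∈ K := by
      have := K.mul_mem (K.inv_mem (hHK hh)) (hz ▸ z.2)
      simpa using this
    exact mem_sup_of_normal_right.mpr ⟨⟨h, hHK hh⟩, mem_subgroupOf.mpr hh, ⟨y, hyK⟩,
      mem_subgroupOf.mpr hy, Subtype.ext hz⟩
  have hco' : (Nat.card (Y.subgroupOf K)).Coprime p := by
    refine hco.coprime_dvd_left ?_
    rw [← Cores.card_map_subtype K, subgroupOf_map_subtype]
    exact Subgroup.card_dvd_of_le inf_le_left
  exact mem_subgroupOf.mp (mem_of_pElement_of_isSubnormal_sup (hH.subgroupOf (K := K)) hco' hsup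
    (x := ⟨x, hx⟩) (k := k) (Subtype.ext hk))

/-! ### `p`-components -/

/-- The smallest subnormal subgroup over a component `K` of `G / O_{p'}(G)`. -/
def pComponentOf (p : ℕ) (K : Subgroup (G ⧸ Cfsg.pPrimeCore p G)) : Subgroup G :=
  pGen p (K.comap (QuotientGroup.mk' (Cfsg.pPrimeCore p G)))

theorem map_pComponentOf {K : Subgroup (G ⧸ Cfsg.pPrimeCore p G)} (hK : Cfsg.IsComponent K) :
    (pComponentOf p K).map (QuotientGroup.mk' (Cfsg.pPrimeCore p G)) = K := by
  rw [pComponentOf, map_pGen_of_ker_coprime _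
    (by rw [QuotientGroup.ker_mk']; exact Cores.coprime_card_pPrimeCore p) _,
    map_comap_eq_self_of_surjective (QuotientGroup.mk'_surjective _)]
  exact IsComponent.pGen_eq (Cores.pPrimeCore_quotient_self p) hK

omit [Finite G] [Fact p.Prime] in
theorem isSubnormal_pComponentOf {K : Subgroup (G ⧸ Cfsg.pPrimeCore p G)}
    (hK : Cfsg.IsComponent K) : (pComponentOf p K).IsSubnormal :=
  IsSubnormal.step _ _ (pGen_le p _) (hK.1.comap _)
    (normal_subgroupOf_of_le_normalizer (le_normalizer.trans (normalizer_le_normalizer_pGen p _)))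

omit [Fact p.Prime] in
theorem pComponentOf_le {H : Subgroup G} (hH : H.IsSubnormal)
    {K : Subgroup (G ⧸ Cfsg.pPrimeCore p G)}
    (hmap : H.map (QuotientGroup.mk' (Cfsg.pPrimeCore p G)) = K) : pComponentOf p K ≤ H := by
  refine pGen_le_of_le_sup (Y := Cfsg.pPrimeCore p G) hH ?_ (Cores.coprime_card_pPrimeCore p) ?_
  · rw [← hmap]; exact le_comap_map _ _
  · rw [← hmap, comap_map_eq, QuotientGroup.ker_mk']

theorem isPComponent_pComponentOf {K : Subgroup (G ⧸ Cfsg.pPrimeCore p G)}
    (hK : Cfsg.IsComponent K) : Cfsg.IsPComponent p (pComponentOf p K) :=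
  ⟨isSubnormal_pComponentOf hK, by rw [map_pComponentOf hK]; exact hK, fun H hH hle hmap =>
    le_antisymm hle (pComponentOf_le hH (hmap.trans (map_pComponentOf hK)))⟩

theorem IsPComponent.eq_pComponentOf {K : Subgroup G} (hK : Cfsg.IsPComponent p K) :
    K = pComponentOf p (K.map (QuotientGroup.mk' (Cfsg.pPrimeCore p G))) :=
  (hK.2.2 _ (isSubnormal_pComponentOf hK.2.1) (pComponentOf_le hK.1 rfl)
    (map_pComponentOf hK.2.1)).symm

theorem existsUnique_isPComponent {Kbar : Subgroup (G ⧸ Cfsg.pPrimeCore p G)}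
    (hK : Cfsg.IsComponent Kbar) : ∃! K : Subgroup G,
      Cfsg.IsPComponent p K ∧ K.map (QuotientGroup.mk' (Cfsg.pPrimeCore p G)) = Kbar :=
  ⟨pComponentOf p Kbar, ⟨isPComponent_pComponentOf hK, map_pComponentOf hK⟩,
    fun K hK' => by rw [← hK'.2]; exact IsPComponent.eq_pComponentOf hK'.1⟩

omit [Finite G] [Fact p.Prime] in
theorem IsPComponent.le_pLayer {K : Subgroup G} (hK : Cfsg.IsPComponent p K) :
    K ≤ Cfsg.pLayer p G :=
  le_sSup hK

theorem map_pLayer : (Cfsg.pLayer p G).map (QuotientGroup.mk' (Cfsg.pPrimeCore p G)) =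
    Cfsg.layer (G ⧸ Cfsg.pPrimeCore p G) := by
  refine le_antisymm (map_le_iff_le_comap.mpr (sSup_le fun K hK => map_le_iff_le_comap.mp
    (IsComponent.le_layer hK.2.1))) (layer_le fun L hL => ?_)
  exact (map_pComponentOf hL).ge.trans
    (map_mono (IsPComponent.le_pLayer (isPComponent_pComponentOf hL)))

omit [Finite G] [Fact p.Prime] in
theorem IsPComponent.perfect {K : Subgroup G} (hK : Cfsg.IsPComponent p K) : ⁅K, K⁆ = K := by
  have hle : ⁅K, K⁆ ≤ K := commutator_le_self K
  refine hK.2.2 _ ?_ hle ?_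
  · exact IsSubnormal.step _ _ hle hK.1
      (normal_subgroupOf_of_le_normalizer (normalizer_commutator_ge_left K K))
  · rw [map_commutator, IsComponent.perfect hK.2.1]

omit [Finite G] [Fact p.Prime] in
theorem IsPComponent.not_le_pPrimeCore {K : Subgroup G} (hK : Cfsg.IsPComponent p K) :
    ¬ K ≤ Cfsg.pPrimeCore p G := fun h =>
  IsComponent.ne_bot hK.2.1 (by rw [Subgroup.map_eq_bot_iff, QuotientGroup.ker_mk']; exact h)

omit [Finite G] [Fact p.Prime] in
theorem IsPComponent.ne_bot {K : Subgroup G} (hK : Cfsg.IsPComponent p K) : K ≠ ⊥ := fun h =>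
  IsPComponent.not_le_pPrimeCore hK (h ▸ bot_le)

theorem IsPComponent.pGen_eq {K : Subgroup G} (hK : Cfsg.IsPComponent p K) : pGen p K = K := by
  refine le_antisymm (pGen_le p K) ?_
  conv_lhs => rw [IsPComponent.eq_pComponentOf hK]
  rw [pComponentOf, pGen, closure_le]
  rintro x ⟨hx, k, hk⟩
  refine subset_closure ⟨?_, k, hk⟩
  rw [IsPComponent.eq_pComponentOf hK]
  exact subset_closure ⟨hx, k, hk⟩

theorem IsPComponent.pLayer_le_normalizer {K : Subgroup G} (hK : Cfsg.IsPComponent p K) :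
    Cfsg.pLayer p G ≤ normalizer (K : Set G) := by
  set π := QuotientGroup.mk' (Cfsg.pPrimeCore p G)
  intro g hg
  have h1 : π g ∈ normalizer ((K.map π : Subgroup _) : Set (G ⧸ Cfsg.pPrimeCore p G)) :=
    IsComponent.layer_le_normalizer hK.2.1 (map_pLayer.le ⟨g, hg, rfl⟩)
  rw [IsPComponent.eq_pComponentOf hK]
  exact normalizer_le_normalizer_pGen p _ (le_normalizer_comap π h1)

omit [Fact p.Prime] in
/-- The `p'`-core of a `p`-component `K` is `K ⊓ O_{p'}(G)`. -/
theorem IsPComponent.inf_pPrimeCore_eq {K : Subgroup G} (hK : Cfsg.IsPComponent p K) :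
    (Cfsg.pPrimeCore p ↥K).map K.subtype = K ⊓ Cfsg.pPrimeCore p G := by
  refine le_antisymm (le_inf (map_subtype_le _) ?_) ?_
  · refine Cores.le_pPrimeCore_of_isSubnormal
      ((Cores.pPrimeCore_normal p ↥K).isSubnormal.trans' hK.1) ?_
    rw [Cores.card_map_subtype]
    exact Cores.coprime_card_pPrimeCore p
  · have h : (Cfsg.pPrimeCore p G).subgroupOf K ≤ Cfsg.pPrimeCore p ↥K := by
      refine Cores.le_pPrimeCore inferInstance ?_
      refine (Cores.coprime_card_pPrimeCore (G := G) p).coprime_dvd_left ?_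
      rw [← Cores.card_map_subtype K, subgroupOf_map_subtype]
      exact Subgroup.card_dvd_of_le inf_le_left
    intro x hx
    exact ⟨⟨x, hx.1⟩, h (mem_subgroupOf.mpr hx.2), rfl⟩

/-- `K / O_{p'}(K)` is isomorphic to the component `K̄` of `G / O_{p'}(G)`. -/
noncomputable def IsPComponent.quotientEquiv {K : Subgroup G} (hK : Cfsg.IsPComponent p K) :
    ↥K ⧸ Cfsg.pPrimeCore p ↥K ≃* ↥(K.map (QuotientGroup.mk' (Cfsg.pPrimeCore p G))) :=
  (QuotientGroup.quotientMulEquivOfEq (by
      apply Subgroup.map_injective (subtype_injective K)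
      rw [IsPComponent.inf_pPrimeCore_eq hK]
      ext x
      simp only [mem_inf, mem_map, MonoidHom.mem_ker, MonoidHom.domRestrict_apply]
      constructor
      · rintro ⟨hx, hx'⟩
        exact ⟨⟨x, hx⟩, (QuotientGroup.eq_one_iff x).mpr hx', rfl⟩
      · rintro ⟨y, hy, rfl⟩
        exact ⟨y.2, (QuotientGroup.eq_one_iff _).mp hy⟩)).trans
    (QuotientGroup.quotientKerEquivRange
      ((QuotientGroup.mk' (Cfsg.pPrimeCore p G)).domRestrict K)) |>.trans
    (MulEquiv.subgroupCongr (MonoidHom.domRestrict_range _ _))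

omit [Fact p.Prime] in
theorem IsPComponent.isQuasisimple_quotient {K : Subgroup G} (hK : Cfsg.IsPComponent p K) :
    Cfsg.IsQuasisimple (↥K ⧸ Cfsg.pPrimeCore p ↥K) :=
  (isQuasisimple_congr (IsPComponent.quotientEquiv hK)).mpr hK.2.1.2

end Cfsg.Agent.Components
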