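/-
Components and cores in normalisers of `p`-subgroups.
Main results: `IsComponent.of_le_subnormal`, `le_centralizer_pCore_of`, `preimage_layer_pPrimeGen`,
`preimage_layer_le_centralizer`, `centralizerPPrimeCore_le_centralizer_pCore`,
`conj_component_eq_of_commutator_mem` (p'-elements commuting with a p-subgroup fix components),
`centralizerPPrimeCore_le_normalizer_component`.
-/
import Cfsg.Agent.Lib.Components.GenFitting
import Cfsg.Agent.Lib.Components.PComponent

namespace Cfsg.Agent.Components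

open Subgroup
open scoped commutatorElement

variable {G : Type*} [Group G] {p : ℕ}

theorem pPrimeGen_map {G' : Type*} [Group G'] (f : G →* G') {M : Subgroup G}
    (h : pPrimeGen p M = M) : pPrimeGen p (M.map f) = M.map f := by
  refine le_antisymm (pPrimeGen_le p _) ?_
  conv_lhs => rw [← h, pPrimeGen, MonoidHom.map_closure]
  refine closure_mono ?_
  rintro _ ⟨x, ⟨hx, ho⟩, rfl⟩
  exact ⟨mem_map_of_mem f hx, ho.coprime_dvd_left (orderOf_map_dvd f x)⟩

/-- A component of `H` inside a subnormal subgroup `C ≤ H` of `G` is a component of `G`. -/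
theorem IsComponent.of_le_subnormal {H C : Subgroup G} (hC : C.IsSubnormal) (hCH : C ≤ H)
    {L : Subgroup ↥H} (hL : Cfsg.IsComponent L) (hLC : L.map H.subtype ≤ C) :
    Cfsg.IsComponent (L.map H.subtype) := by
  refine IsComponent.of_subgroupOf hC hLC ⟨?_, ?_⟩
  · have h := hL.1.comap (inclusion hCH)
    have e : (L.map H.subtype).subgroupOf C = L.comap (inclusion hCH) := by
      ext ⟨x, hx⟩
      simp [mem_subgroupOf, mem_map, hCH hx]
      exact Iff.rfl
    rwa [e]
  · rw [← isQuasisimple_map_iff (subtype_injective C), map_subgroupOf_eq_of_le hLC,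
      isQuasisimple_map_iff (subtype_injective H)]
    exact hL.2

section Coprime

variable [Finite G] [Fact p.Prime]

/-- A subgroup of `N(P)` generated by `p'`-elements that centralises every normal `p`-subgroup of
`N(P)` centralises `O_p(G)`. -/
theorem le_centralizer_pCore_of {P : Subgroup G} (hP : IsPGroup p ↥P)
    (M : Subgroup ↥(normalizer (P : Set G))) (hM : pPrimeGen p M = M)
    (hMc : ∀ R : Subgroup ↥(normalizer (P : Set G)), R.Normal → IsPGroup p ↥R →
      M ≤ centralizer (R : Set ↥(normalizer (P : Set G)))) :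
    M.map (normalizer (P : Set G)).subtype ≤ centralizer (Cfsg.pCore p G : Set G) := by
  set N := normalizer (P : Set G) with hN
  set Q := Cfsg.pCore p G with hQdef
  have hQn : normalizer (Q : Set G) = ⊤ := normalizer_eq_top_iff.mpr inferInstance
  refine le_centralizer_of_le_centralizer hP (Cores.isPGroup_pCore p G) (hQn ▸ le_top)
    (pPrimeGen_map _ hM) (hQn ▸ le_top) ?_ ?_
  · have h := hMc (P.subgroupOf N) normal_in_normalizer
      (hP.of_equiv (subgroupOfEquivOfLe le_normalizer).symm)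
    rintro _ ⟨m, hm, rfl⟩ y hy
    exact congrArg Subtype.val (h hm ⟨y, le_normalizer hy⟩ (mem_subgroupOf.mpr hy))
  · have hp : IsPGroup p ↥(Q.subgroupOf N) := (Cores.isPGroup_pCore p G).comap_subtype
    have h := hMc (Q.subgroupOf N) inferInstance hp
    rintro _ ⟨m, hm, rfl⟩ y ⟨hyQ, hyP⟩
    have hyN : y ∈ N := centralizer_le_normalizer (P : Set G) hyP
    exact congrArg Subtype.val (h hm ⟨y, hyN⟩ (mem_subgroupOf.mpr hyQ))

/-- The preimage of `E(G / O_{p'}(G))` is generated by `p'`-elements. -/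
theorem preimage_layer_pPrimeGen :
    pPrimeGen p ((Cfsg.layer (G ⧸ Cfsg.pPrimeCore p G)).comap
        (QuotientGroup.mk' (Cfsg.pPrimeCore p G))) =
      (Cfsg.layer (G ⧸ Cfsg.pPrimeCore p G)).comap
        (QuotientGroup.mk' (Cfsg.pPrimeCore p G)) := by
  set O := Cfsg.pPrimeCore p G
  set π := QuotientGroup.mk' O
  set M := (Cfsg.layer (G ⧸ O)).comap π
  refine pPrimeGen_eq_self_of_commutator_sup ?_
  have hO : O ≤ pPrimeGen p M := by
    rw [← pPrimeGen_eq_self_of_coprime (L := O) (Cores.coprime_card_pPrimeCore p)]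
    exact pPrimeGen_mono (by rw [← QuotientGroup.ker_mk' O]; exact ker_le_comap _ _)
  refine le_trans ?_ (sup_le_sup_left hO _)
  intro m hm
  have h1 : π m ∈ ⁅M, M⁆.map π := by
    rw [map_commutator, map_comap_eq_self_of_surjective (QuotientGroup.mk'_surjective O),
      layer_perfect]
    exact hm
  obtain ⟨a, ha, ham⟩ := h1
  exact mem_sup_of_normal_right.mpr ⟨a, ha, a⁻¹ * m, QuotientGroup.eq.mp ham,
    mul_inv_cancel_left a m⟩

omit [Fact p.Prime] in
theorem preimage_layer_le_centralizer [Fact p.Prime] (R : Subgroup G) [R.Normal]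
    (hR : IsPGroup p ↥R) :
    (Cfsg.layer (G ⧸ Cfsg.pPrimeCore p G)).comap (QuotientGroup.mk' (Cfsg.pPrimeCore p G)) ≤
      centralizer (R : Set G) := by
  set O := Cfsg.pPrimeCore p G
  set π := QuotientGroup.mk' O
  set M := (Cfsg.layer (G ⧸ O)).comap π
  rw [← commutator_eq_bot_iff_le_centralizer, ← le_bot_iff]
  have h1 : ⁅M, R⁆ ≤ R := commutator_le_right M R
  have hn : (R.map π).Normal := Normal.map inferInstance π (QuotientGroup.mk'_surjective O)
  have hp : Group.IsNilpotent ↥(R.map π) := (hR.map π).isNilpotent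
  have h2 : ⁅M, R⁆ ≤ O := by
    rw [← QuotientGroup.ker_mk' O, ← Subgroup.map_eq_bot_iff, map_commutator,
      commutator_eq_bot_iff_le_centralizer]
    exact (map_comap_le _ _).trans (layer_le_centralizer_of_solvable inferInstance
      (normalizer_eq_top (H := R.map π) ▸ le_top))
  obtain ⟨n, hn'⟩ := IsPGroup.iff_card.mp hR
  have h3 : R ⊓ O = ⊥ := inf_eq_bot_of_coprime
    (hn' ▸ (Cores.coprime_card_pPrimeCore (G := G) p).symm.pow_left n)
  exact h3 ▸ le_inf h1 h2

theorem pPrimeCore_le_centralizer_of_normal (R : Subgroup G) [R.Normal] (hR : IsPGroup p ↥R) :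
    Cfsg.pPrimeCore p G ≤ centralizer (R : Set G) := fun _ hy _ hx =>
  Cores.pCore_pPrimeCore_commute (Cores.le_pCore inferInstance hR hx) hy

/-- `O_{p'}(C_G(x))` centralises `O_p(G)` for a `p`-element `x`. -/
theorem centralizerPPrimeCore_le_centralizer_pCore {x : G} (hx : IsPGroup p ↥(zpowers x)) :
    Cfsg.centralizerPPrimeCore p x ≤ centralizer (Cfsg.pCore p G : Set G) := by
  set C := centralizer ({x} : Set G) with hC
  set Q := Cfsg.pCore p G
  have hQn : normalizer (Q : Set G) = ⊤ := normalizer_eq_top_iff.mpr inferInstance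
  refine le_centralizer_of_le_centralizer hx (Cores.isPGroup_pCore p G) (hQn ▸ le_top)
    (pPrimeGen_map _ (pPrimeGen_eq_self_of_coprime (Cores.coprime_card_pPrimeCore p)))
    (hQn ▸ le_top) ((map_subtype_le _).trans ?_) ?_
  · rw [zpowers_eq_closure, centralizer_closure]
  · rintro _ ⟨m, hm, rfl⟩ y ⟨hyQ, hyP⟩
    have hyC : y ∈ C := fun z hz => by
      rw [Set.mem_singleton_iff] at hz
      subst hz
      exact hyP z (mem_zpowers z)
    have hp : IsPGroup p ↥(Q.subgroupOf C) := (Cores.isPGroup_pCore p G).comap_subtype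
    exact congrArg Subtype.val
      (pPrimeCore_le_centralizer_of_normal (Q.subgroupOf C) hp hm ⟨y, hyC⟩
        (mem_subgroupOf.mpr hyQ))

theorem layer_center_le_pCore (hO : Cfsg.pPrimeCore p G = ⊥) :
    Cfsg.layer G ⊓ centralizer (Cfsg.layer G : Set G) ≤ Cfsg.pCore p G := by
  rw [← fitting_inf_layer_eq, fitting_eq_pCore_of hO]
  exact inf_le_left

/-- A `p'`-element commuting with the `p`-group `P` and with `O_p(G)` and acting trivially on
`C_{E(G)}(P)` modulo a `p'`-subgroup normalises every component of `G`. -/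
theorem conj_component_eq_of_commutator_mem (hO : Cfsg.pPrimeCore p G = ⊥) {P Y : Subgroup G}
    (hP : IsPGroup p ↥P) (hY : (Nat.card Y).Coprime p) {k : G} (hk : (orderOf k).Coprime p)
    (hkP : k ∈ centralizer (P : Set G)) (hkQ : k ∈ centralizer (Cfsg.pCore p G : Set G))
    (hkY : ∀ c ∈ Cfsg.layer G, c ∈ centralizer (P : Set G) → k * c * k⁻¹ * c⁻¹ ∈ Y)
    {L : Subgroup G} (hL : Cfsg.IsComponent L) :
    L.map (MulAut.conj k).toMonoidHom = L := by
  have hconj : ∀ (a b : G) (K : Subgroup G), (K.map (MulAut.conj b).toMonoidHom).map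
      (MulAut.conj a).toMonoidHom = K.map (MulAut.conj (a * b)).toMonoidHom := by
    intro a b K
    rw [Subgroup.map_map]
    congr 1
    ext g
    simp [mul_assoc]
  have hone : ∀ K : Subgroup G, K.map (MulAut.conj (1 : G)).toMonoidHom = K := by
    intro K
    ext g
    simp [mem_map]
  set orb : Set (Subgroup G) := {M | ∃ π ∈ P, M = L.map (MulAut.conj π).toMonoidHom} with horb
  have horbC : ∀ M ∈ orb, Cfsg.IsComponent M := by
    rintro _ ⟨π, _, rfl⟩
    exact IsComponent.conj hL π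
  set EO : Subgroup G := sSup orb with hEO
  have hLEO : L ≤ EO := le_sSup ⟨1, P.one_mem, (hone L).symm⟩
  have hEOE : EO ≤ Cfsg.layer G := sSup_le fun M hM => IsComponent.le_layer (horbC M hM)
  have hPEO : P ≤ normalizer (EO : Set G) := by
    have key : ∀ π ∈ P, EO.map (MulAut.conj π).toMonoidHom ≤ EO := by
      intro π hπ
      rw [Subgroup.map_le_iff_le_comap]
      refine sSup_le ?_
      rintro _ ⟨ρ, hρ, rfl⟩
      rw [← Subgroup.map_le_iff_le_comap, hconj]
      exact le_sSup ⟨π * ρ, P.mul_mem hπ hρ, rfl⟩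
    intro π hπ
    rw [mem_normalizer_iff]
    refine fun g => ⟨fun hg => key π hπ ⟨g, hg, rfl⟩, fun hg => ?_⟩
    simpa [mul_assoc] using key π⁻¹ (P.inv_mem hπ) ⟨_, hg, rfl⟩
  set Z := EO ⊓ centralizer (EO : Set G) with hZ
  -- a `p`-element `s` of `EO` outside the centre with `[P, s]` central
  obtain ⟨s, hsEO, hsp, hsZ, hsP⟩ : ∃ s ∈ EO, (∃ j : ℕ, s ^ p ^ j = 1) ∧ s ∉ Z ∧
      ∀ π ∈ P, π * s * π⁻¹ * s⁻¹ ∈ Z := by
    set W := P ⊔ EO with hW
    obtain ⟨T, hT⟩ := (hP.of_equiv (subgroupOfEquivOfLe (le_sup_left : P ≤ W)).symm).exists_le_sylow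
    set T' := (T : Subgroup ↥W).map W.subtype with hT'
    have hT'p : IsPGroup p ↥T' := T.isPGroup'.map _
    have hT'W : T' ≤ W := map_subtype_le _
    have hPT : P ≤ T' := fun π hπ =>
      ⟨⟨π, (le_sup_left : P ≤ W) hπ⟩, hT (mem_subgroupOf.mpr hπ), rfl⟩
    have hWn : W ≤ normalizer (EO : Set G) := sup_le hPEO le_normalizer
    have hWc : W ≤ normalizer (centralizer (EO : Set G) : Set G) := by
      refine hWn.trans fun g hg => mem_normalizer_iff.mpr fun u => ?_
      constructor
      · intro hu y hy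
        have := hu _ ((mem_normalizer_iff.mp (inv_mem hg) y).mp hy)
        calc y * (g * u * g⁻¹) = g * (g⁻¹ * y * g⁻¹⁻¹ * u) * g⁻¹ := by group
          _ = g * (u * (g⁻¹ * y * g⁻¹⁻¹)) * g⁻¹ := by rw [this]
          _ = g * u * g⁻¹ * y := by group
      · intro hu y hy
        have := hu _ ((mem_normalizer_iff.mp hg y).mp hy)
        calc y * u = g⁻¹ * (g * y * g⁻¹ * (g * u * g⁻¹)) * g := by group
          _ = g⁻¹ * (g * u * g⁻¹ * (g * y * g⁻¹)) * g := by rw [this]
          _ = u * y := by group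
    set S := T' ⊓ EO with hS
    have hSZ : ¬ S ≤ Z := by
      intro hle
      obtain ⟨g, hgL, ⟨j, hj⟩, hgc⟩ := IsComponent.exists_pElement_not_central hO hL
      have hgW : g ∈ W := (le_sup_right : EO ≤ W) (hLEO hgL)
      have hgp : IsPGroup p ↥(zpowers (⟨g, hgW⟩ : ↥W)) := by
        rintro ⟨a, m, rfl⟩
        refine ⟨j, Subtype.ext ?_⟩
        show ((⟨g, hgW⟩ : ↥W) ^ m) ^ p ^ j = 1
        rw [← zpow_natCast, ← zpow_mul, mul_comm, zpow_mul, zpow_natCast,
          show (⟨g, hgW⟩ : ↥W) ^ p ^ j = 1 from Subtype.ext hj, one_zpow]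
      obtain ⟨R, hR⟩ := hgp.exists_le_sylow
      obtain ⟨w, hw⟩ := MulAction.exists_smul_eq ↥W R T
      have hgT : (w : G) * g * (w : G)⁻¹ ∈ T' := by
        refine ⟨w * ⟨g, hgW⟩ * w⁻¹, ?_, rfl⟩
        rw [← hw]
        exact ⟨⟨g, hgW⟩, hR (mem_zpowers _), rfl⟩
      have hgS : (w : G) * g * (w : G)⁻¹ ∈ EO :=
        (mem_normalizer_iff.mp (hWn w.2) g).mp (hLEO hgL)
      exact hgc (centralizer_le (SetLike.coe_subset_coe.mpr hLEO)
        ((mem_normalizer_iff.mp (hWc w.2) g).mpr (hle ⟨hgT, hgS⟩).2))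
    have hTS : T' ≤ normalizer (S : Set G) := fun t ht =>
      inf_normalizer_le_normalizer_inf ⟨le_normalizer ht, hWn (hT'W ht)⟩
    obtain ⟨n, hn⟩ : ∃ n, T'.lowerCentralSeries n = ⊥ :=
      (isNilpotent_iff_lowerCentralSeries T').mp hT'p.isNilpotent
    let f : ℕ → Subgroup G := Nat.rec S fun _ A => ⁅A, T'⁆
    have hfs : ∀ i, f (i + 1) = ⁅f i, T'⁆ := fun _ => rfl
    have hfT : ∀ i, f i ≤ T'.lowerCentralSeries i := by
      intro i
      induction i with
      | zero => rw [Subgroup.lowerCentralSeries_zero]; exact inf_le_left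
      | succ i ih => rw [hfs, Subgroup.lowerCentralSeries_succ]; exact commutator_mono ih le_rfl
    have hfS : ∀ i, f i ≤ S := by
      intro i
      induction i with
      | zero => exact le_rfl
      | succ i ih =>
        rw [hfs]
        exact (commutator_mono ih le_rfl).trans (le_normalizer_iff_commutator_le_left.mp hTS)
    obtain ⟨i, hi, hi1⟩ : ∃ i, ¬ f i ≤ Z ∧ f (i + 1) ≤ Z := by
      by_contra hc
      have hall : ∀ i, ¬ f i ≤ Z := by
        intro i
        induction i with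
        | zero => exact hSZ
        | succ i ih => exact fun h => hc ⟨i, ih, h⟩
      exact hall n (le_trans (hn ▸ hfT n) bot_le)
    obtain ⟨s, hs, hsZ⟩ := SetLike.not_le_iff_exists.mp hi
    refine ⟨s, (hfS i hs).2, ?_, hsZ, fun π hπ => ?_⟩
    · obtain ⟨j, hj⟩ := hT'p ⟨s, (hfS i hs).1⟩
      exact ⟨j, congrArg Subtype.val hj⟩
    · rw [← commutatorElement_def]
      refine hi1 ?_
      rw [hfs, commutator_comm]
      exact commutator_mem_commutator (hPT hπ) hs
  have hZE : ∀ z ∈ Z, z ∈ Cfsg.layer G ⊓ centralizer (Cfsg.layer G : Set G) := by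
    rintro z ⟨hz1, hz2⟩
    refine ⟨hEOE hz1, ?_⟩
    have hle : Cfsg.layer G ≤ centralizer ({z} : Set G) := by
      refine layer_le fun K hK => ?_
      by_cases hKm : K ∈ orb
      · intro y hy w hw
        rw [Set.mem_singleton_iff] at hw
        subst hw
        exact (hz2 y (le_sSup hKm hy)).symm
      · intro y hy w hw
        rw [Set.mem_singleton_iff] at hw
        subst hw
        exact IsComponent.le_centralizer_sSup hK horbC hKm hy w hz1
    intro y hy
    exact (hle hy z rfl).symm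
  have hkL : ∃ π ∈ P, L.map (MulAut.conj k).toMonoidHom = L.map (MulAut.conj π).toMonoidHom := by
    by_contra hc
    push Not at hc
    -- the conjugate of `EO` by `k` commutes with `EO`
    have hcomm : ∀ y ∈ EO, ∀ v ∈ EO, Commute y (k * v * k⁻¹) := by
      have hle : EO.map (MulAut.conj k).toMonoidHom ≤ centralizer (EO : Set G) := by
        rw [Subgroup.map_le_iff_le_comap]
        refine sSup_le ?_
        rintro _ ⟨π, hπ, rfl⟩
        rw [← Subgroup.map_le_iff_le_comap, hconj]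
        refine IsComponent.le_centralizer_sSup (IsComponent.conj hL _) horbC ?_
        rintro ⟨ρ, hρ, he⟩
        refine hc (π⁻¹ * ρ) (P.mul_mem (P.inv_mem hπ) hρ) ?_
        rw [show k * π = π * k from (hkP π hπ).symm, ← hconj] at he
        have := congrArg (Subgroup.map (MulAut.conj π⁻¹).toMonoidHom) he
        simp only [hconj, inv_mul_cancel_left] at this
        exact this
      exact fun y hy v hv => hle ⟨v, hv, rfl⟩ y hy
    set c := k * s * k⁻¹ * s⁻¹ with hcdef
    have hcn : ∀ n : ℕ, k ^ n * s * (k ^ n)⁻¹ * s⁻¹ ∈ Cfsg.layer G ⊓ centralizer (P : Set G) := by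
      intro n
      have hknP : k ^ n ∈ centralizer (P : Set G) := pow_mem hkP n
      refine ⟨(Cfsg.layer G).mul_mem (layer_normal.conj_mem s (hEOE hsEO) _)
        ((Cfsg.layer G).inv_mem (hEOE hsEO)), fun π hπ => ?_⟩
      set z := π * s * π⁻¹ * s⁻¹ with hz
      have hzE := hZE z (hsP π hπ)
      have hkn : π * k ^ n = k ^ n * π := hknP π hπ
      have hkz : z * k ^ n = k ^ n * z :=
        pow_mem hkQ n z (layer_center_le_pCore hO hzE)
      have h1 : π * (k ^ n * s * (k ^ n)⁻¹) * π⁻¹ = z * (k ^ n * s * (k ^ n)⁻¹) := by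
        calc π * (k ^ n * s * (k ^ n)⁻¹) * π⁻¹
            = (π * k ^ n) * s * (π * k ^ n)⁻¹ := by group
          _ = (k ^ n * π) * s * (k ^ n * π)⁻¹ := by rw [hkn]
          _ = (k ^ n * z) * s * (k ^ n)⁻¹ := by rw [hz]; group
          _ = z * (k ^ n * s * (k ^ n)⁻¹) := by rw [← hkz]; group
      have hcE : k ^ n * s * (k ^ n)⁻¹ * s⁻¹ ∈ Cfsg.layer G :=
        (Cfsg.layer G).mul_mem (layer_normal.conj_mem s (hEOE hsEO) _)
          ((Cfsg.layer G).inv_mem (hEOE hsEO))
      have h2 : π * (k ^ n * s * (k ^ n)⁻¹ * s⁻¹) * π⁻¹ = k ^ n * s * (k ^ n)⁻¹ * s⁻¹ := by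
        calc π * (k ^ n * s * (k ^ n)⁻¹ * s⁻¹) * π⁻¹
            = π * (k ^ n * s * (k ^ n)⁻¹) * π⁻¹ * (π * s * π⁻¹)⁻¹ := by group
          _ = z * (k ^ n * s * (k ^ n)⁻¹ * s⁻¹) * z⁻¹ := by rw [h1, hz]; group
          _ = k ^ n * s * (k ^ n)⁻¹ * s⁻¹ := by rw [← hzE.2 _ hcE, mul_inv_cancel_right]
      calc π * (k ^ n * s * (k ^ n)⁻¹ * s⁻¹)
          = π * (k ^ n * s * (k ^ n)⁻¹ * s⁻¹) * π⁻¹ * π := by group
        _ = k ^ n * s * (k ^ n)⁻¹ * s⁻¹ * π := by rw [h2]
    have hrec : ∀ n : ℕ, k ^ n * s * (k ^ n)⁻¹ * s⁻¹ * (c ^ n)⁻¹ ∈ Y := by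
      intro n
      induction n with
      | zero => simp
      | succ n ih =>
        set d := k ^ n * s * (k ^ n)⁻¹ * s⁻¹ with hd
        have hy := hkY d (hcn n).1 (hcn n).2
        have e : k ^ (n + 1) * s * (k ^ (n + 1))⁻¹ * s⁻¹ * (c ^ (n + 1))⁻¹ =
            (k * d * k⁻¹ * d⁻¹) * (d * (c ^ n)⁻¹) := by
          rw [pow_succ' k, pow_succ c, hd, hcdef]
          group
        rw [e]
        exact Y.mul_mem hy ih
    have hcm : c ^ orderOf k ∈ Y := by
      have h := hrec (orderOf k)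
      rw [pow_orderOf_eq_one] at h
      simpa using h
    obtain ⟨j, hj⟩ := hsp
    have hcp : c ^ p ^ j = 1 := by
      rw [hcdef, ((hcomm s⁻¹ (EO.inv_mem hsEO) s hsEO).symm).mul_pow, conj_pow, inv_pow, hj]
      group
    have hc1 : c = 1 := by
      have h1 : c ^ (orderOf k * Nat.card Y) = 1 := by
        rw [pow_mul]
        exact orderOf_dvd_iff_pow_eq_one.mp (orderOf_dvd_natCard Y hcm)
      have h2 := pow_gcd_eq_one.mpr ⟨h1, hcp⟩
      rwa [((hk.mul_left hY).pow_right j).gcd_eq_one, pow_one] at h2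
    refine hsZ ⟨hsEO, fun y hy => ?_⟩
    have h2 := hcomm y hy s hsEO
    have h3 : k * s * k⁻¹ = s := by rwa [hcdef, mul_inv_eq_one] at hc1
    rw [h3] at h2
    exact h2
  obtain ⟨π, hπ, hkπ⟩ := hkL
  have hiter : ∀ n : ℕ, L.map (MulAut.conj (k ^ n)).toMonoidHom =
      L.map (MulAut.conj (π ^ n)).toMonoidHom := by
    intro n
    induction n with
    | zero => simp
    | succ n ih =>
      have hc : k ^ n * π = π * k ^ n := (pow_mem hkP n π hπ).symm
      rw [pow_succ k, pow_succ' π, ← hconj, hkπ, hconj, hc, ← hconj, ih, hconj]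
  obtain ⟨j, hj⟩ := hP ⟨π, hπ⟩
  have hj' : π ^ p ^ j = 1 := congrArg Subtype.val hj
  have h1 : L.map (MulAut.conj (π ^ orderOf k)).toMonoidHom = L := by
    rw [← hiter, pow_orderOf_eq_one, hone]
  have h1' : ∀ m : ℕ, L.map (MulAut.conj ((π ^ orderOf k) ^ m)).toMonoidHom = L := by
    intro m
    induction m with
    | zero => rw [pow_zero, hone]
    | succ m ih => rw [pow_succ, ← hconj, h1, ih]
  have hco : (orderOf π).Coprime (orderOf k) :=
    Nat.Coprime.coprime_dvd_left (orderOf_dvd_of_pow_eq_one hj') (hk.symm.pow_left j)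
  obtain ⟨m, hm⟩ := exists_pow_eq_self_of_coprime hco.symm
  rw [hkπ, ← hm]
  exact h1' m

/-- `O_{p'}(C_G(x))` normalises every component when `O_{p'}(G) = 1`. -/
theorem centralizerPPrimeCore_conj_component (hO : Cfsg.pPrimeCore p G = ⊥) {x : G}
    (hx : IsPGroup p ↥(zpowers x)) {k : G} (hk : k ∈ Cfsg.centralizerPPrimeCore p x)
    {L : Subgroup G} (hL : Cfsg.IsComponent L) : L.map (MulAut.conj k).toMonoidHom = L := by
  set C := centralizer ({x} : Set G) with hC
  have hcard : (Nat.card (Cfsg.centralizerPPrimeCore p x)).Coprime p := by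
    rw [Cfsg.centralizerPPrimeCore, Cores.card_map_subtype]
    exact Cores.coprime_card_pPrimeCore p
  have hkC : k ∈ C := map_subtype_le _ hk
  have hcen : centralizer (zpowers x : Set G) = C := by
    rw [zpowers_eq_closure, centralizer_closure]
  refine conj_component_eq_of_commutator_mem hO hx hcard
    (hcard.coprime_dvd_left (Subgroup.orderOf_dvd_natCard _ hk)) (hcen ▸ hkC)
    (centralizerPPrimeCore_le_centralizer_pCore hx hk) (fun c _ hc => ?_) hL
  rw [hcen] at hc
  obtain ⟨k', hk', rfl⟩ := hk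
  refine ⟨k' * ⟨c, hc⟩ * k'⁻¹ * ⟨c, hc⟩⁻¹, ?_, rfl⟩
  rw [SetLike.mem_coe, mul_assoc, mul_assoc]
  refine mul_mem hk' ?_
  rw [← mul_assoc]
  exact (Cores.pPrimeCore_normal p ↥C).conj_mem _ (inv_mem hk') _

end Coprime

end Cfsg.Agent.Components
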