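/-
`O_{p'}(C(R))` for a `p`-subgroup `R` lies in `L̂_{p'}(X)`.
Main results: `centralizer_map_of_coprime`, `IsPComponent.mem_normalizer_of_map_conj`,
`pPrimeCore_centralizer_le_centralizer_pCore`, `pPrimeCore_centralizer_le_normalizer`,
`pPrimeCore_centralizer_le_hatPLayer`.
-/
import Cfsg.Agent.Lib.Components.LocalLayer
import Cfsg.Agent.Lib.Signalizer.PAction

namespace Cfsg.Agent.Components

open Subgroup

variable {X : Type*} [Group X] [Finite X] {p : ℕ} [Fact p.Prime]

/-- Centralisers of `p`-subgroups cover the centralisers of their images modulo a normal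
`p'`-subgroup. -/
theorem centralizer_map_of_coprime {R : Subgroup X} (hR : IsPGroup p ↥R) (O : Subgroup X)
    [O.Normal] (hO : (Nat.card O).Coprime p) :
    centralizer ((R.map (QuotientGroup.mk' O) : Subgroup (X ⧸ O)) : Set (X ⧸ O)) =
      (centralizer (R : Set X)).map (QuotientGroup.mk' O) := by
  refine le_antisymm ?_ ?_
  · intro y hy
    obtain ⟨g, rfl⟩ := QuotientGroup.mk'_surjective O y
    obtain ⟨n, hn, hng⟩ := Signalizer.exists_fixed_in_coset hR
      (normalizer_eq_top (H := O) ▸ le_top)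
      ((Fact.out (p := p.Prime)).coprime_iff_not_dvd.mp hO.symm) g (fun a ha => by
        rw [← QuotientGroup.eq_one_iff]
        show QuotientGroup.mk' O (a * g * a⁻¹ * g⁻¹) = 1
        rw [map_mul, map_mul, map_mul, map_inv, map_inv, hy _ ⟨a, ha, rfl⟩]
        group)
    exact ⟨n * g, hng, by rw [map_mul, show QuotientGroup.mk' O n = 1 from
      (QuotientGroup.eq_one_iff n).mpr hn, one_mul]⟩
  · rintro _ ⟨g, hg, rfl⟩ _ ⟨a, ha, rfl⟩
    rw [← map_mul, hg a ha, map_mul]

theorem IsPComponent.mem_normalizer_of_map_conj {K : Subgroup X} (hK : Cfsg.IsPComponent p K)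
    {g : X}
    (h : (K.map (QuotientGroup.mk' (Cfsg.pPrimeCore p X))).map
      (MulAut.conj (QuotientGroup.mk' (Cfsg.pPrimeCore p X) g)).toMonoidHom =
      K.map (QuotientGroup.mk' (Cfsg.pPrimeCore p X))) :
    g ∈ normalizer (K : Set X) := by
  set π := QuotientGroup.mk' (Cfsg.pPrimeCore p X) with hπ
  have h1 : π g ∈ normalizer ((K.map π : Subgroup _) : Set (X ⧸ Cfsg.pPrimeCore p X)) := by
    rw [mem_normalizer_iff]
    refine fun u => ⟨fun hu => h ▸ ⟨u, hu, rfl⟩, fun hu => ?_⟩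
    obtain ⟨u', hu', he⟩ := h.symm ▸ hu
    simp only [MulEquiv.coe_toMonoidHom, MulAut.conj_apply] at he
    rwa [mul_left_cancel (mul_right_cancel he)] at hu'
  rw [IsPComponent.eq_pComponentOf hK]
  exact normalizer_le_normalizer_pGen p _ (le_normalizer_comap π h1)

theorem pPrimeCore_centralizer_le_centralizer_pCore {R : Subgroup X} (hR : IsPGroup p ↥R) :
    ((Cfsg.pPrimeCore p ↥(centralizer (R : Set X))).map (centralizer (R : Set X)).subtype).map
        (QuotientGroup.mk' (Cfsg.pPrimeCore p X)) ≤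
      centralizer (Cfsg.pCore p (X ⧸ Cfsg.pPrimeCore p X) : Set (X ⧸ Cfsg.pPrimeCore p X)) := by
  set O := Cfsg.pPrimeCore p X
  set π := QuotientGroup.mk' O
  set C := centralizer (R : Set X) with hC
  set Q := Cfsg.pCore p (X ⧸ O)
  set M := (Cfsg.pPrimeCore p ↥C).map C.subtype with hM
  have hQn : normalizer (Q : Set (X ⧸ O)) = ⊤ := normalizer_eq_top_iff.mpr inferInstance
  refine le_centralizer_of_le_centralizer (hR.map π) (Cores.isPGroup_pCore p (X ⧸ O))
    (hQn ▸ le_top)
    (pPrimeGen_map π (pPrimeGen_map _ (pPrimeGen_eq_self_of_coprime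
      (Cores.coprime_card_pPrimeCore p)))) (hQn ▸ le_top) ?_ ?_
  · rw [centralizer_map_of_coprime hR O (Cores.coprime_card_pPrimeCore p)]
    exact map_mono (map_subtype_le _)
  · rintro _ ⟨_, ⟨m, hm, rfl⟩, rfl⟩ y ⟨hyQ, hyR⟩
    rw [centralizer_map_of_coprime hR O (Cores.coprime_card_pPrimeCore p)] at hyR
    obtain ⟨g, hg, rfl⟩ := hyR
    set D := (Q.comap π).subgroupOf C with hD
    set c := (⟨g, hg⟩ : ↥C) * m * (⟨g, hg⟩ : ↥C)⁻¹ * m⁻¹ with hc
    have hgD : (⟨g, hg⟩ : ↥C) ∈ D := hyQ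
    have hDm : c ∈ D := by
      rw [hc, mul_assoc, mul_assoc, ← mul_assoc m]
      exact D.mul_mem hgD ((inferInstance : D.Normal).conj_mem _ (D.inv_mem hgD) m)
    have hOm : c ∈ Cfsg.pPrimeCore p ↥C :=
      (Cfsg.pPrimeCore p ↥C).mul_mem ((Cores.pPrimeCore_normal p ↥C).conj_mem _ hm _)
        ((Cfsg.pPrimeCore p ↥C).inv_mem hm)
    have h1 : π (C.subtype c) = 1 := by
      obtain ⟨j, hj⟩ := Cores.isPGroup_pCore p (X ⧸ O) ⟨π (C.subtype c), mem_subgroupOf.mp hDm⟩
      have hj' : π (C.subtype c) ^ p ^ j = 1 := congrArg Subtype.val hj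
      have h2 : π (C.subtype c) ^ Nat.card (Cfsg.pPrimeCore p ↥C) = 1 := by
        rw [← map_pow, ← map_pow,
          orderOf_dvd_iff_pow_eq_one.mp (Subgroup.orderOf_dvd_natCard _ hOm), map_one, map_one]
      have h3 := pow_gcd_eq_one.mpr ⟨h2, hj'⟩
      rwa [((Cores.coprime_card_pPrimeCore p).pow_right j).gcd_eq_one, pow_one] at h3
    simp only [hc, map_mul, map_inv, coe_subtype] at h1
    calc π g * π m = π g * π m * (π g)⁻¹ * (π m)⁻¹ * (π m * π g) := by group
      _ = π m * π g := by rw [h1, one_mul]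

theorem pPrimeCore_centralizer_le_normalizer {R : Subgroup X} (hR : IsPGroup p ↥R)
    {K : Subgroup X} (hK : Cfsg.IsPComponent p K) :
    (Cfsg.pPrimeCore p ↥(centralizer (R : Set X))).map (centralizer (R : Set X)).subtype ≤
      normalizer (K : Set X) := by
  set O := Cfsg.pPrimeCore p X
  set π := QuotientGroup.mk' O
  set C := centralizer (R : Set X) with hC
  set M := (Cfsg.pPrimeCore p ↥C).map C.subtype with hM
  have hcard : (Nat.card M).Coprime p := by
    rw [hM, Cores.card_map_subtype]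
    exact Cores.coprime_card_pPrimeCore p
  intro g hg
  refine IsPComponent.mem_normalizer_of_map_conj hK ?_
  have hgM : π g ∈ M.map π := ⟨g, hg, rfl⟩
  refine conj_component_eq_of_commutator_mem (Y := M.map π) (Cores.pPrimeCore_quotient_self p)
    (hR.map π)
    (hcard.coprime_dvd_left (card_map_dvd _ _))
    ((hcard.coprime_dvd_left (card_map_dvd _ _)).coprime_dvd_left
      (Subgroup.orderOf_dvd_natCard _ hgM)) ?_
    (pPrimeCore_centralizer_le_centralizer_pCore hR hgM) (fun c _ hc => ?_) hK.2.1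
  · rw [centralizer_map_of_coprime hR O (Cores.coprime_card_pPrimeCore p)]
    exact ⟨g, map_subtype_le _ hg, rfl⟩
  · rw [centralizer_map_of_coprime hR O (Cores.coprime_card_pPrimeCore p)] at hc
    obtain ⟨d, hd, rfl⟩ := hc
    refine ⟨g * d * g⁻¹ * d⁻¹, ?_, by simp only [map_mul, map_inv]; rfl⟩
    obtain ⟨m, hm, rfl⟩ := hg
    refine ⟨m * ⟨d, hd⟩ * m⁻¹ * (⟨d, hd⟩ : ↥C)⁻¹, ?_, rfl⟩
    rw [SetLike.mem_coe, mul_assoc, mul_assoc]
    refine mul_mem hm ?_
    rw [← mul_assoc]
    exact (Cores.pPrimeCore_normal p ↥C).conj_mem _ (inv_mem hm) _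

/-- `O_{p'}(C(R))` lies in `L̂_{p'}(X)` for every `p`-subgroup `R`. -/
theorem pPrimeCore_centralizer_le_hatPLayer {R : Subgroup X} (hR : IsPGroup p ↥R) :
    (Cfsg.pPrimeCore p ↥(centralizer (R : Set X))).map (centralizer (R : Set X)).subtype ≤
      Cfsg.hatPLayer p X :=
  le_inf (le_iInf fun K => pPrimeCore_centralizer_le_normalizer hR K.2)
    (map_le_iff_le_comap.mp (pPrimeCore_centralizer_le_centralizer_pCore hR))

end Cfsg.Agent.Components
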