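/-
k-balance from local k-balance of the components.
Main results: `map_inf_centralizerPPrimeCore_le`, `signalizerDelta_eq_bot_of_components`,
`signalizerDelta_le_centralizer_of_components`, `signalizerDelta_mono`,
`map_signalizerDelta_inf_le`.
-/
import Cfsg.Agent.Lib.Components.HatLayer
import Cfsg.Agent.S1270

namespace Cfsg.Agent.Components

open Subgroup
open scoped Pointwise

variable {G : Type*} [Group G] [Finite G] {p : ℕ} [Fact p.Prime]

omit [Finite G] [Fact p.Prime] in
theorem signalizerDelta_mono {A B : Subgroup G} (h : A ≤ B) :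
    Cfsg.signalizerDelta p B ≤ Cfsg.signalizerDelta p A :=
  le_iInf fun a => iInf_le_of_le ⟨a.1, h a.2.1, a.2.2⟩ le_rfl

omit [Finite G] [Fact p.Prime] in
theorem signalizerDelta_le {A : Subgroup G} {a : G} (ha : a ∈ A) (h1 : a ≠ 1) :
    Cfsg.signalizerDelta p A ≤ Cfsg.centralizerPPrimeCore p a :=
  iInf_le_of_le ⟨a, ha, h1⟩ le_rfl

theorem isPGroup_zpowers_of_pow_eq_one {a : G} (h : a ^ p = 1) :
    IsPGroup p ↥(zpowers a) := by
  obtain ⟨i, _, hi⟩ := (Nat.dvd_prime_pow (Fact.out (p := p.Prime)) (m := 1)).mp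
    (by simpa using orderOf_dvd_of_pow_eq_one h)
  exact IsPGroup.of_card (n := i) (by rw [Nat.card_zpowers, hi])

theorem coprime_card_centralizerPPrimeCore (x : G) :
    (Nat.card (Cfsg.centralizerPPrimeCore p x)).Coprime p := by
  rw [Cfsg.centralizerPPrimeCore, Cores.card_map_subtype]
  exact Cores.coprime_card_pPrimeCore p

theorem centralizerPPrimeCore_le_centralizer_singleton (x : G) :
    Cfsg.centralizerPPrimeCore p x ≤ centralizer ({x} : Set G) :=
  map_subtype_le _

theorem centralizer_le_normalizer_centralizerPPrimeCore (x : G) :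
    centralizer ({x} : Set G) ≤ normalizer (Cfsg.centralizerPPrimeCore p x : Set G) := by
  rw [le_normalizer_iff]
  rintro c hc _ ⟨y, hy, rfl⟩
  exact ⟨⟨c, hc⟩ * y * ⟨c, hc⟩⁻¹,
    (Cores.pPrimeCore_normal p ↥(centralizer ({x} : Set G))).conj_mem y hy _, rfl⟩

/-- The image of `O_{p'}(C(b))` in the automorphism group induced on a component lies in the
`p'`-core of the centraliser of the image of `b`. -/
theorem map_inf_centralizerPPrimeCore_le {H' : Type*} [Group H'] (hO : Cfsg.pPrimeCore p G = ⊥)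
    {L W U : Subgroup G} (hL : Cfsg.IsComponent L) (hW : W = L ⊔ U)
    (hUN : U ≤ normalizer (L : Set G)) {b : G} (hb : IsPGroup p ↥(zpowers b))
    (hbL : b ∈ normalizer (L : Set G)) (hUb : U ≤ centralizer ({b} : Set G)) (hbW : b ∈ W)
    (f : ↥W →* H') (hf : Function.Surjective f)
    (hker : ∀ w : ↥W, f w = 1 ↔ (w : G) ∈ centralizer (L : Set G)) :
    ((Cfsg.centralizerPPrimeCore p b ⊓ W).subgroupOf W).map f ≤
      Cfsg.centralizerPPrimeCore p (f ⟨b, hbW⟩) := by
  set O := Cfsg.centralizerPPrimeCore p b with hOdef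
  set C := centralizer ({b} : Set G) with hC
  set Q := Cfsg.pCore p G with hQ
  set K := C ⊓ centralizer (Q : Set G) with hK
  have hQn : Q.Normal := Cores.pCore_normal p G
  have hKC : K ≤ C := inf_le_left
  have hOC : O ≤ C := centralizerPPrimeCore_le_centralizer_singleton b
  have hCO : C ≤ normalizer (O : Set G) := centralizer_le_normalizer_centralizerPPrimeCore b
  have hCK : C ≤ normalizer (K : Set G) := fun c hc =>
    inf_normalizer_le_normalizer_inf ⟨le_normalizer hc,
      normalizer_eq_top (H := centralizer (Q : Set G)) ▸ mem_top c⟩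
  have hOK : (Cfsg.pPrimeCore p ↥K).map K.subtype = O := by
    refine le_antisymm ?_ ?_
    · set OK := (Cfsg.pPrimeCore p ↥K).map K.subtype with hOKdef
      have hOKC : OK ≤ C := (map_subtype_le _).trans hKC
      have hn : (OK.subgroupOf C).Normal := normal_subgroupOf_of_le_normalizer
        (hCK.trans (Cores.normalizer_le_normalizer_map _))
      have h1 : OK.subgroupOf C ≤ Cfsg.pPrimeCore p ↥C := by
        refine Cores.le_pPrimeCore hn ?_
        rw [Cores.card_subgroupOf hOKC, hOKdef, Cores.card_map_subtype]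
        exact Cores.coprime_card_pPrimeCore p
      exact fun u hu => ⟨⟨u, hOKC hu⟩, h1 (mem_subgroupOf.mpr hu), rfl⟩
    · have hle : O ≤ K := le_inf hOC (centralizerPPrimeCore_le_centralizer_pCore hb)
      have hn : (O.subgroupOf K).Normal := normal_subgroupOf_of_le_normalizer (hKC.trans hCO)
      have h1 : O.subgroupOf K ≤ Cfsg.pPrimeCore p ↥K :=
        Cores.le_pPrimeCore hn (by
          rw [Cores.card_subgroupOf hle]
          exact coprime_card_centralizerPPrimeCore b)
      exact fun u hu => ⟨⟨u, hle hu⟩, h1 (mem_subgroupOf.mpr hu), rfl⟩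
  have hZL : (center ↥L).map L.subtype ≤ Q := by
    rw [hQ, ← fitting_eq_pCore_of hO]
    exact Cores.le_fittingSubgroup_of_isSubnormal
      ((Normal.isSubnormal inferInstance).trans' hL.1)
      (Cores.isNilpotent_map L.subtype (Cores.isNilpotent_of_isMulCommutative _))
  set bb := f ⟨b, hbW⟩ with hbb
  have hnorm : ∀ g : ↥W, f g * bb = bb * f g →
      (g : G) ∈ normalizer (O : Set G) := by
    intro g hg
    obtain ⟨l, hl, w, hw, hlw⟩ := Set.mem_mul.mp
      (by rw [← coe_mul_of_right_le_normalizer_left L U hUN, ← hW]; exact g.2 :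
        (g : G) ∈ (L : Set G) * (U : Set G))
    have hwx : b * w = w * b := hUb hw b rfl
    set z := l * b * l⁻¹ * b⁻¹ with hz
    have hzC : z ∈ centralizer (L : Set G) := by
      have h1 : f (g * ⟨b, hbW⟩ * g⁻¹ * (⟨b, hbW⟩ : ↥W)⁻¹) = 1 := by
        rw [map_mul, map_mul, map_mul, map_inv, map_inv, ← hbb, hg]
        group
      have h2 := (hker _).mp h1
      simp only [Subgroup.coe_mul, Subgroup.coe_inv] at h2
      rw [← hlw] at h2
      convert h2 using 1
      calc z = l * b * (w * w⁻¹) * l⁻¹ * b⁻¹ := by rw [hz]; group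
        _ = l * w * b * (l * w)⁻¹ * b⁻¹ := by rw [← mul_assoc, mul_assoc l b w, hwx]; group
    have hzL : z ∈ L := by
      rw [hz, mul_assoc, mul_assoc, ← mul_assoc b]
      exact L.mul_mem hl ((mem_normalizer_iff.mp hbL _).mp (L.inv_mem hl))
    have hzQ : z ∈ Q := hZL (by
      rw [center_map_subtype]
      exact ⟨hzL, hzC⟩)
    have hlK : l ∈ normalizer (K : Set G) := by
      rw [mem_normalizer_iff]
      have hcq : (centralizer (Q : Set G)).Normal := inferInstance
      have hlx : l * b * l⁻¹ = z * b := by rw [hz]; group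
      intro u
      constructor
      · rintro ⟨hu, huQ⟩
        have h1 := hcq.conj_mem u huQ l
        refine ⟨fun y hy => ?_, h1⟩
        rw [Set.mem_singleton_iff] at hy
        subst hy
        refine mul_left_cancel (a := z) ?_
        calc z * (y * (l * u * l⁻¹)) = (l * y * l⁻¹) * (l * u * l⁻¹) := by rw [hlx]; group
          _ = l * (y * u) * l⁻¹ := by group
          _ = l * (u * y) * l⁻¹ := by rw [hu y rfl]
          _ = (l * u * l⁻¹) * (l * y * l⁻¹) := by group
          _ = (l * u * l⁻¹) * z * y := by rw [hlx]; group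
          _ = z * (l * u * l⁻¹) * y := by rw [h1 z hzQ]
          _ = z * ((l * u * l⁻¹) * y) := by group
      · rintro ⟨hu, huQ⟩
        have huQ' : u ∈ centralizer (Q : Set G) := by
          simpa [mul_assoc] using hcq.conj_mem _ huQ l⁻¹
        refine ⟨fun y hy => ?_, huQ'⟩
        rw [Set.mem_singleton_iff] at hy
        subst hy
        calc y * u = l⁻¹ * ((l * y * l⁻¹) * (l * u * l⁻¹)) * l := by group
          _ = l⁻¹ * (z * (y * (l * u * l⁻¹))) * l := by rw [hlx]; group
          _ = l⁻¹ * ((z * (l * u * l⁻¹)) * y) * l := by rw [hu y rfl]; group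
          _ = l⁻¹ * ((l * u * l⁻¹) * (z * y)) * l := by rw [huQ z hzQ]; group
          _ = u * y := by rw [← hlx]; group
    rw [← hlw]
    exact mul_mem (hOK ▸ Cores.normalizer_le_normalizer_map _ hlK) (hCO (hUb hw))
  set M := ((O ⊓ W).subgroupOf W).map f with hM
  set Cb := centralizer ({bb} : Set H') with hCb
  have hMC : M ≤ Cb := by
    rintro _ ⟨y, hy, rfl⟩ z hz
    rw [Set.mem_singleton_iff] at hz
    rw [hz, hbb, ← map_mul, ← map_mul]
    exact congrArg f (Subtype.ext (hOC (mem_subgroupOf.mp hy).1 b rfl))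
  have hMn : (M.subgroupOf Cb).Normal := by
    refine ⟨fun a ha c => mem_subgroupOf.mpr ?_⟩
    obtain ⟨y, hy, hya⟩ := mem_subgroupOf.mp ha
    obtain ⟨g, hg⟩ := hf (c : H')
    refine ⟨g * y * g⁻¹, mem_subgroupOf.mpr ⟨?_, (g * y * g⁻¹).2⟩, ?_⟩
    · exact (mem_normalizer_iff.mp (hnorm g (by rw [hg]; exact (c.2 bb rfl).symm)) _).mp
        (mem_subgroupOf.mp hy).1
    · simp only [Subgroup.coe_mul, Subgroup.coe_inv]
      rw [map_mul, map_mul, map_inv, hya, hg]
  have h1 : M.subgroupOf Cb ≤ Cfsg.pPrimeCore p ↥Cb := by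
    refine Cores.le_pPrimeCore hMn ?_
    rw [Cores.card_subgroupOf hMC]
    refine (coprime_card_centralizerPPrimeCore (p := p) b).coprime_dvd_left
      ((Subgroup.card_map_dvd _ _).trans ?_)
    rw [Cores.card_subgroupOf inf_le_right]
    exact Subgroup.card_dvd_of_le inf_le_left
  exact fun u hu => ⟨⟨u, hMC hu⟩, h1 (mem_subgroupOf.mpr hu), rfl⟩

/-- The automorphism setting: `Δ(B)` maps into `Δ(B̄)` of the group induced on `L`. -/
theorem induced_setting (hO : Cfsg.pPrimeCore p G = ⊥) {L A B : Subgroup G}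
    (hL : Cfsg.IsComponent L) (hAN : A ≤ normalizer (L : Set G))
    (hDN : Cfsg.signalizerDelta p B ≤ normalizer (L : Set G))
    (hA : IsMulCommutative ↥A) (hBA : B ≤ A) (hBe : ∀ b ∈ B, b ^ p = 1)
    (hBC : ∀ b ∈ B, b ≠ 1 → b ∉ centralizer (L : Set G)) :
    ∃ (W : Subgroup G) (H : Subgroup (MulAut ↥L)) (f : ↥W →* ↥H),
      (MulAut.conj : ↥L →* MulAut ↥L).range ≤ H ∧ Cfsg.signalizerDelta p B ≤ W ∧ A ≤ W ∧
      (∀ w : ↥W, f w = 1 ↔ (w : G) ∈ centralizer (L : Set G)) ∧
      Cfsg.IsElementaryAbelian p ((B.subgroupOf W).map f) ∧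
      Nat.card ↥((B.subgroupOf W).map f) = Nat.card ↥B ∧
      ((Cfsg.signalizerDelta p B).subgroupOf W).map f ≤
        Cfsg.signalizerDelta p ((B.subgroupOf W).map f) := by
  set D := Cfsg.signalizerDelta p B with hD
  set U := A ⊔ D with hU
  set W := L ⊔ U with hW
  have hUN : U ≤ normalizer (L : Set G) := sup_le hAN hDN
  have hWN : W ≤ normalizer (L : Set G) := sup_le le_normalizer hUN
  let f0 : ↥W →* MulAut ↥L := L.normalizerMonoidHom.comp (inclusion hWN)
  have hAW : A ≤ W := le_trans (le_sup_left : A ≤ U) le_sup_right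
  have hDW : D ≤ W := le_trans (le_sup_right : D ≤ U) le_sup_right
  have hker : ∀ w : ↥W, f0.rangeRestrict w = 1 ↔ (w : G) ∈ centralizer (L : Set G) := by
    intro w
    rw [← MonoidHom.mem_ker, MonoidHom.ker_rangeRestrict, MonoidHom.mem_ker]
    constructor
    · intro h u hu
      have h2 := congrArg (fun φ : MulAut ↥L => ((φ ⟨u, hu⟩ : ↥L) : G)) h
      simp only [f0, MonoidHom.comp_apply, normalizerMonoidHom_apply_apply_coe,
        MulAut.one_apply] at h2
      calc u * w = (w : G) * u * (w : G)⁻¹ * w := by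
            rw [show (w : G) * u * (w : G)⁻¹ = u from h2]
        _ = (w : G) * u := by group
    · intro h
      ext u
      simp only [f0, MonoidHom.comp_apply, normalizerMonoidHom_apply_apply_coe, MulAut.one_apply]
      show (w : G) * u * (w : G)⁻¹ = u
      rw [← h u u.2, mul_inv_cancel_right]
  refine ⟨W, f0.range, f0.rangeRestrict, ?_, hDW, hAW, hker, ?_, ?_, ?_⟩
  · rintro _ ⟨l, rfl⟩
    refine ⟨⟨l, (le_sup_left : L ≤ W) l.2⟩, ?_⟩
    ext u
    rfl
  · refine ⟨⟨⟨?_⟩⟩, ?_⟩
    · rintro ⟨_, a, ha, rfl⟩ ⟨_, c, hc, rfl⟩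
      refine Subtype.ext ?_
      show f0.rangeRestrict a * f0.rangeRestrict c = f0.rangeRestrict c * f0.rangeRestrict a
      rw [← map_mul, ← map_mul]
      refine congrArg _ (Subtype.ext ?_)
      exact congrArg (fun u : ↥A => (u : G)) (hA.1.1 ⟨_, hBA (mem_subgroupOf.mp ha)⟩ ⟨_, hBA (mem_subgroupOf.mp hc)⟩)
    · rintro _ ⟨a, ha, rfl⟩
      rw [← map_pow]
      convert map_one f0.rangeRestrict using 2
      exact Subtype.ext (hBe _ (mem_subgroupOf.mp ha))
  · have hinj : Function.Injective (f0.rangeRestrict.comp (inclusion (hBA.trans hAW))) := by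
      rw [injective_iff_map_eq_one]
      intro b hb
      by_contra hne
      exact hBC b b.2 (fun h => hne (Subtype.ext h)) ((hker _).mp hb)
    rw [← Nat.card_congr (MonoidHom.ofInjective hinj).toEquiv.symm]
    refine Nat.card_congr (MulEquiv.subgroupCongr ?_).toEquiv
    ext v
    constructor
    · rintro ⟨a, ha, rfl⟩
      exact ⟨⟨a, mem_subgroupOf.mp ha⟩, rfl⟩
    · rintro ⟨a, rfl⟩
      exact ⟨⟨a, hAW (hBA a.2)⟩, mem_subgroupOf.mpr a.2, rfl⟩
  · refine le_iInf fun ⟨v, ⟨b, hb, hbv⟩, hv1⟩ => ?_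
    have hb' : (b : G) ∈ B := mem_subgroupOf.mp hb
    have hb1 : (b : G) ≠ 1 := fun h => hv1 (by
      rw [← hbv, show b = 1 from Subtype.ext h, map_one])
    have hUb : U ≤ centralizer ({(b : G)} : Set G) := by
      refine sup_le (fun a ha y hy => ?_) ((signalizerDelta_le hb' hb1).trans
        (centralizerPPrimeCore_le_centralizer_singleton (b : G)))
      rw [Set.mem_singleton_iff] at hy
      rw [hy]
      exact congrArg Subtype.val (hA.1.1 ⟨_, hBA hb'⟩ ⟨a, ha⟩)
    refine le_trans ?_ (le_of_eq (congrArg (Cfsg.centralizerPPrimeCore p) hbv))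
    have hle0 : D.subgroupOf W ≤
        (Cfsg.centralizerPPrimeCore p (b : G) ⊓ W).subgroupOf W := fun y hy =>
      mem_subgroupOf.mpr (show (y : G) ∈ Cfsg.centralizerPPrimeCore p (b : G) ⊓ W from
        ⟨signalizerDelta_le hb' hb1 (mem_subgroupOf.mp hy), y.2⟩)
    refine le_trans (map_mono hle0) ?_
    exact map_inf_centralizerPPrimeCore_le hO hL hW hUN
      (isPGroup_zpowers_of_pow_eq_one (hBe _ hb')) (hAN (hBA hb')) hUb b.2 f0.rangeRestrict
      f0.rangeRestrict_surjective hker

/-- Every component is centralised by, or invariant under, `Δ(B)`. -/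
theorem signalizerDelta_component_cases (hO : Cfsg.pPrimeCore p G = ⊥) {B : Subgroup G}
    (hBe : ∀ b ∈ B, b ^ p = 1) (hB1 : ∃ b ∈ B, b ≠ 1) {L : Subgroup G}
    (hL : Cfsg.IsComponent L) :
    Cfsg.signalizerDelta p B ≤ centralizer (L : Set G) ∨
      (B ≤ normalizer (L : Set G) ∧ Cfsg.signalizerDelta p B ≤ normalizer (L : Set G) ∧
        ∀ b ∈ B, b ≠ 1 → b ∉ centralizer (L : Set G)) := by
  by_cases h : ∃ b ∈ B, b ≠ 1 ∧ ⁅L, zpowers b⁆ ≠ L
  · obtain ⟨b, hb, hb1, hne⟩ := h
    left
    refine (signalizerDelta_le hb hb1).trans ?_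
    rw [← commutator_eq_bot_iff_le_centralizer, commutator_comm]
    exact Cfsg.Agent.S1270.result p hO b (orderOf_eq_prime (hBe b hb) hb1) L hL hne
  · have hall : ∀ b ∈ B, b ≠ 1 → ⁅L, zpowers b⁆ = L := fun b hb hb1 => by
      by_contra hne
      exact h ⟨b, hb, hb1, hne⟩
    right
    refine ⟨fun b hb => ?_, fun y hy => ?_, fun b hb hb1 hc => ?_⟩
    · by_cases hb1 : b = 1
      · exact hb1 ▸ one_mem _
      · exact (le_normalizer_iff_commutator_le_left.mpr (hall b hb hb1).le) (mem_zpowers b)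
    · obtain ⟨b, hb, hb1⟩ := hB1
      have h1 := centralizerPPrimeCore_conj_component hO (isPGroup_zpowers_of_pow_eq_one (hBe b hb))
        (signalizerDelta_le hb hb1 hy) hL
      rw [mem_normalizer_iff]
      refine fun g => ⟨fun hg => h1 ▸ ⟨g, hg, rfl⟩, fun hg => ?_⟩
      obtain ⟨g', hg', he⟩ := h1.symm ▸ hg
      simp only [MulEquiv.coe_toMonoidHom, MulAut.conj_apply] at he
      rwa [mul_left_cancel (mul_right_cancel he)] at hg'
    · apply IsComponent.ne_bot hL
      rw [← hall b hb hb1, commutator_eq_bot_iff_le_centralizer, le_centralizer_iff, zpowers_le]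
      exact hc

theorem eq_one_of_centralizes_genFitting (hO : Cfsg.pPrimeCore p G = ⊥) {d : G}
    (hd : (orderOf d).Coprime p) (hQ : d ∈ centralizer (Cfsg.pCore p G : Set G))
    (hE : ∀ L : Subgroup G, Cfsg.IsComponent L → d ∈ centralizer (L : Set G)) : d = 1 := by
  have h1 : d ∈ Cfsg.fittingSubgroup G := by
    apply centralizer_genFitting_le_fitting
    have hle : Cfsg.generalizedFittingSubgroup G ≤ centralizer ({d} : Set G) := by
      refine sup_le (layer_le fun L hL u hu z hz => ?_) (fun u hu z hz => ?_) <;>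
        rw [Set.mem_singleton_iff] at hz <;> subst hz
      · exact (hE L hL u hu).symm
      · rw [fitting_eq_pCore_of hO] at hu
        exact (hQ u hu).symm
    exact fun u hu => (hle hu d rfl).symm
  rw [fitting_eq_pCore_of hO] at h1
  obtain ⟨n, hn⟩ := IsPGroup.iff_card.mp (Cores.isPGroup_pCore p G)
  have h2 : orderOf d ∣ p ^ n := hn ▸ Subgroup.orderOf_dvd_natCard _ h1
  exact orderOf_eq_one_iff.mp (Nat.dvd_one.mp ((hd.pow_right n).gcd_eq_one ▸ Nat.dvd_gcd dvd_rfl h2))

theorem orderOf_coprime_of_mem_signalizerDelta {B : Subgroup G} (hB1 : ∃ b ∈ B, b ≠ 1) {d : G}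
    (hd : d ∈ Cfsg.signalizerDelta p B) : (orderOf d).Coprime p := by
  obtain ⟨b, hb, hb1⟩ := hB1
  exact (coprime_card_centralizerPPrimeCore (p := p) b).coprime_dvd_left
    (Subgroup.orderOf_dvd_natCard _ (signalizerDelta_le hb hb1 hd))

theorem signalizerDelta_le_centralizer_pCore {B : Subgroup G} (hBe : ∀ b ∈ B, b ^ p = 1)
    (hB1 : ∃ b ∈ B, b ≠ 1) :
    Cfsg.signalizerDelta p B ≤ centralizer (Cfsg.pCore p G : Set G) := by
  obtain ⟨b, hb, hb1⟩ := hB1
  exact (signalizerDelta_le hb hb1).trans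
    (centralizerPPrimeCore_le_centralizer_pCore (isPGroup_zpowers_of_pow_eq_one (hBe b hb)))

/-- `Δ(B) = 1` if every component is locally `k`-balanced and `O_{p'}(G) = 1`. -/
theorem signalizerDelta_eq_bot_of_components (hO : Cfsg.pPrimeCore p G = ⊥) {k : ℕ} (hk : 1 ≤ k)
    (hloc : ∀ L : Subgroup G, Cfsg.IsComponent L → Cfsg.IsLocallyKBalanced p k ↥L)
    {B : Subgroup G} (hB : Cfsg.IsElementaryAbelian p B) (hcard : Nat.card B = p ^ k) :
    Cfsg.signalizerDelta p B = ⊥ := by
  have hB1 : ∃ b ∈ B, b ≠ 1 := by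
    refine B.bot_or_exists_ne_one.resolve_left fun h => ?_
    rw [h, card_bot] at hcard
    exact absurd hcard.symm (Nat.one_lt_pow (by omega) (Fact.out (p := p.Prime)).one_lt).ne'
  rw [eq_bot_iff]
  intro d hd
  refine eq_one_of_centralizes_genFitting hO (orderOf_coprime_of_mem_signalizerDelta hB1 hd)
    (signalizerDelta_le_centralizer_pCore hB.2 hB1 hd) fun L hL => ?_
  rcases signalizerDelta_component_cases hO hB.2 hB1 hL with h | ⟨hBN, hDN, hBC⟩
  · exact h hd
  · obtain ⟨W, H, f, hH, hDW, _, hker, hel, hcd, hle⟩ :=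
      induced_setting hO hL hBN hDN hB.1 le_rfl hB.2 hBC
    have h1 := hle ⟨⟨d, hDW hd⟩, mem_subgroupOf.mpr hd, rfl⟩
    rw [hloc L hL H hH _ hel (hcd.trans hcard), mem_bot] at h1
    exact (hker _).mp h1

/-- Weak local `k`-balance of the components gives `[Δ(B), A] = 1`. -/
theorem signalizerDelta_le_centralizer_of_components (hO : Cfsg.pPrimeCore p G = ⊥) {k : ℕ}
    (hk : 1 ≤ k)
    (hloc : ∀ L : Subgroup G, Cfsg.IsComponent L → Cfsg.IsWeaklyLocallyKBalanced p k ↥L)
    {A B : Subgroup G} (hA : Cfsg.IsElementaryAbelian p A)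
    (hAinv : ∀ L : Subgroup G, Cfsg.IsComponent L → A ≤ normalizer (L : Set G))
    (hBA : B ≤ A) (hcard : Nat.card B = p ^ k) :
    Cfsg.signalizerDelta p B ≤ centralizer (A : Set G) := by
  have hBe : ∀ b ∈ B, b ^ p = 1 := fun b hb => hA.2 b (hBA hb)
  have hB1 : ∃ b ∈ B, b ≠ 1 := by
    refine B.bot_or_exists_ne_one.resolve_left fun h => ?_
    rw [h, card_bot] at hcard
    exact absurd hcard.symm (Nat.one_lt_pow (by omega) (Fact.out (p := p.Prime)).one_lt).ne'
  intro d hd a ha
  have hdQ := signalizerDelta_le_centralizer_pCore hBe hB1 hd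
  obtain ⟨b, hb, hb1⟩ := hB1
  have hab : a ∈ centralizer ({b} : Set G) := fun y hy => by
    rw [Set.mem_singleton_iff] at hy
    rw [hy]
    exact congrArg Subtype.val (hA.1.1.1 ⟨b, hBA hb⟩ ⟨a, ha⟩)
  set c := a * d * a⁻¹ * d⁻¹ with hc
  have hcO : c ∈ Cfsg.centralizerPPrimeCore p b :=
    mul_mem ((mem_normalizer_iff.mp (centralizer_le_normalizer_centralizerPPrimeCore b hab) d).mp
      (signalizerDelta_le hb hb1 hd)) (inv_mem (signalizerDelta_le hb hb1 hd))
  have hc1 : c = 1 := by
    refine eq_one_of_centralizes_genFitting hO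
      ((coprime_card_centralizerPPrimeCore (p := p) b).coprime_dvd_left
        (Subgroup.orderOf_dvd_natCard _ hcO)) ?_ fun L hL => ?_
    · exact mul_mem ((inferInstance : (centralizer (Cfsg.pCore p G : Set G)).Normal).conj_mem d hdQ a)
        (inv_mem hdQ)
    · rcases signalizerDelta_component_cases hO hBe ⟨b, hb, hb1⟩ hL with h | ⟨_, hDN, hBC⟩
      · have hn : a ∈ normalizer (centralizer (L : Set G) : Set G) := by
          have ha' := hAinv L hL ha
          rw [mem_normalizer_iff]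
          intro g
          constructor
          · intro hg y hy
            have h2 := hg _ ((mem_normalizer_iff.mp (inv_mem ha') y).mp hy)
            calc y * (a * g * a⁻¹) = a * (a⁻¹ * y * a⁻¹⁻¹ * g) * a⁻¹ := by group
              _ = a * (g * (a⁻¹ * y * a⁻¹⁻¹)) * a⁻¹ := by rw [h2]
              _ = a * g * a⁻¹ * y := by group
          · intro hg y hy
            have h2 := hg _ ((mem_normalizer_iff.mp ha' y).mp hy)
            calc y * g = a⁻¹ * (a * y * a⁻¹ * (a * g * a⁻¹)) * a := by group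
              _ = a⁻¹ * (a * g * a⁻¹ * (a * y * a⁻¹)) * a := by rw [h2]
              _ = g * y := by group
        exact mul_mem ((mem_normalizer_iff.mp hn d).mp (h hd)) (inv_mem (h hd))
      · obtain ⟨W, H, f, hH, hDW, hAW, hker, hel, hcd, hle⟩ :=
          induced_setting hO hL (hAinv L hL) hDN hA.1 hBA hBe hBC
        have h1 := hle ⟨⟨d, hDW hd⟩, mem_subgroupOf.mpr hd, rfl⟩
        set x := f ⟨a, hAW ha⟩ with hx
        have hcommute : x * f ⟨d, hDW hd⟩ = f ⟨d, hDW hd⟩ * x := by
          by_cases hx1 : x = 1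
          · rw [hx1, one_mul, mul_one]
          · refine hloc L hL H hH _ hel (hcd.trans hcard) x (orderOf_eq_prime ?_ hx1) ?_ h1 x rfl
            · rw [hx, ← map_pow]
              convert map_one f using 2
              exact Subtype.ext (hA.2 a ha)
            · rintro _ ⟨v, hv, rfl⟩
              rw [hx, ← map_mul, ← map_mul]
              exact congrArg f (Subtype.ext (congrArg (fun u : ↥A => (u : G))
                (hA.1.1.1 ⟨v, hBA (mem_subgroupOf.mp hv)⟩ ⟨a, ha⟩)))
        have h2 : f (⟨a, hAW ha⟩ * ⟨d, hDW hd⟩ * (⟨a, hAW ha⟩ : ↥W)⁻¹ * (⟨d, hDW hd⟩ : ↥W)⁻¹) = 1 := by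
          rw [map_mul, map_mul, map_mul, map_inv, map_inv, ← hx, hcommute]
          group
        exact (hker _).mp h2
  calc a * d = a * d * a⁻¹ * d⁻¹ * (d * a) := by group
    _ = d * a := by rw [← hc, hc1, one_mul]

/-- `Δ_G(B) ∩ C(a)` maps into `Δ` of `C(a) / O_{p'}(C(a))`. -/
theorem map_signalizerDelta_inf_le (a : G) {B : Subgroup G} (hBe : ∀ b ∈ B, b ^ p = 1)
    (hBC : B ≤ centralizer ({a} : Set G)) :
    ((Cfsg.signalizerDelta p B ⊓ centralizer ({a} : Set G)).subgroupOf
          (centralizer ({a} : Set G))).map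
        (QuotientGroup.mk' (Cfsg.pPrimeCore p ↥(centralizer ({a} : Set G)))) ≤
      Cfsg.signalizerDelta p ((B.subgroupOf (centralizer ({a} : Set G))).map
        (QuotientGroup.mk' (Cfsg.pPrimeCore p ↥(centralizer ({a} : Set G))))) := by
  set C := centralizer ({a} : Set G) with hC
  set O := Cfsg.pPrimeCore p ↥C with hOdef
  set π := QuotientGroup.mk' O
  refine le_iInf fun ⟨v, ⟨b, hb, hbv⟩, hv1⟩ => ?_
  have hb' : (b : G) ∈ B := mem_subgroupOf.mp hb
  have hb1 : b ≠ 1 := fun h => hv1 (by rw [← hbv, h, map_one])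
  have hb1' : (b : G) ≠ 1 := fun h => hb1 (Subtype.ext h)
  refine le_trans ?_ (le_of_eq (congrArg (Cfsg.centralizerPPrimeCore p) (show π b = v from hbv)))
  -- the centraliser of the image
  have hcen : centralizer ({π b} : Set (↥C ⧸ O)) =
      (centralizer ({b} : Set ↥C)).map π := by
    have hR : IsPGroup p ↥(zpowers b) :=
      isPGroup_zpowers_of_pow_eq_one (Subtype.ext (hBe _ hb'))
    have h := centralizer_map_of_coprime hR O (Cores.coprime_card_pPrimeCore p)
    rwa [MonoidHom.map_zpowers, zpowers_eq_closure, zpowers_eq_closure, centralizer_closure,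
      centralizer_closure] at h
  set Cb := centralizer ({b} : Set ↥C) with hCb
  set S := ((Cfsg.centralizerPPrimeCore p (b : G)).subgroupOf C).map π with hS
  refine le_trans (map_mono fun y hy => mem_subgroupOf.mpr
    (signalizerDelta_le hb' hb1' (mem_subgroupOf.mp hy).1)) ?_
  have hSC : S ≤ centralizer ({π b} : Set (↥C ⧸ O)) := by
    rw [hcen]
    refine map_mono fun y hy z hz => ?_
    rw [Set.mem_singleton_iff] at hz
    subst hz
    exact Subtype.ext (centralizerPPrimeCore_le_centralizer_singleton (z : G)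
      (mem_subgroupOf.mp hy) _ rfl)
  have hSn : (S.subgroupOf (centralizer ({π b} : Set (↥C ⧸ O)))).Normal := by
    refine ⟨fun s hs c => mem_subgroupOf.mpr ?_⟩
    obtain ⟨y, hy, hys⟩ := mem_subgroupOf.mp hs
    obtain ⟨g, hg, hgc⟩ := hcen.le c.2
    refine ⟨g * y * g⁻¹, mem_subgroupOf.mpr ?_, ?_⟩
    · have hgb : (g : G) ∈ centralizer ({(b : G)} : Set G) := fun z hz => by
        rw [Set.mem_singleton_iff] at hz
        rw [hz]
        exact congrArg Subtype.val (hg b rfl)
      exact (mem_normalizer_iff.mp (centralizer_le_normalizer_centralizerPPrimeCore _ hgb) _).mp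
        (mem_subgroupOf.mp hy)
    · simp only [Subgroup.coe_mul, Subgroup.coe_inv]
      rw [map_mul, map_mul, map_inv, hys, hgc]
  have h1 : S.subgroupOf (centralizer ({π b} : Set (↥C ⧸ O))) ≤
      Cfsg.pPrimeCore p ↥(centralizer ({π b} : Set (↥C ⧸ O))) := by
    refine Cores.le_pPrimeCore hSn ?_
    rw [Cores.card_subgroupOf hSC]
    refine (coprime_card_centralizerPPrimeCore (p := p) (b : G)).coprime_dvd_left
      ((Subgroup.card_map_dvd _ _).trans ?_)
    rw [← Cores.card_map_subtype C, subgroupOf_map_subtype]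
    exact Subgroup.card_dvd_of_le inf_le_left
  exact fun u hu => ⟨⟨u, hSC hu⟩, h1 (mem_subgroupOf.mpr hu), rfl⟩

end Cfsg.Agent.Components
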