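/-
Local balance of a quasisimple group follows from that of its simple quotient, and local balance
of the components gives balance.
Main results: `signalizerDelta_map_equiv`, `isLocallyKBalanced_of_quotient_center`,
`isKBalanced_of_quotient_components`.
-/
import Cfsg.Agent.Lib.Components.KBalance

set_option autoImplicit false

namespace Cfsg.Agent.Components

open Subgroup

variable {H H' : Type*} [Group H] [Group H'] [Finite H] {p : ℕ} [Fact p.Prime]

omit [Fact p.Prime] in
theorem centralizerPPrimeCore_map_le [Finite H'] (e : H ≃* H') (a : H) :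
    (Cfsg.centralizerPPrimeCore p a).map e.toMonoidHom ≤ Cfsg.centralizerPPrimeCore p (e a) := by
  have hC : (centralizer ({a} : Set H)).map e.toMonoidHom = centralizer ({e a} : Set H') := by
    ext y
    constructor
    · rintro ⟨x, hx, rfl⟩
      refine mem_centralizer_singleton_iff.2 ?_
      show e x * e a = e a * e x
      rw [← map_mul, ← map_mul, mem_centralizer_singleton_iff.1 hx]
    · intro hy
      refine ⟨e.symm y, mem_centralizer_singleton_iff.2 (e.injective ?_), by simp⟩
      rw [map_mul, map_mul, e.apply_symm_apply]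
      exact mem_centralizer_singleton_iff.1 hy
  let g : ↥(centralizer ({a} : Set H)) ≃* ↥(centralizer ({e a} : Set H')) :=
    (e.subgroupMap (centralizer ({a} : Set H))).trans (MulEquiv.subgroupCongr hC)
  rintro _ ⟨_, ⟨x, hx, rfl⟩, rfl⟩
  refine ⟨g x, ?_, rfl⟩
  exact Cores.map_pPrimeCore_le g.toMonoidHom g.surjective p ⟨x, hx, rfl⟩

omit [Fact p.Prime] in
theorem signalizerDelta_map_le [Finite H'] (e : H ≃* H') (A : Subgroup H) :
    (Cfsg.signalizerDelta p A).map e.toMonoidHom ≤ Cfsg.signalizerDelta p (A.map e.toMonoidHom) := by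
  refine le_iInf fun ⟨b, hb, hb1⟩ => ?_
  obtain ⟨a, ha, rfl⟩ := hb
  have ha1 : a ≠ 1 := fun h => hb1 (by simp [h])
  exact (map_mono (signalizerDelta_le ha ha1)).trans (centralizerPPrimeCore_map_le e a)

omit [Fact p.Prime] in
/-- Local balance passes from `L / Z(L)` to the perfect group `L`. -/
theorem isLocallyKBalanced_of_quotient_center {L : Type*} [Group L] [Finite L] [Group.IsPerfect L]
    {k : ℕ} (h : Cfsg.IsLocallyKBalanced p k (L ⧸ center L)) : Cfsg.IsLocallyKBalanced p k L := by
  intro K hK A hA hAc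
  have hchar : ∀ a : MulAut L, (center L).map a.toMonoidHom = center L := fun a =>
    characteristic_iff_map_eq.mp inferInstance a
  let ψ : MulAut L →* MulAut (L ⧸ center L) :=
    { toFun := fun a => QuotientGroup.congr (center L) (center L) a (hchar a)
      map_one' := by ext u; obtain ⟨v, rfl⟩ := QuotientGroup.mk_surjective u; rfl
      map_mul' := fun a b => by ext u; obtain ⟨v, rfl⟩ := QuotientGroup.mk_surjective u; rfl }
  have hψ : Function.Injective ψ := by
    rw [injective_iff_map_eq_one]
    intro a ha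
    have hz : ∀ u : L, a u * u⁻¹ ∈ center L := by
      intro u
      have h1 := DFunLike.congr_fun ha (QuotientGroup.mk u)
      have h2 : QuotientGroup.mk (s := center L) (a u) = QuotientGroup.mk (s := center L) u := h1
      rw [← QuotientGroup.eq_one_iff, QuotientGroup.mk_mul, QuotientGroup.mk_inv, h2, mul_inv_cancel]
    let d : L →* ↥(center L) :=
      { toFun := fun u => ⟨a u * u⁻¹, hz u⟩
        map_one' := Subtype.ext (by simp)
        map_mul' := fun u v => by
          apply Subtype.ext
          show a (u * v) * (u * v)⁻¹ = a u * u⁻¹ * (a v * v⁻¹)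
          calc a (u * v) * (u * v)⁻¹ = a u * (a v * v⁻¹) * u⁻¹ := by rw [map_mul]; group
            _ = a u * (u⁻¹ * (a v * v⁻¹)) := by rw [mem_center_iff.1 (hz v) u⁻¹]; group
            _ = a u * u⁻¹ * (a v * v⁻¹) := by group }
    ext u
    have h3 : d u = 1 := by
      haveI : Group.IsPerfect ↥d.range := Group.IsPerfect.range d
      by_contra hne
      haveI : Nontrivial ↥d.range := (nontrivial_iff_ne_bot _).mpr fun e =>
        hne (mem_bot.1 (e ▸ ⟨_, rfl⟩))
      exact Group.IsPerfect.not_isMulCommutative ↥d.range inferInstance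
    simpa using mul_inv_eq_one.1 (congrArg Subtype.val h3 : a u * u⁻¹ = 1)
  haveI : Finite (MulAut L) := Finite.of_injective (fun f : MulAut L => (f : L → L)) DFunLike.coe_injective
  haveI : Finite (MulAut (L ⧸ center L)) :=
    Finite.of_injective (fun f : MulAut (L ⧸ center L) => (f : _ → _)) DFunLike.coe_injective
  let e : ↥K ≃* ↥(K.map ψ) := K.equivMapOfInjective ψ hψ
  have hK' : (MulAut.conj : L ⧸ center L →* MulAut (L ⧸ center L)).range ≤ K.map ψ := by
    rintro _ ⟨q, rfl⟩
    obtain ⟨u, rfl⟩ := QuotientGroup.mk_surjective q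
    refine ⟨MulAut.conj u, hK ⟨u, rfl⟩, ?_⟩
    ext v
    obtain ⟨w, rfl⟩ := QuotientGroup.mk_surjective v
    rfl
  have hA' : Cfsg.IsElementaryAbelian p (A.map e.toMonoidHom) := by
    have hc := hA.1
    refine ⟨inferInstance, ?_⟩
    rintro _ ⟨a, ha, rfl⟩
    rw [← map_pow, hA.2 a ha, map_one]
  have hcard : Nat.card ↥(A.map e.toMonoidHom) = p ^ k :=
    (Nat.card_congr (A.equivMapOfInjective _ e.injective).toEquiv).symm.trans hAc
  have h1 := (signalizerDelta_map_le (p := p) e A).trans (h (K.map ψ) hK' _ hA' hcard).le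
  rwa [le_bot_iff, Subgroup.map_eq_bot_iff_of_injective _ e.injective] at h1

/-- Local `k`-balance of the simple quotients of the components of `C(b) / O_{p'}(C(b))` gives
`k`-balance. -/
theorem isKBalanced_of_quotient_components {G : Type*} [Group G] [Finite G] {k : ℕ} (hk : 1 ≤ k)
    (h : ∀ x : G, orderOf x = p → ∀ K : Subgroup (↥(centralizer ({x} : Set G)) ⧸
        Cfsg.pPrimeCore p ↥(centralizer ({x} : Set G))),
      Cfsg.IsComponent K → Cfsg.IsLocallyKBalanced p k (↥K ⧸ center ↥K)) :
    Cfsg.IsKBalanced p k G := by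
  intro A hA hAc b hb hab
  set C := centralizer ({b} : Set G) with hC
  set O := Cfsg.pPrimeCore p ↥C
  set π := QuotientGroup.mk' O
  have hAC : A ≤ C := fun a ha => mem_centralizer_singleton_iff.2 (hab a ha)
  have hle : ∀ a ∈ A.subgroupOf C, π a = 1 → a = 1 := by
    intro a ha h1
    have h2 : a ^ Nat.card O = 1 :=
      orderOf_dvd_iff_pow_eq_one.mp (Subgroup.orderOf_dvd_natCard O ((QuotientGroup.eq_one_iff _).mp h1))
    have h3 : a ^ p = 1 := Subtype.ext (by simpa using hA.2 _ (mem_subgroupOf.mp ha))
    have h4 := pow_gcd_eq_one.mpr ⟨h2, h3⟩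
    rwa [(Cores.coprime_card_pPrimeCore p).gcd_eq_one, pow_one] at h4
  have helb : Cfsg.IsElementaryAbelian p ((A.subgroupOf C).map π) := by
    haveI := hA.1
    refine ⟨inferInstance, ?_⟩
    rintro _ ⟨a, ha, rfl⟩
    rw [← map_pow, show a ^ p = 1 from Subtype.ext (by simpa using hA.2 _ (mem_subgroupOf.mp ha)),
      map_one]
  have hcard : Nat.card ↥((A.subgroupOf C).map π) = p ^ k := by
    have hinj : Function.Injective (π.comp (A.subgroupOf C).subtype) := by
      rw [injective_iff_map_eq_one]
      exact fun a ha => Subtype.ext (hle a a.2 ha)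
    calc Nat.card ↥((A.subgroupOf C).map π)
        = Nat.card ↥(π.comp (A.subgroupOf C).subtype).range := by
          rw [MonoidHom.range_comp, range_subtype]
      _ = Nat.card ↥(A.subgroupOf C) := Nat.card_congr (MonoidHom.ofInjective hinj).toEquiv.symm
      _ = Nat.card ↥A := Nat.card_congr (subgroupOfEquivOfLe hAC).toEquiv
      _ = p ^ k := hAc
  have hD := signalizerDelta_eq_bot_of_components (Cores.pPrimeCore_quotient_self p) hk
    (fun K hK => by
      haveI := hK.2.1
      exact isLocallyKBalanced_of_quotient_center (h b hb K hK)) helb hcard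
  have h1 := map_signalizerDelta_inf_le (p := p) b (fun a ha => hA.2 a ha) hAC
  rw [hD, le_bot_iff, Subgroup.map_eq_bot_iff, QuotientGroup.ker_mk'] at h1
  rintro x ⟨hx, hxC⟩
  exact ⟨⟨x, hxC⟩, h1 (mem_subgroupOf.mpr ⟨hx, hxC⟩), rfl⟩

end Cfsg.Agent.Components
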