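/-
L-balance (balance of the p-layer) from the Schreier property of the components.
Main results: `inf_sup_centralizer_components`, `le_sup_centralizer_of_out_solvable`,
`pLayer_normalizer_le_of_inner`, `pLayer_normalizer_le` (L-balance).
-/
import Cfsg.Agent.Lib.Components.HatLayer
import Cfsg.Agent.Lib.ExtLayer.Basic

namespace Cfsg.Agent.Components

open Subgroup
open scoped commutatorElement Pointwise

variable {X : Type*} [Group X] [Finite X]

theorem le_normalizer_centralizer' {L : Subgroup X} :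
    L ≤ normalizer (centralizer (L : Set X) : Set X) := fun a ha => by
  rw [mem_normalizer_iff]
  intro g
  constructor
  · intro hg
    rwa [show a * g * a⁻¹ = g from by rw [hg a ha, mul_inv_cancel_right]]
  · intro hg
    have h1 := hg a ha
    rwa [show g = a * g * a⁻¹ from mul_left_cancel (a := a) (by
      calc a * g = a * g * a⁻¹ * a := by group
        _ = a * (a * g * a⁻¹) := h1.symm)]

/-- An element acting on each component as an inner automorphism lies in `E(X) C(E(X))`. -/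
theorem inf_sup_centralizer_components {x : X}
    (hx : ∀ L : Subgroup X, Cfsg.IsComponent L → x ∈ L ⊔ centralizer (L : Set X)) :
    x ∈ Cfsg.layer X ⊔ centralizer (Cfsg.layer X : Set X) := by
  suffices h : ∀ S : Set (Subgroup X), (∀ K ∈ S, Cfsg.IsComponent K) →
      ∃ e ∈ Cfsg.layer X, e⁻¹ * x ∈ centralizer ((sSup S : Subgroup X) : Set X) by
    obtain ⟨e, he, hc⟩ := h {K | Cfsg.IsComponent K} fun _ hK => hK
    rw [← mul_inv_cancel_left e x]
    exact mul_mem_sup he hc
  intro S hS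
  have hfin : S.Finite := Set.toFinite S
  revert hS
  refine Set.Finite.induction_on (motive := fun S _ => (∀ K ∈ S, Cfsg.IsComponent K) →
    ∃ e ∈ Cfsg.layer X, e⁻¹ * x ∈ centralizer ((sSup S : Subgroup X) : Set X)) S hfin ?_ ?_
  · intro _
    refine ⟨1, one_mem _, fun y hy => ?_⟩
    rw [sSup_empty, SetLike.mem_coe, mem_bot] at hy
    rw [hy, one_mul, mul_one]
  · intro L T hLT _ ih hS
    have hL : Cfsg.IsComponent L := hS L (Set.mem_insert _ _)
    have hT : ∀ K ∈ T, Cfsg.IsComponent K := fun K hK => hS K (Set.mem_insert_of_mem _ hK)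
    obtain ⟨e, he, hc⟩ := ih hT
    -- `e` also lies in `L ⊔ C(L)`
    have heL : e ∈ L ⊔ centralizer (L : Set X) := by
      refine (layer_le fun K hK => ?_) he
      by_cases hKL : K = L
      · exact hKL ▸ le_sup_left
      · exact (commutator_eq_bot_iff_le_centralizer.mp
          (IsComponent.commutator_eq_bot hK hL hKL)).trans le_sup_right
    have hmem : e⁻¹ * x ∈ L ⊔ centralizer (L : Set X) :=
      mul_mem (inv_mem heL) (hx L hL)
    obtain ⟨l, hl, c, hcL, hlc⟩ := Set.mem_mul.mp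
      (by rwa [← coe_mul_of_left_le_normalizer_right L _ le_normalizer_centralizer'] :
        e⁻¹ * x ∈ (L : Set X) * (centralizer (L : Set X) : Set X))
    refine ⟨e * l, mul_mem he (IsComponent.le_layer hL hl), ?_⟩
    have hc' : (e * l)⁻¹ * x = c := by
      rw [mul_inv_rev, mul_assoc, ← hlc, inv_mul_cancel_left]
    have hlT : l ∈ centralizer ((sSup T : Subgroup X) : Set X) :=
      IsComponent.le_centralizer_sSup hL hT hLT hl
    rw [hc', sSup_insert]
    have hcT : c ∈ centralizer ((sSup T : Subgroup X) : Set X) := by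
      have := mul_mem (inv_mem hlT) (hlc.symm ▸ hc : l * c ∈ centralizer ((sSup T : Subgroup X) : Set X))
      simpa using this
    have hle : L ⊔ sSup T ≤ centralizer ({c} : Set X) := by
      refine sup_le (fun y hy z hz => ?_) (fun y hy z hz => ?_) <;>
        rw [Set.mem_singleton_iff] at hz <;> subst hz
      · exact (hcL y hy).symm
      · exact (hcT y hy).symm
    exact fun y hy => (hle hy c rfl).symm

/-- A perfect group normalising a component whose simple quotient has solvable outer automorphism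
group induces inner automorphisms on it. -/
theorem le_sup_centralizer_of_out_solvable {L M : Subgroup X} (hL : Cfsg.IsComponent L)
    (hout : Group.IsSolvable (Cfsg.Out (↥L ⧸ center ↥L))) (hM : ⁅M, M⁆ = M)
    (hMN : M ≤ normalizer (L : Set X)) : M ≤ L ⊔ centralizer (L : Set X) := by
  set Z := center ↥L with hZ
  have hchar : ∀ a : MulAut ↥L, Z.map a.toMonoidHom = Z := fun a =>
    characteristic_iff_map_eq.mp inferInstance a
  let ψ : MulAut ↥L →* MulAut (↥L ⧸ Z) :=
    { toFun := fun a => QuotientGroup.congr Z Z a (hchar a)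
      map_one' := by ext u; obtain ⟨v, rfl⟩ := QuotientGroup.mk_surjective u; rfl
      map_mul' := fun a b => by ext u; obtain ⟨v, rfl⟩ := QuotientGroup.mk_surjective u; rfl }
  let f : ↥M →* Cfsg.Out (↥L ⧸ Z) :=
    (QuotientGroup.mk' (Cfsg.Inn (↥L ⧸ Z))).comp
      ((ψ.comp L.normalizerMonoidHom).comp (inclusion hMN))
  have hperf : Group.IsPerfect ↥M := Subgroup.isPerfect_iff.mpr hM
  have hrange : f.range = ⊥ := by
    by_contra hne
    have : Group.IsPerfect ↥f.range := Group.IsPerfect.range f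
    have : Nontrivial ↥f.range := (nontrivial_iff_ne_bot _).mpr hne
    exact Group.IsPerfect.not_isSolvable ↥f.range inferInstance
  intro k hk
  have h1 : f ⟨k, hk⟩ = 1 := by
    have : f ⟨k, hk⟩ ∈ f.range := ⟨_, rfl⟩
    rwa [hrange, mem_bot] at this
  obtain ⟨q, hq⟩ := (QuotientGroup.eq_one_iff _).mp h1
  obtain ⟨l, rfl⟩ := QuotientGroup.mk_surjective q
  rw [← mul_inv_cancel_left (l : X) k]
  refine mul_mem_sup l.2 ?_
  have hnorm : (l : X)⁻¹ * k ∈ normalizer (L : Set X) :=
    mul_mem (inv_mem (le_normalizer l.2)) (hMN hk)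
  have key : ⁅L, zpowers ((l : X)⁻¹ * k)⁆ = ⊥ := by
    refine commutator_eq_bot_of_perfect_of_le (IsComponent.perfect hL)
      (Z := Z.map L.subtype) ?_ (le_center_iff_commutator_eq_bot.mp le_rfl)
    set w := (l : X)⁻¹ * k with hw
    -- the conjugation by `w` is trivial modulo the centre
    have hconj : ∀ u : ↥L, w * u * w⁻¹ * (u : X)⁻¹ ∈ Z.map L.subtype := by
      intro u
      have h2 := DFunLike.congr_fun hq (QuotientGroup.mk u)
      have h3 : QuotientGroup.mk (s := Z) (l * u * l⁻¹) =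
          QuotientGroup.mk (s := Z) (L.normalizerMonoidHom ⟨k, hMN hk⟩ u) := h2
      have h4 := QuotientGroup.eq.mp h3
      obtain ⟨z, hz⟩ : ∃ z : ↥L, z ∈ Z ∧ (l : X) * u * (l : X)⁻¹ * z = k * u * k⁻¹ := by
        refine ⟨_, h4, ?_⟩
        simp only [Subgroup.coe_mul, Subgroup.coe_inv, normalizerMonoidHom_apply_apply_coe]
        group
      refine ⟨z, hz.1, ?_⟩
      have hzl : (z : X) * l = l * z := (congrArg Subtype.val (mem_center_iff.mp hz.1 l)).symm
      have hzu : (z : X) * (u : X)⁻¹ = (u : X)⁻¹ * z :=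
        (congrArg Subtype.val (mem_center_iff.mp hz.1 u⁻¹)).symm
      calc (z : X) = (z : X) * (u : X)⁻¹ * u := by group
        _ = (u : X)⁻¹ * z * u := by rw [hzu]
        _ = (u : X)⁻¹ * ((l : X)⁻¹ * (z * l)) * u := by rw [hzl]; group
        _ = w * u * w⁻¹ * (u : X)⁻¹ := by
            have hzu' : (z : X) * u = u * z := (congrArg Subtype.val (mem_center_iff.mp hz.1 u)).symm
            rw [hw]
            calc (u : X)⁻¹ * ((l : X)⁻¹ * (z * l)) * u
                = (u : X)⁻¹ * (z : X) * u := by rw [hzl]; group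
              _ = (z : X) := by rw [mul_assoc, hzu', inv_mul_cancel_left]
              _ = (l : X)⁻¹ * (z * l) * (1 : X) := by rw [hzl]; group
              _ = (l : X)⁻¹ * ((l : X) * u * (l : X)⁻¹ * z * l) * (u : X)⁻¹ := by
                  rw [hzl]
                  calc (l : X)⁻¹ * (l * z) * 1 = (u : X) * z * (u : X)⁻¹ := by
                        rw [← hzu', mul_inv_cancel_right]; group
                    _ = (l : X)⁻¹ * (l * u * (l : X)⁻¹ * (l * z)) * (u : X)⁻¹ := by group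
                    _ = (l : X)⁻¹ * (l * u * (l : X)⁻¹ * z * l) * (u : X)⁻¹ := by
                        rw [← hzl]; group
              _ = (l : X)⁻¹ * k * u * ((l : X)⁻¹ * k)⁻¹ * (u : X)⁻¹ := by rw [hz.2]; group
    let T : Subgroup X :=
      { carrier := {g | g ∈ normalizer (L : Set X) ∧ ∀ u : ↥L, g * u * g⁻¹ * (u : X)⁻¹ ∈ Z.map L.subtype}
        one_mem' := ⟨one_mem _, fun u => by simp⟩
        mul_mem' := fun {a b} ha hb => ⟨mul_mem ha.1 hb.1, fun u => by
          have h5 := ha.2 ⟨b * u * b⁻¹, (mem_normalizer_iff.mp hb.1 _).mp u.2⟩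
          have h6 := mul_mem h5 (hb.2 u)
          convert h6 using 1
          group⟩
        inv_mem' := fun {a} ha => ⟨inv_mem ha.1, fun u => by
          have hu' : a⁻¹ * u * a⁻¹⁻¹ ∈ L := (mem_normalizer_iff.mp (inv_mem ha.1) _).mp u.2
          have h5 := inv_mem (ha.2 ⟨_, hu'⟩)
          convert h5 using 1
          group⟩ }
    have hT : zpowers w ≤ T := zpowers_le.mpr ⟨hnorm, hconj⟩
    rw [commutator_comm, commutator_le]
    intro a ha u hu
    exact (hT ha).2 ⟨u, hu⟩
  rw [commutator_eq_bot_iff_le_centralizer, le_centralizer_iff, zpowers_le] at key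
  exact key

variable {p : ℕ} [Fact p.Prime]

/-- L-balance, with the inner-automorphism property of components as hypothesis. -/
theorem pLayer_normalizer_le_of_inner
    (hI : ∀ L M : Subgroup (X ⧸ Cfsg.pPrimeCore p X), Cfsg.IsComponent L → ⁅M, M⁆ = M →
      M ≤ normalizer (L : Set (X ⧸ Cfsg.pPrimeCore p X)) →
      M ≤ L ⊔ centralizer (L : Set (X ⧸ Cfsg.pPrimeCore p X)))
    (R : Subgroup X) (hR : IsPGroup p ↥R) :
    (Cfsg.pLayer p ↥(normalizer (R : Set X))).map (normalizer (R : Set X)).subtype ≤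
      Cfsg.pLayer p X := by
  set N := normalizer (R : Set X) with hN
  set O := Cfsg.pPrimeCore p X with hO
  set π := QuotientGroup.mk' O with hπ
  set ON := Cfsg.pPrimeCore p ↥N with hON
  set πN := QuotientGroup.mk' ON with hπN
  have hOO : O.subgroupOf N ≤ ON := by
    refine Cores.le_pPrimeCore inferInstance ((Cores.coprime_card_pPrimeCore (G := X) p).coprime_dvd_left ?_)
    rw [← Cores.card_map_subtype N, subgroupOf_map_subtype]
    exact Subgroup.card_dvd_of_le inf_le_left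
  have hCN : centralizer (R : Set X) ≤ N := centralizer_le_normalizer (R : Set X)
  rw [map_le_iff_le_comap]
  refine sSup_le fun K hK => map_le_iff_le_comap.mp ?_
  set K0 := K.map N.subtype with hK0
  have hK0p : pGen p K0 = K0 := by
    refine le_antisymm (pGen_le p _) ?_
    rw [hK0]
    conv_lhs => rw [← IsPComponent.pGen_eq hK, pGen, MonoidHom.map_closure]
    refine closure_mono ?_
    rintro _ ⟨x, ⟨hx, j, hj⟩, rfl⟩
    exact ⟨mem_map_of_mem _ hx, j, by rw [← map_pow, hj, map_one]⟩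
  have hK0perf : ⁅K0, K0⁆ = K0 := by rw [hK0, ← map_commutator, IsPComponent.perfect hK]
  set Kb := K0.map π with hKb
  have hKbperf : ⁅Kb, Kb⁆ = Kb := by rw [hKb, ← map_commutator, hK0perf]
  -- it suffices that the image lies in the layer
  suffices hmain : Kb ≤ Cfsg.layer (X ⧸ O) by
    have h1 : K0 ≤ Cfsg.pLayer p X ⊔ O := by
      rw [← QuotientGroup.ker_mk' O, ← comap_map_eq, map_pLayer]
      exact map_le_iff_le_comap.mp hmain
    rw [← hK0p, pGen, closure_le]
    rintro x ⟨hx, j, hj⟩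
    haveI := ExtLayer.pLayer_normal (X := X) p
    exact pGen_le_of_le_sup (K := Cfsg.pLayer p X ⊔ O) (H := Cfsg.pLayer p X) (Y := O)
      (Normal.isSubnormal inferInstance) le_sup_left (Cores.coprime_card_pPrimeCore p) le_rfl
      (subset_closure ⟨h1 hx, j, hj⟩)
  have hO' : Cfsg.pPrimeCore p (X ⧸ O) = ⊥ := Cores.pPrimeCore_quotient_self p
  set Q := Cfsg.pCore p (X ⧸ O) with hQ
  have hKlayer : K.map πN ≤ Cfsg.layer (↥N ⧸ ON) := IsComponent.le_layer hK.2.1
  have hK0R : K0 ≤ centralizer (R : Set X) := by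
    have h1 : K ≤ centralizer (R.subgroupOf N : Set ↥N) :=
      (map_le_iff_le_comap.mp hKlayer).trans (preimage_layer_le_centralizer (R.subgroupOf N)
        (hR.of_equiv (subgroupOfEquivOfLe le_normalizer).symm))
    rintro _ ⟨k, hk, rfl⟩ r hr
    exact congrArg Subtype.val (h1 hk ⟨r, le_normalizer hr⟩ (mem_subgroupOf.mpr hr))
  have hKbR : Kb ≤ centralizer ((R.map π : Subgroup _) : Set (X ⧸ O)) := by
    rw [centralizer_map_of_coprime hR O (Cores.coprime_card_pPrimeCore p)]
    exact map_mono hK0R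
  -- `Kb` centralises `O_p`
  have hKbQ : Kb ≤ centralizer (Q : Set (X ⧸ O)) := by
    have hQn : normalizer (Q : Set (X ⧸ O)) = ⊤ := normalizer_eq_top_iff.mpr inferInstance
    refine le_centralizer_of_le_centralizer (hR.map π) (Cores.isPGroup_pCore p (X ⧸ O))
      (hQn ▸ le_top) (pPrimeGen_eq_self_of_perfect hKbperf) (hQn ▸ le_top) hKbR ?_
    rintro _ ⟨_, ⟨k, hk, rfl⟩, rfl⟩ y ⟨hyQ, hyR⟩
    rw [centralizer_map_of_coprime hR O (Cores.coprime_card_pPrimeCore p)] at hyR
    obtain ⟨g, hg, rfl⟩ := hyR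
    set D := (Q.comap π).subgroupOf N with hD
    have hgD : (⟨g, hCN hg⟩ : ↥N) ∈ D := hyQ
    have hDp : IsPGroup p ↥(D.map πN) := by
      rintro ⟨_, d, hd, rfl⟩
      obtain ⟨j, hj⟩ := Cores.isPGroup_pCore p (X ⧸ O) ⟨π d, mem_subgroupOf.mp hd⟩
      refine ⟨j, Subtype.ext ?_⟩
      show πN d ^ p ^ j = 1
      rw [← map_pow]
      refine (QuotientGroup.eq_one_iff _).mpr (hOO (mem_subgroupOf.mpr ?_))
      rw [← QuotientGroup.eq_one_iff]
      show π (((d ^ p ^ j : ↥N)) : X) = 1
      rw [Subgroup.coe_pow, map_pow]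
      exact congrArg Subtype.val hj
    have hDn : (D.map πN).Normal := Normal.map inferInstance πN (QuotientGroup.mk'_surjective ON)
    have hDnil : Group.IsNilpotent ↥(D.map πN) := hDp.isNilpotent
    have h1 : Cfsg.layer (↥N ⧸ ON) ≤ centralizer (D.map πN : Set (↥N ⧸ ON)) :=
      layer_le_centralizer_of_solvable inferInstance (normalizer_eq_top (H := D.map πN) ▸ le_top)
    set c := (⟨g, hCN hg⟩ : ↥N) * k * (⟨g, hCN hg⟩ : ↥N)⁻¹ * k⁻¹ with hc
    have hcO : c ∈ ON := by
      rw [← QuotientGroup.eq_one_iff]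
      show πN c = 1
      rw [hc, map_mul, map_mul, map_mul, map_inv, map_inv,
        h1 (hKlayer ⟨k, hk, rfl⟩) _ ⟨_, hgD, rfl⟩]
      group
    have hcD : c ∈ D := by
      rw [hc, mul_assoc, mul_assoc, ← mul_assoc k]
      exact D.mul_mem hgD ((inferInstance : D.Normal).conj_mem _ (D.inv_mem hgD) k)
    have h2 : π (N.subtype c) = 1 := by
      obtain ⟨j, hj⟩ := Cores.isPGroup_pCore p (X ⧸ O) ⟨π (N.subtype c), mem_subgroupOf.mp hcD⟩
      have hj' : π (N.subtype c) ^ p ^ j = 1 := congrArg Subtype.val hj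
      have h2 : π (N.subtype c) ^ Nat.card ON = 1 := by
        rw [← map_pow, ← map_pow,
          orderOf_dvd_iff_pow_eq_one.mp (Subgroup.orderOf_dvd_natCard _ hcO), map_one, map_one]
      have h3 := pow_gcd_eq_one.mpr ⟨h2, hj'⟩
      rwa [((Cores.coprime_card_pPrimeCore p).pow_right j).gcd_eq_one, pow_one] at h3
    simp only [hc, map_mul, map_inv, coe_subtype] at h2
    calc π g * π k = π g * π k * (π g)⁻¹ * (π k)⁻¹ * (π k * π g) := by group
      _ = π k * π g := by rw [h2, one_mul]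
  set E := Cfsg.layer (X ⧸ O) with hE
  set D := (E.comap π ⊓ centralizer (R : Set X)).subgroupOf N with hD
  have hCn : ((centralizer (R : Set X)).subgroupOf N).Normal := by
    refine ⟨fun d hd g => mem_subgroupOf.mpr fun y hy => ?_⟩
    have h1 := (mem_subgroupOf.mp hd) _ ((mem_normalizer_iff.mp (inv_mem g.2) y).mp hy)
    simp only [Subgroup.coe_mul, Subgroup.coe_inv]
    calc y * ((g : X) * d * (g : X)⁻¹)
        = (g : X) * ((g : X)⁻¹ * y * ((g : X)⁻¹)⁻¹ * d) * (g : X)⁻¹ := by group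
      _ = (g : X) * (d * ((g : X)⁻¹ * y * ((g : X)⁻¹)⁻¹)) * (g : X)⁻¹ := by rw [h1]
      _ = (g : X) * d * (g : X)⁻¹ * y := by group
  have hDn : D.Normal := by
    refine ⟨fun d hd g => mem_subgroupOf.mpr ⟨?_, ?_⟩⟩
    · exact (inferInstance : (E.comap π).Normal).conj_mem _ (mem_subgroupOf.mp hd).1 g
    · exact mem_subgroupOf.mp (hCn.conj_mem d (mem_subgroupOf.mpr (mem_subgroupOf.mp hd).2) g)
  rcases IsComponent.le_or_commutes hK.2.1
    (hDn.map πN (QuotientGroup.mk'_surjective ON)).isSubnormal with h | h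
  · -- the component lies in the layer
    have h1 : K ≤ D := by
      rw [← IsPComponent.pGen_eq hK, pGen, closure_le]
      rintro k ⟨hk, j, hj⟩
      refine pGen_le_of_le_sup (K := D ⊔ ON) (H := D) (Y := ON) hDn.isSubnormal le_sup_left
        (Cores.coprime_card_pPrimeCore p) le_rfl (subset_closure ⟨?_, j, hj⟩)
      rw [← QuotientGroup.ker_mk' ON, ← comap_map_eq]
      exact h ⟨k, hk, rfl⟩
    rintro _ ⟨_, ⟨k, hk, rfl⟩, rfl⟩
    exact (mem_subgroupOf.mp (h1 hk)).1
  -- otherwise `Kb` centralises `F*`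
  set A := ((ON.map N.subtype).map π) with hA
  have hAcard : (Nat.card A).Coprime p := by
    refine Nat.Coprime.coprime_dvd_left ((card_map_dvd _ _).trans (card_map_dvd _ _)) ?_
    exact Cores.coprime_card_pPrimeCore p
  have hcomm : ∀ k ∈ K, ∀ d ∈ E, d ∈ centralizer ((R.map π : Subgroup _) : Set (X ⧸ O)) →
      π (N.subtype k) * d * (π (N.subtype k))⁻¹ * d⁻¹ ∈ A := by
    intro k hk d hdE hdR
    rw [centralizer_map_of_coprime hR O (Cores.coprime_card_pPrimeCore p)] at hdR
    obtain ⟨g, hg, rfl⟩ := hdR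
    set g' : ↥N := ⟨g, hCN hg⟩
    have hg' : g' ∈ D := mem_subgroupOf.mpr ⟨hdE, hg⟩
    have h2 : k * g' * k⁻¹ * g'⁻¹ ∈ ON := by
      rw [← QuotientGroup.eq_one_iff]
      show πN _ = 1
      rw [map_mul, map_mul, map_mul, map_inv, map_inv,
        ← (commutator_eq_bot_iff_le_centralizer.mp h) ⟨k, hk, rfl⟩ _ ⟨g', hg', rfl⟩]
      show πN g' * πN k * (πN k)⁻¹ * (πN g')⁻¹ = 1
      group
    refine ⟨N.subtype (k * g' * k⁻¹ * g'⁻¹), ⟨_, h2, rfl⟩, ?_⟩
    simp only [map_mul, map_inv]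
    rfl
  have hKbN : ∀ L : Subgroup (X ⧸ O), Cfsg.IsComponent L →
      Kb ≤ normalizer (L : Set (X ⧸ O)) := by
    intro L hL
    rw [← pPrimeGen_eq_self_of_perfect (p := p) hKbperf, pPrimeGen, closure_le]
    rintro _ ⟨⟨_, ⟨k, hk, rfl⟩, rfl⟩, ho⟩
    have hmem : π (N.subtype k) ∈ Kb := ⟨_, ⟨k, hk, rfl⟩, rfl⟩
    have h1 := conj_component_eq_of_commutator_mem hO' (hR.map π) hAcard ho (hKbR hmem)
      (hKbQ hmem) (hcomm k hk) hL
    rw [SetLike.mem_coe, mem_normalizer_iff]
    refine fun g => ⟨fun hg => h1 ▸ ⟨g, hg, rfl⟩, fun hg => ?_⟩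
    obtain ⟨g', hg', he⟩ := h1.symm ▸ hg
    simp only [MulEquiv.coe_toMonoidHom, MulAut.conj_apply] at he
    rwa [mul_left_cancel (mul_right_cancel he)] at hg'
  have hEC : Kb ≤ E ⊔ centralizer (E : Set (X ⧸ O)) := fun x hx =>
    inf_sup_centralizer_components fun L hL => hI L Kb hL hKbperf (hKbN L hL) hx
  set CE := centralizer (E : Set (X ⧸ O)) with hCE
  set γ := QuotientGroup.mk' CE with hγ
  set S0 := E ⊓ (Kb ⊔ CE) with hS0
  have hS0D : ⁅S0, S0⁆ ≤ E ⊓ centralizer ((R.map π : Subgroup _) : Set (X ⧸ O)) := by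
    refine le_inf ((commutator_mono inf_le_left inf_le_left).trans (commutator_le_self E)) ?_
    have hz : ∀ e ∈ S0, ∀ r ∈ R.map π, r * e * r⁻¹ * e⁻¹ ∈ E ⊓ CE := by
      rintro e ⟨heE, he⟩ r hr
      refine ⟨E.mul_mem (layer_normal.conj_mem e heE r) (E.inv_mem heE), ?_⟩
      obtain ⟨k, hk, c, hc, rfl⟩ := mem_sup_of_normal_right.mp he
      have hkr : r * k = k * r := hKbR hk r hr
      have h2 : r * (k * c) * r⁻¹ * (k * c)⁻¹ = k * (r * c * r⁻¹ * c⁻¹) * k⁻¹ := by
        calc r * (k * c) * r⁻¹ * (k * c)⁻¹ = (r * k) * c * r⁻¹ * c⁻¹ * k⁻¹ := by group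
          _ = k * (r * c * r⁻¹ * c⁻¹) * k⁻¹ := by rw [hkr]; group
      rw [h2]
      exact (inferInstance : CE.Normal).conj_mem _
        (mul_mem ((inferInstance : CE.Normal).conj_mem c hc r) (inv_mem hc)) k
    rw [commutator_le]
    intro e1 he1 e2 he2 r hr
    have z1 := hz e1 he1 r hr
    have z2 := hz e2 he2 r hr
    set a := r * e1 * r⁻¹ * e1⁻¹ with ha
    set b := r * e2 * r⁻¹ * e2⁻¹ with hb
    have ha1 : ∀ u ∈ E, a * u = u * a := fun u hu => (z1.2 u hu).symm
    have hb1 : ∀ u ∈ E, b * u = u * b := fun u hu => (z2.2 u hu).symm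
    have key : r * ⁅e1, e2⁆ * r⁻¹ = ⁅e1, e2⁆ := by
      calc r * ⁅e1, e2⁆ * r⁻¹
          = (a * e1) * (b * e2) * (a * e1)⁻¹ * (b * e2)⁻¹ := by
            simp only [ha, hb, commutatorElement_def]; group
        _ = a * (e1 * b) * e2 * e1⁻¹ * a⁻¹ * e2⁻¹ * b⁻¹ := by group
        _ = (a * b) * (e1 * e2 * e1⁻¹) * a⁻¹ * e2⁻¹ * b⁻¹ := by
            rw [← hb1 e1 he1.1]; group
        _ = (a * b) * ((e1 * e2 * e1⁻¹) * (e2⁻¹ * a⁻¹)) * b⁻¹ := by
            have h3 : a⁻¹ * e2⁻¹ = e2⁻¹ * a⁻¹ := by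
              rw [← mul_inv_rev, ← mul_inv_rev, ha1 e2 he2.1]
            rw [mul_assoc ((a * b) * (e1 * e2 * e1⁻¹)) a⁻¹ e2⁻¹, h3]; group
        _ = (a * b) * ⁅e1, e2⁆ * (a⁻¹ * b⁻¹) := by rw [commutatorElement_def]; group
        _ = ⁅e1, e2⁆ := by
            have hcE : ⁅e1, e2⁆ ∈ E := by
              rw [commutatorElement_def]
              exact mul_mem (mul_mem (mul_mem he1.1 he2.1) (inv_mem he1.1)) (inv_mem he2.1)
            have h4 : (a * b) * ⁅e1, e2⁆ = ⁅e1, e2⁆ * (a * b) := by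
              rw [mul_assoc, hb1 _ hcE, ← mul_assoc, ha1 _ hcE, mul_assoc]
            have h5 : a * b = b * a := ha1 b z2.1
            rw [h4, h5]
            group
    calc r * ⁅e1, e2⁆ = r * ⁅e1, e2⁆ * r⁻¹ * r := by group
      _ = ⁅e1, e2⁆ * r := by rw [key]
  have hγS : Kb.map γ ≤ S0.map γ := by
    rintro _ ⟨k, hk, rfl⟩
    obtain ⟨e, he, c, hc, rfl⟩ := mem_sup_of_normal_right.mp (hEC hk)
    refine ⟨e, ⟨he, ?_⟩, ?_⟩
    · have := mul_mem ((le_sup_left : Kb ≤ Kb ⊔ CE) hk) ((le_sup_right : CE ≤ Kb ⊔ CE) (inv_mem hc))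
      simpa using this
    · rw [map_mul, show γ c = 1 from (QuotientGroup.eq_one_iff c).mpr hc, mul_one]
  have hγA : Kb.map γ ≤ A.map γ := by
    rw [← hKbperf, map_commutator]
    have h1 : Kb.map γ ≤ (⁅S0, S0⁆).map γ := by
      rw [map_commutator]
      calc Kb.map γ = ⁅Kb.map γ, Kb.map γ⁆ := by rw [← map_commutator, hKbperf]
        _ ≤ _ := commutator_mono hγS hγS
    refine (commutator_mono le_rfl h1).trans ?_
    rw [commutator_le]
    rintro _ ⟨_, ⟨_, ⟨k, hk, rfl⟩, rfl⟩, rfl⟩ _ ⟨d, hd, rfl⟩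
    refine ⟨_, hcomm k hk d (hS0D hd).1 (hS0D hd).2, ?_⟩
    simp only [commutatorElement_def, map_mul, map_inv]
  have hKbCE : Kb ≤ CE := by
    have h1 : Kb.map γ = ⊥ := by
      rw [eq_bot_iff]
      have hgen : Kb.map γ = pGen p (Kb.map γ) := by
        refine le_antisymm ?_ (pGen_le p _)
        rw [hKb, map_map]
        conv_lhs => rw [← hK0p, pGen, MonoidHom.map_closure]
        refine closure_mono ?_
        rintro _ ⟨x, ⟨hx, j, hj⟩, rfl⟩
        exact ⟨mem_map_of_mem _ hx, j, by rw [← map_pow, hj, map_one]⟩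
      rw [hgen, pGen, closure_le]
      rintro y ⟨hy, j, hj⟩
      have hco : (Nat.card (A.map γ)).Coprime p := hAcard.coprime_dvd_left (card_map_dvd _ _)
      have h2 := pow_gcd_eq_one.mpr
        ⟨orderOf_dvd_iff_pow_eq_one.mp (Subgroup.orderOf_dvd_natCard _ (hγA hy)), hj⟩
      rwa [(hco.pow_right j).gcd_eq_one, pow_one] at h2
    rwa [Subgroup.map_eq_bot_iff, hγ, QuotientGroup.ker_mk'] at h1
  have hKbF : Kb ≤ Q := by
    rw [hQ, ← fitting_eq_pCore_of hO']
    refine le_trans (le_centralizer_iff.mp (sup_le ?_ ?_)) centralizer_genFitting_le_fitting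
    · exact le_centralizer_iff.mp hKbCE
    · rw [fitting_eq_pCore_of hO']
      exact le_centralizer_iff.mp hKbQ
  have hbot : Kb = ⊥ := by
    rw [← hKbperf, eq_bot_iff]
    exact ((commutator_mono le_rfl hKbF).trans
      (commutator_eq_bot_iff_le_centralizer.mpr hKbQ).le)
  exact hbot ▸ bot_le

/-- L-balance under the Schreier property of the components. -/
theorem pLayer_normalizer_le
    (hS : ∀ K : Subgroup (X ⧸ Cfsg.pPrimeCore p X), Cfsg.IsComponent K →
      Group.IsSolvable (Cfsg.Out (↥K ⧸ Subgroup.center ↥K)))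
    (R : Subgroup X) (hR : IsPGroup p ↥R) :
    (Cfsg.pLayer p ↥(normalizer (R : Set X))).map (normalizer (R : Set X)).subtype ≤
      Cfsg.pLayer p X :=
  pLayer_normalizer_le_of_inner
    (fun L _ hL hM hMN => le_sup_centralizer_of_out_solvable hL (hS L hL) hM hMN) R hR

end Cfsg.Agent.Components
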