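/-
`p`-components described intrinsically, and their descent to centralizers.

A subgroup is `IsPLike p K` when `K / O_{p'}(K)` is quasisimple and `K` is generated by its
`p`-elements; a `p`-component is exactly a subnormal such subgroup (`isPComponent_iff`).
`CentBar p K d` says that `d` normalizes `K` and centralizes `K / O_{p'}(K)`.
Main results: `isPComponent_iff`, `isPComponentOf_iff`, `IsPLike.perfect`, `IsPLike.descend`,
`pLayer_eq_of_isPLike`, `mem_centralizerOfPComponent_iff`, `IsPComponent.le_or_commutator_le`,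
`commutator_eq_bot_of_ne`.
-/
import Cfsg.Agent.Lib.Components.LBalance

set_option autoImplicit false

namespace Cfsg.Agent.Components

open Subgroup
open scoped commutatorElement Pointwise

/-- `K / O_{p'}(K)` is quasisimple and `K` is generated by `p`-elements. -/
def IsPLike {G : Type*} [Group G] (p : ℕ) (K : Subgroup G) : Prop :=
  Cfsg.IsQuasisimple (↥K ⧸ Cfsg.pPrimeCore p ↥K) ∧ pGen p K = K

/-- `O_{p'}(K)` inside the ambient group. -/
abbrev OCore {G : Type*} [Group G] (p : ℕ) (K : Subgroup G) : Subgroup G :=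
  (Cfsg.pPrimeCore p ↥K).map K.subtype

/-- `d` normalizes `K` and centralizes `K / O_{p'}(K)`. -/
def CentBar {G : Type*} [Group G] (p : ℕ) (K : Subgroup G) (d : G) : Prop :=
  d ∈ normalizer (K : Set G) ∧ ∀ k ∈ K, d * k * d⁻¹ * k⁻¹ ∈ OCore p K

variable {G : Type*} [Group G] {p : ℕ}

theorem pGen_map_of_injective {G' : Type*} [Group G'] {f : G →* G'} (hf : Function.Injective f)
    (H : Subgroup G) : (pGen p H).map f = pGen p (H.map f) := by
  refine map_pGen_of_ker_coprime f ?_ H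
  rw [(MonoidHom.ker_eq_bot_iff f).mpr hf, card_bot]
  exact Nat.coprime_one_left p

theorem pGen_pGen (H : Subgroup G) : pGen p (pGen p H) = pGen p H :=
  le_antisymm (pGen_le p _) ((closure_le _).mpr fun _ hx =>
    subset_closure ⟨subset_closure hx, hx.2⟩)

theorem OCore_le (K : Subgroup G) : OCore p K ≤ K := map_subtype_le _

theorem pGen_top_of {K : Subgroup G} (h : pGen p K = K) : pGen p (⊤ : Subgroup ↥K) = ⊤ := by
  apply Subgroup.map_injective (subtype_injective K)
  rw [pGen_map_of_injective (subtype_injective K), ← MonoidHom.range_eq_map, range_subtype, h]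

variable [Finite G]

theorem coprime_card_OCore (K : Subgroup G) : (Nat.card (OCore p K)).Coprime p := by
  rw [Cores.card_map_subtype]
  exact Cores.coprime_card_pPrimeCore p

theorem le_OCore {K N : Subgroup G} (hNK : N ≤ K) (hn : K ≤ normalizer (N : Set G))
    (h : (Nat.card N).Coprime p) : N ≤ OCore p K := by
  have h1 : N.subgroupOf K ≤ Cfsg.pPrimeCore p ↥K :=
    Cores.le_pPrimeCore (normal_subgroupOf_of_le_normalizer hn) (by
      rwa [← Cores.card_map_subtype K, map_subgroupOf_eq_of_le hNK])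
  intro x hx
  exact ⟨⟨x, hNK hx⟩, h1 (mem_subgroupOf.mpr hx), rfl⟩

theorem normalizer_le_normalizer_OCore (K : Subgroup G) :
    normalizer (K : Set G) ≤ normalizer (OCore p K : Set G) := by
  intro d hd
  have h : ∀ e ∈ normalizer (K : Set G), ∀ u ∈ OCore p K, e * u * e⁻¹ ∈ OCore p K := by
    rintro e he _ ⟨u, hu, rfl⟩
    refine ⟨K.normalizerMonoidHom ⟨e, he⟩ u, ?_, rfl⟩
    rw [SetLike.mem_coe, ← ExtLayer.map_pPrimeCore p (K.normalizerMonoidHom ⟨e, he⟩)]
    exact mem_map_of_mem _ hu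
  refine mem_normalizer_iff.mpr fun u => ⟨h d hd u, fun hu => ?_⟩
  have := h d⁻¹ (inv_mem hd) _ hu
  simpa [mul_assoc] using this

theorem le_normalizer_OCore (K : Subgroup G) : K ≤ normalizer (OCore p K : Set G) :=
  le_normalizer.trans (normalizer_le_normalizer_OCore K)

omit [Finite G] in
/-- The restriction of a homomorphism to `K` induces `K / O_{p'}(K) ≃ f(K)` when its kernel meets
`K` in `O_{p'}(K)`. -/
noncomputable def quotientEquivMap {Q : Type*} [Group Q] (f : G →* Q) (K : Subgroup G)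
    (h : K ⊓ f.ker = OCore p K) : ↥K ⧸ Cfsg.pPrimeCore p ↥K ≃* ↥(K.map f) :=
  (QuotientGroup.quotientMulEquivOfEq (by
      apply Subgroup.map_injective (subtype_injective K)
      rw [show (Cfsg.pPrimeCore p ↥K).map K.subtype = K ⊓ f.ker from h.symm]
      ext x
      simp only [mem_inf, mem_map, MonoidHom.mem_ker, MonoidHom.domRestrict_apply]
      constructor
      · rintro ⟨hx, hx'⟩
        exact ⟨⟨x, hx⟩, hx', rfl⟩
      · rintro ⟨y, hy, rfl⟩
        exact ⟨y.2, hy⟩)).trans
    (QuotientGroup.quotientKerEquivRange (f.domRestrict K)) |>.trans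
    (MulEquiv.subgroupCongr (MonoidHom.domRestrict_range _ _))

/-- A subnormal subgroup meets `O_{p'}(G)` in its own `p'`-core. -/
theorem inf_pPrimeCore_eq_of_isSubnormal {K : Subgroup G} (hK : K.IsSubnormal) :
    K ⊓ Cfsg.pPrimeCore p G = OCore p K := by
  refine le_antisymm ?_ (le_inf (OCore_le K) ?_)
  · refine le_OCore inf_le_left ?_ ?_
    · intro k hk
      exact inf_normalizer_le_normalizer_inf ⟨le_normalizer hk, normalizer_eq_top
        (H := Cfsg.pPrimeCore p G) ▸ mem_top k⟩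
    · exact (Cores.coprime_card_pPrimeCore p).coprime_dvd_left (Subgroup.card_dvd_of_le inf_le_right)
  · exact Cores.le_pPrimeCore_of_isSubnormal
      ((Cores.pPrimeCore_normal p ↥K).isSubnormal.trans' hK) (coprime_card_OCore K)

variable [Fact p.Prime]

/-- `p`-components are the subnormal subgroups `K` generated by `p`-elements with
`K / O_{p'}(K)` quasisimple. -/
theorem isPComponent_iff {K : Subgroup G} :
    Cfsg.IsPComponent p K ↔ K.IsSubnormal ∧ IsPLike p K := by
  constructor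
  · intro hK
    exact ⟨hK.1, IsPComponent.isQuasisimple_quotient hK, IsPComponent.pGen_eq hK⟩
  · rintro ⟨hs, hq, hg⟩
    have e : ↥K ⧸ Cfsg.pPrimeCore p ↥K ≃* ↥(K.map (QuotientGroup.mk' (Cfsg.pPrimeCore p G))) :=
      quotientEquivMap _ K (by rw [QuotientGroup.ker_mk', inf_pPrimeCore_eq_of_isSubnormal hs])
    refine ⟨hs, ⟨hs.map (QuotientGroup.mk'_surjective _), (isQuasisimple_congr e).mp hq⟩,
      fun H hH hle hmap => le_antisymm hle ?_⟩
    rw [← hg]
    refine pGen_le_of_le_sup hH hle (Cores.coprime_card_pPrimeCore p) ?_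
    conv_rhs => rw [← QuotientGroup.ker_mk' (Cfsg.pPrimeCore p G), ← comap_map_eq, hmap]
    exact le_comap_map _ _

theorem isPLike_map_iff {G' : Type*} [Group G'] [Finite G'] {f : G →* G'}
    (hf : Function.Injective f) (K : Subgroup G) : IsPLike p (K.map f) ↔ IsPLike p K := by
  refine and_congr (isQuasisimple_congr ?_).symm ?_
  · exact QuotientGroup.congr _ _ (K.equivMapOfInjective f hf)
      (ExtLayer.map_pPrimeCore p (K.equivMapOfInjective f hf))
  · rw [← pGen_map_of_injective hf]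
    exact (Subgroup.map_injective hf).eq_iff

theorem isPLike_subgroupOf_iff {K H : Subgroup G} (h : K ≤ H) :
    IsPLike p (K.subgroupOf H) ↔ IsPLike p K := by
  rw [← isPLike_map_iff (subtype_injective H), map_subgroupOf_eq_of_le h]

theorem isPComponentOf_iff {K H : Subgroup G} :
    Cfsg.IsPComponentOf p K H ↔ K ≤ H ∧ (K.subgroupOf H).IsSubnormal ∧ IsPLike p K := by
  refine and_congr_right fun h => ?_
  rw [isPComponent_iff, isPLike_subgroupOf_iff h]

omit [Fact p.Prime] in
theorem IsPLike.pGen_eq {K : Subgroup G} (h : IsPLike p K) : pGen p K = K := h.2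

theorem IsPLike.not_le_OCore {K : Subgroup G} (h : IsPLike p K) : ¬ K ≤ OCore p K := by
  intro hle
  have := IsQuasisimple.nontrivial h.1
  have htop : Cfsg.pPrimeCore p ↥K = ⊤ := by
    rw [eq_top_iff]
    rintro ⟨k, hk⟩ -
    obtain ⟨u, hu, hue⟩ := hle hk
    rwa [show (⟨k, hk⟩ : ↥K) = u from Subtype.ext hue.symm]
  exact not_subsingleton (↥K ⧸ Cfsg.pPrimeCore p ↥K) (by
    rw [htop]; exact QuotientGroup.subsingleton_quotient_top)

theorem IsPLike.perfect {K : Subgroup G} (h : IsPLike p K) : ⁅K, K⁆ = K := by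
  refine le_antisymm (commutator_le_self K) ?_
  set π := QuotientGroup.mk' (Cfsg.pPrimeCore p ↥K) with hπ
  have hperf : Group.IsPerfect (↥K ⧸ Cfsg.pPrimeCore p ↥K) := h.1.1
  have hle : (⊤ : Subgroup ↥K) ≤ ⁅(⊤ : Subgroup ↥K), ⊤⁆ ⊔ Cfsg.pPrimeCore p ↥K := by
    rw [← QuotientGroup.ker_mk' (Cfsg.pPrimeCore p ↥K), ← comap_map_eq, map_commutator,
      map_top_of_surjective _ (QuotientGroup.mk'_surjective _), ← _root_.commutator_def,
      Group.IsPerfect.commutator_eq_top, comap_top]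
  have h1 : pGen p (⊤ : Subgroup ↥K) ≤ ⁅(⊤ : Subgroup ↥K), ⊤⁆ :=
    pGen_le_of_le_sup (Normal.isSubnormal inferInstance) le_top
      (Cores.coprime_card_pPrimeCore p) hle
  rw [pGen_top_of h.2, ← map_le_map_iff_of_injective (subtype_injective K), map_commutator,
    ← MonoidHom.range_eq_map, range_subtype] at h1
  exact h1

/-- A subgroup generated by `p`-elements covering `K / O_{p'}(K)` is again `p`-like, with the
same quotient. -/
theorem IsPLike.of_cover {K K0 : Subgroup G} (h : IsPLike p K) (hle : K0 ≤ K)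
    (hg : pGen p K0 = K0) (hcov : K ≤ K0 ⊔ OCore p K) :
    IsPLike p K0 ∧ OCore p K0 = K0 ⊓ OCore p K ∧
      Nonempty (↥K0 ⧸ Cfsg.pPrimeCore p ↥K0 ≃* ↥K ⧸ Cfsg.pPrimeCore p ↥K) := by
  set π := QuotientGroup.mk' (Cfsg.pPrimeCore p ↥K) with hπ
  let f : ↥K0 →* ↥K ⧸ Cfsg.pPrimeCore p ↥K := π.comp (inclusion hle)
  have hsurj : Function.Surjective f := by
    intro z
    obtain ⟨⟨k, hk⟩, rfl⟩ := QuotientGroup.mk_surjective z
    have hn : K0 ≤ normalizer (OCore p K : Set G) := hle.trans (le_normalizer_OCore K)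
    obtain ⟨a, ha, b, hb, hab⟩ := Set.mem_mul.mp
      (by rw [← coe_mul_of_left_le_normalizer_right K0 _ hn]; exact hcov hk :
        k ∈ (K0 : Set G) * (OCore p K : Set G))
    obtain ⟨b', hb', rfl⟩ := hb
    refine ⟨⟨a, ha⟩, ?_⟩
    show π (inclusion hle ⟨a, ha⟩) = π ⟨k, hk⟩
    rw [show (⟨k, hk⟩ : ↥K) = inclusion hle ⟨a, ha⟩ * b' from Subtype.ext hab.symm, map_mul,
      show π b' = 1 from (QuotientGroup.eq_one_iff b').mpr hb', mul_one]
  have hO : Cfsg.pPrimeCore p (↥K ⧸ Cfsg.pPrimeCore p ↥K) = ⊥ :=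
    Cores.pPrimeCore_quotient_self p
  have hker : f.ker = Cfsg.pPrimeCore p ↥K0 := by
    refine le_antisymm (Cores.le_pPrimeCore inferInstance ?_) ?_
    · refine (Cores.coprime_card_pPrimeCore (G := ↥K) p).coprime_dvd_left ?_
      rw [show f.ker = (Cfsg.pPrimeCore p ↥K).comap (inclusion hle) by
        rw [← MonoidHom.comap_ker, QuotientGroup.ker_mk']]
      exact card_comap_dvd_of_injective _ _ (inclusion_injective hle)
    · rw [← Subgroup.map_eq_bot_iff, eq_bot_iff, ← hO]
      exact Cores.map_pPrimeCore_le f hsurj p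
  have e : ↥K0 ⧸ Cfsg.pPrimeCore p ↥K0 ≃* ↥K ⧸ Cfsg.pPrimeCore p ↥K :=
    (QuotientGroup.quotientMulEquivOfEq hker.symm).trans
      (QuotientGroup.quotientKerEquivOfSurjective f hsurj)
  refine ⟨⟨(isQuasisimple_congr e).mpr h.1, hg⟩, ?_, ⟨e⟩⟩
  ext x
  constructor
  · rintro ⟨u, hu, rfl⟩
    rw [← hker] at hu
    exact ⟨u.2, inclusion hle u, (QuotientGroup.eq_one_iff _).mp hu, rfl⟩
  · rintro ⟨hx, v, hv, hve⟩
    refine ⟨⟨x, hx⟩, ?_, rfl⟩
    rw [SetLike.mem_coe, ← hker]
    exact (QuotientGroup.eq_one_iff _).mpr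
      ((show v = inclusion hle ⟨x, hx⟩ from Subtype.ext hve) ▸ hv)

omit [Fact p.Prime] [Finite G] in
theorem CentBar.mem_normalizer {K : Subgroup G} {d : G} (h : CentBar p K d) :
    d ∈ normalizer (K : Set G) := h.1

omit [Fact p.Prime] [Finite G] in
theorem centBar_mul {K : Subgroup G} {a b : G} (ha : CentBar p K a) (hb : CentBar p K b) :
    CentBar p K (a * b) := by
  refine ⟨mul_mem ha.1 hb.1, fun k hk => ?_⟩
  have h1 := ha.2 _ ((mem_normalizer_iff.mp hb.1 k).mp hk)
  have h2 := hb.2 k hk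
  convert mul_mem h1 h2 using 1
  group

omit [Fact p.Prime] [Finite G] in
theorem centBar_inv {K : Subgroup G} {a : G} (ha : CentBar p K a) : CentBar p K a⁻¹ := by
  refine ⟨inv_mem ha.1, fun k hk => ?_⟩
  have hk' : a⁻¹ * k * a⁻¹⁻¹ ∈ K := (mem_normalizer_iff.mp (inv_mem ha.1) k).mp hk
  convert inv_mem (ha.2 _ hk') using 1
  group

omit [Fact p.Prime] in
theorem centBar_pow {K : Subgroup G} {a : G} (ha : CentBar p K a) (n : ℕ) :
    CentBar p K (a ^ n) := by
  induction n with
  | zero => exact ⟨by simp, fun k _ => by simp⟩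
  | succ n ih => rw [pow_succ]; exact centBar_mul ih ha

/-- A `p`-group centralizing `K / O_{p'}(K)` has centralizer covering it. -/
theorem cover_centralizer {K A : Subgroup G} (hA : IsPGroup p ↥A)
    (hc : ∀ a ∈ A, CentBar p K a) : K ≤ (K ⊓ centralizer (A : Set G)) ⊔ OCore p K := by
  intro k hk
  obtain ⟨n, hn, hnk⟩ := Signalizer.exists_fixed_in_coset hA
    (fun a ha => normalizer_le_normalizer_OCore K (hc a ha).1)
    ((Fact.out (p := p.Prime)).coprime_iff_not_dvd.mp (coprime_card_OCore K).symm) k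
    (fun a ha => (hc a ha).2 k hk)
  rw [← inv_mul_cancel_left n k]
  exact mul_mem (mem_sup_right (inv_mem hn)) (mem_sup_left ⟨K.mul_mem (OCore_le K hn) hk, hnk⟩)

/-- Descent of `K` to the centralizer of a `p`-group centralizing `K / O_{p'}(K)`. -/
theorem IsPLike.descend {K A : Subgroup G} (h : IsPLike p K) (hA : IsPGroup p ↥A)
    (hc : ∀ a ∈ A, CentBar p K a) :
    IsPLike p (pGen p (K ⊓ centralizer (A : Set G))) ∧
      K ≤ pGen p (K ⊓ centralizer (A : Set G)) ⊔ OCore p K ∧
      OCore p (pGen p (K ⊓ centralizer (A : Set G))) =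
        pGen p (K ⊓ centralizer (A : Set G)) ⊓ OCore p K ∧
      Nonempty (↥(pGen p (K ⊓ centralizer (A : Set G))) ⧸
        Cfsg.pPrimeCore p ↥(pGen p (K ⊓ centralizer (A : Set G))) ≃*
          ↥K ⧸ Cfsg.pPrimeCore p ↥K) := by
  set H := K ⊓ centralizer (A : Set G) with hH
  set K0 := pGen p H with hK0
  have hle : K0 ≤ K := (pGen_le p H).trans inf_le_left
  suffices hcov : K ≤ K0 ⊔ OCore p K by
    obtain ⟨h1, h2, h3⟩ := h.of_cover hle (pGen_pGen H) hcov
    exact ⟨h1, hcov, h2, h3⟩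
  set π := QuotientGroup.mk' (Cfsg.pPrimeCore p ↥K) with hπ
  have hker : (Nat.card π.ker).Coprime p := by
    rw [QuotientGroup.ker_mk']; exact Cores.coprime_card_pPrimeCore p
  have hHK : (H.subgroupOf K).map π = ⊤ := by
    have h1 : (⊤ : Subgroup ↥K) ≤ H.subgroupOf K ⊔ Cfsg.pPrimeCore p ↥K := by
      intro k _
      have hn : H ≤ normalizer (OCore p K : Set G) := inf_le_left.trans (le_normalizer_OCore K)
      obtain ⟨a, ha, b, hb, hab⟩ := Set.mem_mul.mp
        (by rw [← coe_mul_of_left_le_normalizer_right H _ hn]; exact cover_centralizer hA hc k.2 :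
          (k : G) ∈ (H : Set G) * (OCore p K : Set G))
      obtain ⟨b', hb', rfl⟩ := hb
      rw [show k = (⟨a, ha.1⟩ : ↥K) * b' from Subtype.ext hab.symm]
      exact mul_mem (mem_sup_left (mem_subgroupOf.mpr ha)) (mem_sup_right hb')
    have h2 := map_mono (f := π) h1
    rw [Subgroup.map_sup, map_top_of_surjective _ (QuotientGroup.mk'_surjective _),
      (Subgroup.map_eq_bot_iff _).mpr (by rw [QuotientGroup.ker_mk'] : Cfsg.pPrimeCore p ↥K ≤ π.ker),
      sup_bot_eq] at h2
    exact top_le_iff.mp h2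
  have hK0H : pGen p (H.subgroupOf K) = K0.subgroupOf K := by
    apply Subgroup.map_injective (subtype_injective K)
    rw [pGen_map_of_injective (subtype_injective K), map_subgroupOf_eq_of_le inf_le_left,
      map_subgroupOf_eq_of_le hle]
  have hcov' : (K0.subgroupOf K).map π = ⊤ := by
    rw [← hK0H, map_pGen_of_ker_coprime π hker, hHK,
      ← map_top_of_surjective π (QuotientGroup.mk'_surjective _),
      ← map_pGen_of_ker_coprime π hker, pGen_top_of h.2]
  intro k hk
  have hk' : (⟨k, hk⟩ : ↥K) ∈ K0.subgroupOf K ⊔ Cfsg.pPrimeCore p ↥K := by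
    rw [← QuotientGroup.ker_mk' (Cfsg.pPrimeCore p ↥K), ← comap_map_eq, hcov']
    exact mem_top _
  have h3 := mem_map_of_mem K.subtype hk'
  rwa [Subgroup.map_sup, map_subgroupOf_eq_of_le hle] at h3

theorem CentBar.of_le {K K0 : Subgroup G} {d : G} (hd : CentBar p K d) (hle : K0 ≤ K)
    (hO : OCore p K0 = K0 ⊓ OCore p K) (hn : d ∈ normalizer (K0 : Set G)) :
    CentBar p K0 d := by
  refine ⟨hn, fun k hk => ?_⟩
  rw [hO]
  exact ⟨K0.mul_mem ((mem_normalizer_iff.mp hn k).mp hk) (K0.inv_mem hk), hd.2 k (hle hk)⟩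

/-- A group whose `p`-elements generate a `p`-like subgroup has that subgroup as `p`-layer. -/
theorem pLayer_eq_of_isPLike (h : IsPLike p (pGen p (⊤ : Subgroup G))) :
    Cfsg.pLayer p G = pGen p (⊤ : Subgroup G) := by
  refine le_antisymm (sSup_le fun L hL => ?_) (le_sSup ?_)
  · rw [← IsPComponent.pGen_eq hL]; exact pGen_mono le_top
  · have hn : (pGen p (⊤ : Subgroup G)).Normal := normalizer_eq_top_iff.mp (top_le_iff.mp
      ((normalizer_eq_top (H := (⊤ : Subgroup G))).ge.trans (normalizer_le_normalizer_pGen p ⊤)))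
    exact isPComponent_iff.mpr ⟨hn.isSubnormal, h⟩

theorem pLayerOf_eq_of_isPLike {H : Subgroup G} (h : IsPLike p (pGen p H)) :
    Cfsg.pLayerOf p H = pGen p H := by
  have e : (pGen p (⊤ : Subgroup ↥H)).map H.subtype = pGen p H := by
    rw [pGen_map_of_injective (subtype_injective H), ← MonoidHom.range_eq_map, range_subtype]
  rw [Cfsg.pLayerOf, pLayer_eq_of_isPLike, e]
  rwa [← isPLike_map_iff (subtype_injective H), e]

/-- The centralizer of a `p`-component modulo the core, intrinsically. -/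
theorem mem_centralizerOfPComponent_iff {x : G} {K : Subgroup G}
    (hK : Cfsg.IsPComponentOf p K (centralizer ({x} : Set G))) {d : G} :
    d ∈ Cfsg.centralizerOfPComponent p x K ↔
      d ∈ centralizer ({x} : Set G) ∧ CentBar p K d := by
  set C := centralizer ({x} : Set G) with hC
  set π := QuotientGroup.mk' (Cfsg.pPrimeCore p ↥C) with hπ
  obtain ⟨hKC, hKp⟩ := hK
  have hO := inf_pPrimeCore_eq_of_isSubnormal (p := p) hKp.1
  have hOeq : ∀ u : ↥C, ((u : G) ∈ OCore p K ↔ (u : G) ∈ K ∧ u ∈ Cfsg.pPrimeCore p ↥C) := by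
    intro u
    have e : OCore p K = (OCore p (K.subgroupOf C)).map C.subtype := by
      rw [OCore, OCore, ← ExtLayer.map_pPrimeCore p (subgroupOfEquivOfLe hKC), Subgroup.map_map,
        Subgroup.map_map]
      congr 1
    rw [e, ← hO]
    constructor
    · rintro ⟨v, hv, hve⟩
      rw [← Subtype.ext hve]
      exact ⟨mem_subgroupOf.mp hv.1, hv.2⟩
    · rintro ⟨h1, h2⟩
      exact ⟨u, ⟨mem_subgroupOf.mpr h1, h2⟩, rfl⟩
  constructor
  · rintro ⟨d, hd, rfl⟩
    refine ⟨d.2, ?_⟩
    have hdc : π d ∈ centralizer (((K.subgroupOf C).map π : Subgroup _) : Set (↥C ⧸ Cfsg.pPrimeCore p ↥C)) := hd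
    have hn : d ∈ normalizer ((K.subgroupOf C : Subgroup ↥C) : Set ↥C) := by
      refine IsPComponent.mem_normalizer_of_map_conj hKp ?_
      ext u
      constructor
      · rintro ⟨v, hv, rfl⟩
        show π d * v * (π d)⁻¹ ∈ _
        rwa [← hdc v hv, mul_inv_cancel_right]
      · intro hu
        refine ⟨u, hu, ?_⟩
        show π d * u * (π d)⁻¹ = u
        rw [← hdc u hu, mul_inv_cancel_right]
    have hn' : (d : G) ∈ normalizer (K : Set G) := by
      refine mem_normalizer_iff.mpr fun k => ⟨fun hk => ?_, fun hk => ?_⟩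
      · exact mem_subgroupOf.mp
          ((mem_normalizer_iff.mp hn ⟨k, hKC hk⟩).mp (mem_subgroupOf.mpr hk))
      · have hkC : k ∈ C := by
          have := C.mul_mem (C.mul_mem (C.inv_mem d.2) (hKC hk)) d.2
          simpa [mul_assoc] using this
        exact mem_subgroupOf.mp ((mem_normalizer_iff.mp hn ⟨k, hkC⟩).mpr (mem_subgroupOf.mpr hk))
    refine ⟨hn', fun k hk => ?_⟩
    refine (hOeq (d * ⟨k, hKC hk⟩ * d⁻¹ * ⟨k, hKC hk⟩⁻¹)).mpr
      ⟨mul_mem ((mem_normalizer_iff.mp hn' k).mp hk) (inv_mem hk), ?_⟩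
    rw [← QuotientGroup.eq_one_iff]
    show π _ = 1
    rw [map_mul, map_mul, map_mul, map_inv, map_inv,
      ← hdc _ ⟨⟨k, hKC hk⟩, mem_subgroupOf.mpr hk, rfl⟩, mul_inv_cancel_right, mul_inv_cancel]
  · rintro ⟨hdC, hdn, hd⟩
    refine ⟨⟨d, hdC⟩, ?_, rfl⟩
    show π ⟨d, hdC⟩ ∈ centralizer (((K.subgroupOf C).map π : Subgroup _) : Set (↥C ⧸ Cfsg.pPrimeCore p ↥C))
    rintro _ ⟨k, hk, rfl⟩
    have h1 := ((hOeq (⟨d, hdC⟩ * k * ⟨d, hdC⟩⁻¹ * k⁻¹)).mp (hd k (mem_subgroupOf.mp hk))).2
    rw [← QuotientGroup.eq_one_iff] at h1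
    have h2 : π ⟨d, hdC⟩ * π k * (π ⟨d, hdC⟩)⁻¹ * (π k)⁻¹ = 1 := by
      rw [← map_inv, ← map_inv, ← map_mul, ← map_mul, ← map_mul]
      exact h1
    rw [mul_inv_eq_one, mul_inv_eq_iff_eq_mul] at h2
    exact h2.symm

/-- A `p`-component lies in a normal subgroup or commutes with it modulo `O_{p'}`. -/
theorem IsPComponent.le_or_commutator_le {K : Subgroup G} (hK : Cfsg.IsPComponent p K)
    (N : Subgroup G) [N.Normal] : K ≤ N ∨ ⁅K, N⁆ ≤ Cfsg.pPrimeCore p G := by
  set π := QuotientGroup.mk' (Cfsg.pPrimeCore p G) with hπ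
  have hNn : (N.map π).Normal := Normal.map inferInstance π (QuotientGroup.mk'_surjective _)
  rcases IsComponent.le_or_commutes hK.2.1 hNn.isSubnormal with h | h
  · left
    rw [← IsPComponent.pGen_eq hK]
    refine (pGen_mono ?_).trans
      (pGen_le_of_le_sup (K := N ⊔ Cfsg.pPrimeCore p G) (Normal.isSubnormal inferInstance)
        le_sup_left (Cores.coprime_card_pPrimeCore p) le_rfl)
    rw [← QuotientGroup.ker_mk' (Cfsg.pPrimeCore p G), ← comap_map_eq]
    exact map_le_iff_le_comap.mp h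
  · right
    rwa [← map_commutator, Subgroup.map_eq_bot_iff, QuotientGroup.ker_mk'] at h

theorem IsPComponent.commutator_le_of_ne {K L : Subgroup G} (hK : Cfsg.IsPComponent p K)
    (hL : Cfsg.IsPComponent p L) (hne : K ≠ L) : ⁅K, L⁆ ≤ Cfsg.pPrimeCore p G := by
  rw [← QuotientGroup.ker_mk' (Cfsg.pPrimeCore p G), ← Subgroup.map_eq_bot_iff, map_commutator]
  refine IsComponent.commutator_eq_bot hK.2.1 hL.2.1 fun h => hne ?_
  rw [IsPComponent.eq_pComponentOf hK, IsPComponent.eq_pComponentOf hL, h]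

end Cfsg.Agent.Components
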