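/-
A finite group with a self-centralising normal `p`-subgroup has generalized Fitting subgroup `O_p`.
Main result: `genFitting_eq_pCore_of_selfCentralizing`.
-/
import Cfsg.Agent.Lib.Components.GenFitting

set_option autoImplicit false

namespace Cfsg.Agent.Components

open Subgroup

/-- If `Q` is a normal `p`-subgroup containing its centralizer then `F*(G) = O_p(G)`. -/
theorem genFitting_eq_pCore_of_selfCentralizing {G : Type*} [Group G] [Finite G] {p : ℕ}
    [Fact p.Prime] (Q : Subgroup G) [hQn : Q.Normal] (hQ : IsPGroup p Q)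
    (hc : centralizer (Q : Set G) ≤ Q) :
    Cfsg.generalizedFittingSubgroup G = Cfsg.pCore p G := by
  have hQO : Q ≤ Cfsg.pCore p G := Cores.le_pCore hQn hQ
  have hco : centralizer (Cfsg.pCore p G : Set G) ≤ Cfsg.pCore p G :=
    ((centralizer_le (SetLike.coe_subset_coe.2 hQO)).trans hc).trans hQO
  refine genFitting_eq_pCore_of ?_ ?_
  · refine layer_eq_bot_iff_centralizer_fitting_le.1 ?_
    exact ((centralizer_le (SetLike.coe_subset_coe.2 (Cores.pCore_le_fittingSubgroup p))).trans
      hco).trans (Cores.pCore_le_fittingSubgroup p)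
  · have hd : Disjoint (Cfsg.pPrimeCore p G) (Cfsg.pCore p G) :=
      (Cores.disjoint_pCore_pPrimeCore (G := G) (p := p)).symm
    refine eq_bot_iff.2 fun x hx => ?_
    have hxc : x ∈ centralizer (Cfsg.pCore p G : Set G) := mem_centralizer_iff.2 fun y hy =>
      (Subgroup.commute_of_normal_of_disjoint _ _ inferInstance inferInstance hd x y hx hy).eq.symm
    exact mem_bot.2 (disjoint_def.1 hd hx (hco hxc))

end Cfsg.Agent.Components
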