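/-
How a `p`-component of `C_Y(x)` inside `E(Y)` sits relative to the components of `Y`, for `x`
of order `p` and `O_{p'}(Y) = 1`: inside a component normalized by `x`, or diagonally in an orbit
of length `p`.
Main results: `orbitHom`, `diag`, `pump`, `exists_zpowers_mul_mem_centralizer`,
`card_mul_dvd_card_centralizer`, `exists_conj_eq_diag_mul`.
-/
import Cfsg.Agent.Lib.Components.PLike
import Mathlib.GroupTheory.NoncommPiCoprod

set_option autoImplicit false

namespace Cfsg.Agent.Components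

open Subgroup
open scoped commutatorElement Pointwise

variable {Y : Type*} [Group Y]

/-- The conjugate `a J a⁻¹`. -/
abbrev conjOf (J : Subgroup Y) (a : Y) : Subgroup Y := J.map (MulAut.conj a).toMonoidHom

theorem mem_normalizer_iff_conjOf {J : Subgroup Y} {a : Y} :
    a ∈ normalizer (J : Set Y) ↔ conjOf J a = J := by
  constructor
  · intro h
    ext u
    constructor
    · rintro ⟨v, hv, rfl⟩
      exact (mem_normalizer_iff.mp h v).mp hv
    · intro hu
      refine ⟨a⁻¹ * u * a, ?_, by simp [mul_assoc]⟩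
      have := (mem_normalizer_iff.mp (inv_mem h) u).mp hu
      simpa using this
  · intro h
    refine mem_normalizer_iff.mpr fun u => ⟨fun hu => h ▸ ⟨u, hu, rfl⟩, fun hu => ?_⟩
    obtain ⟨v, hv, he⟩ := h.symm ▸ hu
    simp only [MulEquiv.coe_toMonoidHom, MulAut.conj_apply] at he
    rwa [mul_left_cancel (mul_right_cancel he)] at hv

theorem conjOf_conjOf (J : Subgroup Y) (a b : Y) : conjOf (conjOf J a) b = conjOf J (b * a) := by
  rw [conjOf, conjOf, conjOf, Subgroup.map_map]
  congr 1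
  ext u
  simp [mul_assoc]

theorem commute_of_conjOf_ne [Finite Y] {J : Subgroup Y} (hJ : Cfsg.IsComponent J) {a b : Y}
    (h : conjOf J a ≠ conjOf J b) {u v : Y} (hu : u ∈ conjOf J a) (hv : v ∈ conjOf J b) :
    Commute u v :=
  ((commutator_eq_bot_iff_le_centralizer.mp
    (IsComponent.commutator_eq_bot (IsComponent.conj hJ a) (IsComponent.conj hJ b) h)) hu v hv).symm

/-- Homomorphisms from a finite power of a group agree if they agree on the factors. -/
theorem pi_hom_ext {ι M : Type*} [Group M] [Fintype ι] [DecidableEq ι] {f g : (ι → M) →* Y}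
    (h : ∀ i u, f (Pi.mulSingle i u) = g (Pi.mulSingle i u)) : f = g := by
  refine MonoidHom.ext fun u => ?_
  suffices hS : ∀ S : Finset ι, f (fun a => if a ∈ S then u a else 1) =
      g (fun a => if a ∈ S then u a else 1) by simpa using hS Finset.univ
  intro S
  induction S using Finset.induction_on with
  | empty =>
    rw [show (fun a : ι => if a ∈ (∅ : Finset ι) then u a else 1) = 1 by funext a; simp, map_one,
      map_one]
  | insert a S ha ih =>
    have e : (fun b => if b ∈ insert a S then u b else 1) =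
        Pi.mulSingle a (u a) * fun b => if b ∈ S then u b else 1 := by
      funext b
      by_cases hb : b = a
      · subst hb; simp [ha]
      · simp [hb]
    rw [e, map_mul, map_mul, h, ih]

section Orbit

variable {x : Y} (J : Subgroup Y)

/-- `u ↦ a u a⁻¹` on `J`. -/
abbrev orbitMap (a : ↥(zpowers x)) : ↥J →* Y :=
  (MulAut.conj (a : Y)).toMonoidHom.comp J.subtype

/-- The members of the `x`-orbit of `J` commute pairwise. -/
abbrev OrbitCommutes (x : Y) (J : Subgroup Y) : Prop :=
  Pairwise fun a b : ↥(zpowers x) => ∀ u v : ↥J, Commute (orbitMap J a u) (orbitMap J b v)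

variable [Fintype ↥(zpowers x)] (hc : OrbitCommutes x J)

/-- The product map `(u_a) ↦ ∏ a u_a a⁻¹` of the orbit. -/
noncomputable def orbitHom : (↥(zpowers x) → ↥J) →* Y :=
  MonoidHom.noncommPiCoprod (orbitMap J) hc

/-- The diagonal `u ↦ ∏ a u a⁻¹`. -/
noncomputable def diag : ↥J →* Y :=
  (orbitHom J hc).comp (Pi.monoidHom fun _ => MonoidHom.id ↥J)

theorem diag_apply (u : ↥J) : diag J hc u = orbitHom J hc fun _ => u := rfl

variable [DecidableEq ↥(zpowers x)]

theorem orbitHom_mulSingle (a : ↥(zpowers x)) (u : ↥J) :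
    orbitHom J hc (Pi.mulSingle a u) = a * u * (a : Y)⁻¹ :=
  MonoidHom.noncommPiCoprod_mulSingle (orbitMap J) a u

theorem range_orbitHom : (orbitHom J hc).range = ⨆ a : ↥(zpowers x), conjOf J a := by
  rw [orbitHom, MonoidHom.noncommPiCoprod_range]
  congr 1
  funext a
  rw [orbitMap, MonoidHom.range_comp, range_subtype]

/-- A product of the orbit commuting with `a J a⁻¹` has central `a`-entry. -/
theorem apply_mem_center_of_commute {g : ↥(zpowers x) → ↥J} {a : ↥(zpowers x)}
    (h : ∀ u : ↥J, Commute (orbitHom J hc g) (a * u * (a : Y)⁻¹)) : g a ∈ center ↥J := by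
  refine mem_center_iff.mpr fun u => ?_
  have h1 : orbitHom J hc ⁅g, Pi.mulSingle a u⁆ = 1 := by
    rw [map_commutatorElement, orbitHom_mulSingle, commutatorElement_eq_one_iff_commute]
    exact h u
  have h2 : (⁅g, Pi.mulSingle a u⁆ : ↥(zpowers x) → ↥J) = Pi.mulSingle a ⁅g a, u⁆ := by
    funext b
    by_cases hb : b = a
    · subst hb; simp [commutatorElement_def]
    · simp [commutatorElement_def, hb]
  rw [h2, orbitHom_mulSingle, mul_inv_eq_one, mul_eq_left, OneMemClass.coe_eq_one,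
    commutatorElement_eq_one_iff_mul_comm] at h1
  exact h1.symm

theorem apply_mem_center_of_eq_one {g : ↥(zpowers x) → ↥J} (h : orbitHom J hc g = 1)
    (a : ↥(zpowers x)) : g a ∈ center ↥J :=
  apply_mem_center_of_commute J hc fun u => h ▸ Commute.one_left _

/-- Conjugation by `x` shifts the entries. -/
theorem conj_orbitHom (g : ↥(zpowers x) → ↥J) :
    x * orbitHom J hc g * x⁻¹ =
      orbitHom J hc fun a => g (⟨x, mem_zpowers x⟩⁻¹ * a) := by
  set t : ↥(zpowers x) := ⟨x, mem_zpowers x⟩ with ht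
  let s : (↥(zpowers x) → ↥J) →* (↥(zpowers x) → ↥J) :=
    Pi.monoidHom fun a => Pi.evalMonoidHom (fun _ => ↥J) (t⁻¹ * a)
  have key : (MulAut.conj x).toMonoidHom.comp (orbitHom J hc) = (orbitHom J hc).comp s := by
    refine pi_hom_ext fun a u => ?_
    have hs : s (Pi.mulSingle a u) = Pi.mulSingle (t * a) u := by
      funext b
      show Pi.mulSingle (M := fun _ => ↥J) a u (t⁻¹ * b) = _
      by_cases hb : b = t * a
      · subst hb; simp
      · rw [Pi.mulSingle_eq_of_ne hb, Pi.mulSingle_eq_of_ne]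
        exact fun e => hb (by rw [← e, mul_inv_cancel_left])
    rw [MonoidHom.comp_apply, MonoidHom.comp_apply, hs, orbitHom_mulSingle, orbitHom_mulSingle]
    simp [ht, mul_assoc]
  exact DFunLike.congr_fun key g

theorem commute_diag (u : ↥J) : Commute x (diag J hc u) := by
  have h := conj_orbitHom J hc fun _ => u
  rw [← diag_apply, mul_inv_eq_iff_eq_mul] at h
  exact h

/-- An element centralizing `x` and normalizing `J` acts entrywise. -/
theorem conj_diag {r : Y} (hr : Commute r x) (u : ↥J) (hu : r * u * r⁻¹ ∈ J) :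
    r * diag J hc u * r⁻¹ = diag J hc ⟨r * u * r⁻¹, hu⟩ := by
  let cr : ↥(zpowers x) → ↥J := fun _ => ⟨r * u * r⁻¹, hu⟩
  show r * orbitHom J hc (fun _ => u) * r⁻¹ = orbitHom J hc cr
  suffices h : ∀ S : Finset ↥(zpowers x),
      r * orbitHom J hc (fun a => if a ∈ S then u else 1) * r⁻¹ =
        orbitHom J hc (fun a => if a ∈ S then ⟨r * u * r⁻¹, hu⟩ else 1) by
    simpa [cr] using h Finset.univ
  intro S
  induction S using Finset.induction_on with
  | empty =>
    simp only [Finset.notMem_empty, if_false]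
    rw [show (fun _ : ↥(zpowers x) => (1 : ↥J)) = 1 from rfl, map_one]
    group
  | insert a S ha ih =>
    have e : ∀ w : ↥J, (fun b => if b ∈ insert a S then w else 1) =
        Pi.mulSingle a w * fun b => if b ∈ S then w else 1 := fun w => by
      funext b
      by_cases hb : b = a
      · subst hb; simp [ha]
      · simp [hb]
    rw [e, e, map_mul, map_mul, ← ih, orbitHom_mulSingle, orbitHom_mulSingle]
    obtain ⟨i, hi⟩ := a.2
    have hi : x ^ i = (a : Y) := hi
    have hra : r * (a : Y) = a * r := by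
      rw [← hi]; exact (hr.zpow_right i).eq
    generalize orbitHom J hc (fun b => if b ∈ S then u else 1) = w
    calc r * ((a : Y) * u * (a : Y)⁻¹ * w) * r⁻¹
        = (r * a) * u * (r * a)⁻¹ * (r * w * r⁻¹) := by group
      _ = (a * r) * u * (a * r)⁻¹ * (r * w * r⁻¹) := by rw [hra]
      _ = _ := by group

end Orbit

variable [Finite Y] {p : ℕ} [Fact p.Prime] {x : Y}

theorem orbitCommutes_of_not_mem (hx : orderOf x = p) {J : Subgroup Y} (hJ : Cfsg.IsComponent J)
    (hn : x ∉ normalizer (J : Set Y)) : OrbitCommutes x J := by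
  intro a b hab u v
  refine commute_of_conjOf_ne hJ (fun h => hn ?_) ⟨u, u.2, rfl⟩ ⟨v, v.2, rfl⟩
  have hc : (a : Y)⁻¹ * b ∈ normalizer (J : Set Y) := by
    rw [mem_normalizer_iff_conjOf, ← conjOf_conjOf, ← h, conjOf_conjOf, inv_mul_cancel]
    exact mem_normalizer_iff_conjOf.mp (one_mem _)
  haveI : Fact (Nat.card ↥(zpowers x)).Prime := ⟨by rw [Nat.card_zpowers, hx]; exact Fact.out⟩
  rcases ((normalizer (J : Set Y)).subgroupOf (zpowers x)).eq_bot_or_eq_top_of_prime_card with e | e
  · exfalso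
    have : a⁻¹ * b ∈ (normalizer (J : Set Y)).subgroupOf (zpowers x) := mem_subgroupOf.mpr hc
    rw [e, mem_bot, inv_mul_eq_one] at this
    exact hab this
  · have : (⟨x, mem_zpowers x⟩ : ↥(zpowers x)) ∈ (normalizer (J : Set Y)).subgroupOf (zpowers x) :=
      e ▸ mem_top _
    exact mem_subgroupOf.mp this

omit [Fact p.Prime] in
theorem map_conj_sSup_eq {S : Set (Subgroup Y)} {x : Y}
    (hS : ∀ K ∈ S, conjOf K x ∈ S) : ∀ u ∈ sSup S, x * u * x⁻¹ ∈ sSup S := by
  intro u hu
  have h : (sSup S).map (MulAut.conj x).toMonoidHom ≤ sSup S := by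
    rw [map_le_iff_le_comap]
    exact sSup_le fun K hK => map_le_iff_le_comap.mp (le_sSup (hS K hK))
  exact h ⟨u, hu, rfl⟩

/-- A `p`-component of `C(x)` inside the layer sits in one `x`-orbit of components, fixed by `x`
or diagonally. -/
theorem pump (hx : orderOf x = p) {K : Subgroup Y} (hKE : K ≤ Cfsg.layer Y)
    (hKC : K ≤ centralizer ({x} : Set Y))
    (hKs : (K.subgroupOf (centralizer ({x} : Set Y))).IsSubnormal) (hK : IsPLike p K) :
    ∃ J : Subgroup Y, Cfsg.IsComponent J ∧
      ((x ∈ normalizer (J : Set Y) ∧ K ≤ J) ∨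
        (x ∉ normalizer (J : Set Y) ∧
          ∀ [Fintype ↥(zpowers x)] (hc : OrbitCommutes x J), K ≤ (diag J hc).range)) := by
  set E := Cfsg.layer Y with hE
  set W := E ⊓ centralizer ({x} : Set Y) with hW
  have hKW : K ≤ W := le_inf hKE hKC
  have hKp : Cfsg.IsPComponent p (K.subgroupOf W) := by
    refine isPComponent_iff.mpr ⟨?_, (isPLike_subgroupOf_iff hKW).mpr hK⟩
    have := hKs.comap (inclusion (inf_le_right : W ≤ centralizer ({x} : Set Y)))
    exact this
  obtain ⟨J, hJ, hJK⟩ : ∃ J : Subgroup Y, Cfsg.IsComponent J ∧ ¬ K ≤ centralizer (J : Set Y) := by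
    by_contra hcon
    have hKc : K ≤ centralizer (E : Set Y) := by
      rw [le_centralizer_iff]
      refine layer_le fun L hL => ?_
      rw [le_centralizer_iff]
      by_contra h
      exact hcon ⟨L, hL, h⟩
    have hab : ⁅K, K⁆ = ⊥ :=
      commutator_eq_bot_iff_le_centralizer.mpr (hKc.trans (centralizer_le (SetLike.coe_subset_coe.mpr hKE)))
    rw [hK.perfect] at hab
    exact hK.not_le_OCore (hab ▸ bot_le)
  refine ⟨J, hJ, ?_⟩
  set S : Set (Subgroup Y) := Set.range fun a : ↥(zpowers x) => conjOf J a with hS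
  set S' : Set (Subgroup Y) := {L | Cfsg.IsComponent L ∧ L ∉ S} with hS'
  have hSx : ∀ L ∈ S, conjOf L x ∈ S := by
    rintro _ ⟨a, rfl⟩
    exact ⟨⟨x, mem_zpowers x⟩ * a, by rw [conjOf_conjOf]; rfl⟩
  have hSxi : ∀ L, conjOf L x ∈ S → L ∈ S := by
    rintro L ⟨a, ha⟩
    refine ⟨⟨x, mem_zpowers x⟩⁻¹ * a, ?_⟩
    show conjOf J (x⁻¹ * (a : Y)) = L
    rw [← conjOf_conjOf, show conjOf J (a : Y) = conjOf L x from ha, conjOf_conjOf, inv_mul_cancel]
    exact mem_normalizer_iff_conjOf.mp (one_mem _)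
  have hS'x : ∀ L ∈ S', conjOf L x ∈ S' := fun L hL =>
    ⟨IsComponent.conj hL.1 x, fun h => hL.2 (hSxi L h)⟩
  have hSc : ∀ L ∈ S, Cfsg.IsComponent L := by
    rintro _ ⟨a, rfl⟩; exact IsComponent.conj hJ _
  set A := sSup S with hA
  set B := sSup S' with hB
  have hAB : A ≤ centralizer (B : Set Y) := sSup_le fun L hL =>
    IsComponent.le_centralizer_sSup (hSc L hL) (fun _ h => h.1) fun h => h.2 hL
  have hAn : ∀ T : Set (Subgroup Y), (∀ L ∈ T, Cfsg.IsComponent L) →
      W ≤ normalizer ((sSup T ⊓ centralizer ({x} : Set Y) : Subgroup Y) : Set Y) := by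
    intro T hT w hw
    refine inf_normalizer_le_normalizer_inf ⟨?_, le_normalizer hw.2⟩
    have h1 : ∀ e ∈ E, ∀ u ∈ sSup T, e * u * e⁻¹ ∈ sSup T := fun e he =>
      map_conj_sSup_eq fun L hL => by
        rwa [mem_normalizer_iff_conjOf.mp (IsComponent.layer_le_normalizer (hT L hL) he)]
    refine mem_normalizer_iff.mpr fun u => ⟨h1 w hw.1 u, fun hu => ?_⟩
    have := h1 w⁻¹ (inv_mem hw.1) _ hu
    simpa [mul_assoc] using this
  set N := A ⊓ centralizer ({x} : Set Y) with hN
  set N' := B ⊓ centralizer ({x} : Set Y) with hN'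
  have hNW : N ≤ W := inf_le_inf_right _ (sSup_le fun L hL => IsComponent.le_layer (hSc L hL))
  have hN'W : N' ≤ W := inf_le_inf_right _ (sSup_le fun L hL => IsComponent.le_layer hL.1)
  have hWW : ⁅W, W⁆ ≤ N ⊔ N' := by
    have hEAB : E ≤ A ⊔ B := layer_le fun L hL => by
      by_cases h : L ∈ S
      · exact (le_sSup h).trans le_sup_left
      · exact (le_sSup (show L ∈ S' from ⟨hL, h⟩)).trans le_sup_right
    have hAnB : A ≤ normalizer (B : Set Y) := hAB.trans (centralizer_le_normalizer _)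
    have hsplit : ∀ e ∈ W, ∃ a ∈ A, ∃ b ∈ B, e = a * b ∧ a⁻¹ * (x * a * x⁻¹) ∈ A ⊓ B := by
      rintro e ⟨he, hex⟩
      obtain ⟨a, ha, b, hb, rfl⟩ := Set.mem_mul.mp
        (by rw [← coe_mul_of_left_le_normalizer_right A B hAnB]; exact hEAB he :
          e ∈ (A : Set Y) * (B : Set Y))
      refine ⟨a, ha, b, hb, rfl, A.mul_mem (A.inv_mem ha) (map_conj_sSup_eq hSx a ha), ?_⟩
      have h2 : x * (a * b) = a * b * x := (hex x rfl)
      have h3 : a⁻¹ * (x * a * x⁻¹) = b * (x * b * x⁻¹)⁻¹ := by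
        calc a⁻¹ * (x * a * x⁻¹) = a⁻¹ * (x * (a * b)) * b⁻¹ * x⁻¹ := by group
          _ = b * (x * b * x⁻¹)⁻¹ := by rw [h2]; group
      rw [SetLike.mem_coe, h3]
      exact B.mul_mem hb (B.inv_mem (map_conj_sSup_eq hS'x b hb))
    have hcent : ∀ z ∈ A ⊓ B, ∀ a ∈ A, a * z = z * a := fun z hz a ha =>
      (hAB ha z hz.2).symm
    rw [commutator_le]
    intro e he e' he'
    obtain ⟨a, ha, b, hb, rfl, hz⟩ := hsplit e he
    obtain ⟨a', ha', b', hb', rfl, hz'⟩ := hsplit e' he'
    have c1 : ∀ u ∈ A, ∀ v ∈ B, u * v = v * u := fun u hu v hv => (hAB hu v hv).symm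
    have hprod : ⁅a * b, a' * b'⁆ = ⁅a, a'⁆ * ⁅b, b'⁆ := by
      simp only [commutatorElement_def, mul_inv_rev]
      calc a * b * (a' * b') * (b⁻¹ * a⁻¹) * (b'⁻¹ * a'⁻¹)
          = a * (b * a') * b' * b⁻¹ * a⁻¹ * b'⁻¹ * a'⁻¹ := by group
        _ = a * a' * (b * b' * b⁻¹) * a⁻¹ * b'⁻¹ * a'⁻¹ := by
            rw [← c1 a' ha' b hb]; group
        _ = a * a' * a⁻¹ * (b * b' * b⁻¹ * b'⁻¹) * a'⁻¹ := by
            rw [mul_assoc (a * a'), ← c1 a⁻¹ (inv_mem ha) (b * b' * b⁻¹) (mul_mem (mul_mem hb hb') (inv_mem hb))]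
            group
        _ = a * a' * a⁻¹ * a'⁻¹ * (b * b' * b⁻¹ * b'⁻¹) := by
            rw [mul_assoc (a * a' * a⁻¹), ← c1 a'⁻¹ (inv_mem ha') _
              (mul_mem (mul_mem (mul_mem hb hb') (inv_mem hb)) (inv_mem hb'))]
            group
    have hAA : ⁅a, a'⁆ ∈ A := mul_mem (mul_mem (mul_mem ha ha') (inv_mem ha)) (inv_mem ha')
    have hfix : x * ⁅a, a'⁆ * x⁻¹ = ⁅a, a'⁆ := by
      obtain ⟨z, hz0⟩ : ∃ z, z = a⁻¹ * (x * a * x⁻¹) := ⟨_, rfl⟩
      obtain ⟨z', hz0'⟩ : ∃ z', z' = a'⁻¹ * (x * a' * x⁻¹) := ⟨_, rfl⟩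
      rw [← hz0] at hz; rw [← hz0'] at hz'
      have e1 : x * a * x⁻¹ = a * z := by rw [hz0]; group
      have e2 : x * a' * x⁻¹ = a' * z' := by rw [hz0']; group
      rw [← MulAut.conj_apply, map_commutatorElement, MulAut.conj_apply, MulAut.conj_apply, e1, e2]
      have d1 := hcent z hz
      have d2 := hcent z' hz'
      simp only [commutatorElement_def, mul_inv_rev]
      calc a * z * (a' * z') * (z⁻¹ * a⁻¹) * (z'⁻¹ * a'⁻¹)
          = a * (z * (a' * z')) * z⁻¹ * a⁻¹ * z'⁻¹ * a'⁻¹ := by group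
        _ = a * a' * z' * a⁻¹ * z'⁻¹ * a'⁻¹ := by
            rw [← d1 (a' * z') (mul_mem ha' hz'.1)]; group
        _ = a * a' * (z' * a⁻¹) * z'⁻¹ * a'⁻¹ := by group
        _ = a * a' * a⁻¹ * a'⁻¹ := by rw [← d2 a⁻¹ (inv_mem ha)]; group
    rw [hprod]
    have hxA : ⁅a, a'⁆ ∈ centralizer ({x} : Set Y) := fun y hy => by
      rw [Set.mem_singleton_iff] at hy; subst hy
      rwa [mul_inv_eq_iff_eq_mul] at hfix
    have hxW : ⁅a * b, a' * b'⁆ ∈ centralizer ({x} : Set Y) :=
      (centralizer ({x} : Set Y)).mul_mem ((centralizer ({x} : Set Y)).mul_mem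
        ((centralizer ({x} : Set Y)).mul_mem he.2 he'.2) ((centralizer ({x} : Set Y)).inv_mem he.2))
        ((centralizer ({x} : Set Y)).inv_mem he'.2)
    refine mul_mem (mem_sup_left ⟨hAA, hxA⟩) (mem_sup_right ⟨?_, ?_⟩)
    · exact B.mul_mem (B.mul_mem (B.mul_mem hb hb') (B.inv_mem hb)) (B.inv_mem hb')
    · have := mul_mem (inv_mem hxA) (hprod ▸ hxW)
      rwa [inv_mul_cancel_left] at this
  have hNn : (N.subgroupOf W).Normal := normal_subgroupOf_of_le_normalizer (hAn S hSc)
  have hN'n : (N'.subgroupOf W).Normal := normal_subgroupOf_of_le_normalizer (hAn S' fun _ h => h.1)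
  have hKN : K ≤ N := by
    rcases IsPComponent.le_or_commutator_le hKp (N.subgroupOf W) with h | h
    · intro k hk
      exact mem_subgroupOf.mp (h (show (⟨k, hKW hk⟩ : ↥W) ∈ K.subgroupOf W from mem_subgroupOf.mpr hk))
    rcases IsPComponent.le_or_commutator_le hKp (N'.subgroupOf W) with h' | h'
    · exfalso
      refine hJK ?_
      have hKB : K ≤ B := fun k hk => (mem_subgroupOf.mp
        (h' (show (⟨k, hKW hk⟩ : ↥W) ∈ K.subgroupOf W from mem_subgroupOf.mpr hk))).1
      refine hKB.trans (le_centralizer_iff.mp ?_)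
      exact (le_sSup (show J ∈ S from ⟨1, mem_normalizer_iff_conjOf.mp (one_mem _)⟩)).trans hAB
    exfalso
    refine IsPComponent.not_le_pPrimeCore hKp ?_
    rw [← IsPComponent.perfect hKp]
    have hle : K.subgroupOf W ≤ N.subgroupOf W ⊔ N'.subgroupOf W := by
      rw [← map_le_map_iff_of_injective (subtype_injective W), Subgroup.map_sup,
        map_subgroupOf_eq_of_le hKW, map_subgroupOf_eq_of_le hNW, map_subgroupOf_eq_of_le hN'W,
        ← hK.perfect]
      exact (commutator_mono hKW hKW).trans hWW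
    refine (commutator_mono le_rfl hle).trans ?_
    rw [← QuotientGroup.ker_mk' (Cfsg.pPrimeCore p ↥W), ← Subgroup.map_eq_bot_iff, map_commutator,
      Subgroup.map_sup, commutator_eq_bot_iff_le_centralizer, le_centralizer_iff]
    rw [← QuotientGroup.ker_mk' (Cfsg.pPrimeCore p ↥W), ← Subgroup.map_eq_bot_iff, map_commutator,
      commutator_eq_bot_iff_le_centralizer, le_centralizer_iff] at h h'
    exact sup_le h h'
  by_cases hn : x ∈ normalizer (J : Set Y)
  · refine Or.inl ⟨hn, (hKN.trans inf_le_left).trans (sSup_le ?_)⟩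
    rintro _ ⟨a, rfl⟩
    exact (mem_normalizer_iff_conjOf.mp ((zpowers_le.mpr hn) a.2)).le
  · refine Or.inr ⟨hn, ?_⟩
    intro _ hc
    classical
    rw [← hK.perfect, commutator_le]
    intro k hk k' hk'
    have hAr : A = (orbitHom J hc).range := by
      rw [range_orbitHom, hA, hS, sSup_range]
    have key : ∀ k ∈ K, ∃ g, orbitHom J hc g = k ∧ ∀ a, (g 1)⁻¹ * g a ∈ center ↥J := by
      intro k hk
      obtain ⟨g, hg⟩ := hAr ▸ (hKN hk).1
      refine ⟨g, hg, ?_⟩
      set t : ↥(zpowers x) := ⟨x, mem_zpowers x⟩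
      have hstep : ∀ b, (g b)⁻¹ * g (t⁻¹ * b) ∈ center ↥J := by
        intro b
        refine apply_mem_center_of_eq_one J hc (g := fun b => (g b)⁻¹ * g (t⁻¹ * b)) ?_ b
        show orbitHom J hc (g⁻¹ * fun b => g (t⁻¹ * b)) = 1
        rw [map_mul, map_inv, ← conj_orbitHom, hg, (hKN hk).2 x rfl]
        group
      intro a
      let T : Set ↥(zpowers x) := {c | ∀ b, (g b)⁻¹ * g (c⁻¹ * b) ∈ center ↥J}
      have hT : ∀ n : ℕ, t ^ n ∈ T := by
        intro n
        induction n with
        | zero => intro b; simp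
        | succ n ih =>
          intro b
          have := mul_mem (hstep b) (ih (t⁻¹ * b))
          convert this using 1
          rw [pow_succ']; group
      obtain ⟨i, hi⟩ := (isOfFinOrder_of_finite x).mem_powers_iff_mem_zpowers.mpr a.2
      have := hT i a
      have e : t ^ i = a := Subtype.ext (by simpa [t] using hi)
      rw [e, inv_mul_cancel] at this
      have := inv_mem this
      simpa using this
    obtain ⟨g, rfl, hg⟩ := key k hk
    obtain ⟨g', rfl, hg'⟩ := key k' hk'
    refine ⟨⁅g 1, g' 1⁆, ?_⟩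
    rw [diag_apply, ← map_commutatorElement]
    congr 1
    funext a
    show _ = ⁅g a, g' a⁆
    obtain ⟨z, hz, hza⟩ : ∃ z, z ∈ center ↥J ∧ g a = g 1 * z :=
      ⟨_, hg a, by rw [mul_inv_cancel_left]⟩
    obtain ⟨z', hz', hza'⟩ : ∃ z', z' ∈ center ↥J ∧ g' a = g' 1 * z' :=
      ⟨_, hg' a, by rw [mul_inv_cancel_left]⟩
    rw [mem_center_iff] at hz hz'
    rw [hza, hza']
    simp only [commutatorElement_def, mul_inv_rev]
    symm
    calc g 1 * z * (g' 1 * z') * (z⁻¹ * (g 1)⁻¹) * (z'⁻¹ * (g' 1)⁻¹)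
        = g 1 * (z * (g' 1 * z')) * z⁻¹ * (g 1)⁻¹ * z'⁻¹ * (g' 1)⁻¹ := by group
      _ = g 1 * g' 1 * (z' * (g 1)⁻¹) * z'⁻¹ * (g' 1)⁻¹ := by rw [← hz]; group
      _ = g 1 * g' 1 * (g 1)⁻¹ * (g' 1)⁻¹ := by rw [← hz']; group

/-- In the diagonal case an element centralizing `x` and the diagonal normalizes, up to `⟨x⟩`,
every member of the orbit, and centralizes it. -/
theorem exists_zpowers_mul_mem_centralizer {J : Subgroup Y} (hJ : Cfsg.IsComponent J)
    [Fintype ↥(zpowers x)] (hc : OrbitCommutes x J) (hinj : Function.Injective (diag J hc)) {r : Y}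
    (hr : Commute r x) (hrd : ∀ u, Commute r (diag J hc u)) :
    ∃ a ∈ zpowers x, a⁻¹ * r ∈ centralizer (J : Set Y) := by
  classical
  obtain ⟨a, ha⟩ : ∃ a : ↥(zpowers x), conjOf J a = conjOf J r := by
    by_contra hcon
    simp only [not_exists] at hcon
    refine IsQuasisimple.not_isMulCommutative hJ.2 ⟨⟨fun v u => ?_⟩⟩
    -- `r J r⁻¹` commutes with the diagonal
    have h1 : Commute (diag J hc v) (r * u * r⁻¹) := by
      have hle : (orbitHom J hc).range ≤ centralizer ({r * (u : Y) * r⁻¹} : Set Y) := by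
        rw [range_orbitHom]
        refine iSup_le fun b w hw z hz => ?_
        rw [Set.mem_singleton_iff] at hz
        subst hz
        exact (commute_of_conjOf_ne hJ (Ne.symm (hcon b)) ⟨u, u.2, rfl⟩ hw).eq
      exact ((hle ⟨_, rfl⟩ : diag J hc v ∈ _) _ rfl).symm
    have h2 : Commute (diag J hc v) (u : Y) := by
      have h3 := hrd v
      show diag J hc v * u = u * diag J hc v
      have e : ∀ w, diag J hc v * w = w * diag J hc v →
          diag J hc v * (r⁻¹ * w * r) = r⁻¹ * w * r * diag J hc v := fun w hw => by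
        have h4 := h3.inv_left.eq
        calc diag J hc v * (r⁻¹ * w * r) = (diag J hc v * r⁻¹) * w * r := by group
          _ = r⁻¹ * (diag J hc v * w) * r := by rw [← h4]; group
          _ = r⁻¹ * w * (diag J hc v * r) := by rw [hw]; group
          _ = r⁻¹ * w * r * diag J hc v := by rw [← h3.eq]; group
      simpa [mul_assoc] using e _ h1.eq
    have h5 := apply_mem_center_of_commute J hc (g := fun _ => v) (a := 1) fun w => ?_
    · exact (mem_center_iff.mp h5 u).symm
    · -- every element of `J` commutes with the diagonal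
      have hle : ∀ w : ↥J, Commute (diag J hc v) (r * w * r⁻¹) := fun w => by
        have hle : (orbitHom J hc).range ≤ centralizer ({r * (w : Y) * r⁻¹} : Set Y) := by
          rw [range_orbitHom]
          refine iSup_le fun b y hy z hz => ?_
          rw [Set.mem_singleton_iff] at hz
          subst hz
          exact (commute_of_conjOf_ne hJ (Ne.symm (hcon b)) ⟨w, w.2, rfl⟩ hy).eq
        exact ((hle ⟨_, rfl⟩ : diag J hc v ∈ _) _ rfl).symm
      have h3 := hrd v
      have h4 := hle w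
      show diag J hc v * ((1 : Y) * w * (1 : Y)⁻¹) = (1 : Y) * w * (1 : Y)⁻¹ * diag J hc v
      rw [inv_one, mul_one, one_mul]
      have h6 : Commute (r⁻¹ * diag J hc v * r) (w : Y) := by
        show r⁻¹ * diag J hc v * r * w = w * (r⁻¹ * diag J hc v * r)
        calc r⁻¹ * diag J hc v * r * w = r⁻¹ * (diag J hc v * (r * w * r⁻¹)) * r := by group
          _ = r⁻¹ * (r * w * r⁻¹ * diag J hc v) * r := by rw [h4.eq]
          _ = w * (r⁻¹ * diag J hc v * r) := by group
      rwa [show r⁻¹ * diag J hc v * r = diag J hc v from by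
        rw [mul_assoc, ← h3.eq, inv_mul_cancel_left]] at h6
  refine ⟨a, a.2, ?_⟩
  obtain ⟨i, hi⟩ := a.2
  have hax : Commute (a : Y)⁻¹ x := by rw [← hi]; exact ((Commute.refl x).zpow_left i).inv_left
  have hr' : Commute ((a : Y)⁻¹ * r) x := hax.mul_left hr
  have hn : (a : Y)⁻¹ * r ∈ normalizer (J : Set Y) := by
    rw [mem_normalizer_iff_conjOf, ← conjOf_conjOf, ← ha, conjOf_conjOf, inv_mul_cancel]
    exact mem_normalizer_iff_conjOf.mp (one_mem _)
  intro u hu
  set u' : ↥J := ⟨u, hu⟩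
  have hmem : (a : Y)⁻¹ * r * u' * ((a : Y)⁻¹ * r)⁻¹ ∈ J := (mem_normalizer_iff.mp hn u).mp hu
  have h1 := conj_diag J hc hr' u' hmem
  have h2 : Commute ((a : Y)⁻¹ * r) (diag J hc u') := by
    refine Commute.mul_left ?_ (hrd u')
    rw [← hi]
    exact ((commute_diag J hc u').zpow_left i).inv_left
  rw [h2.eq, mul_inv_cancel_right] at h1
  have h7 : u = (a : Y)⁻¹ * r * u * ((a : Y)⁻¹ * r)⁻¹ := congrArg Subtype.val (hinj h1)
  exact eq_mul_inv_iff_mul_eq.mp h7

/-- The centralizer of a member of the orbit is large. -/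
theorem card_mul_dvd_card_centralizer (hx : orderOf x = p) {J : Subgroup Y} [Fintype ↥(zpowers x)]
    (hc : OrbitCommutes x J) (Q : Subgroup Y) (hQ : Q ≤ centralizer (J : Set Y))
    (hQx : Q ≤ centralizer ({x} : Set Y)) :
    Nat.card Q * (center ↥J).index ^ (p - 1) ∣ Nat.card (centralizer (J : Set Y)) := by
  classical
  set ι' := {a : ↥(zpowers x) // a ≠ 1}
  have hι : Nat.card ι' = p - 1 := by
    rw [Nat.card_eq_fintype_card]
    have h := Fintype.card_subtype_compl (fun a : ↥(zpowers x) => a = 1)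
    rw [Fintype.card_subtype_eq, ← Nat.card_eq_fintype_card (α := ↥(zpowers x)), Nat.card_zpowers,
      hx] at h
    exact h
  let ext' : (ι' → ↥J) →* (↥(zpowers x) → ↥J) :=
    { toFun := fun h a => if ha : a = 1 then 1 else h ⟨a, ha⟩
      map_one' := by funext a; by_cases ha : a = 1 <;> simp [ha]
      map_mul' := fun f g => by funext a; by_cases ha : a = 1 <;> simp [ha] }
  have hQa : ∀ q ∈ Q, ∀ (a : ↥(zpowers x)) (u : ↥J), Commute q (a * u * (a : Y)⁻¹) := by
    intro q hq a u
    obtain ⟨i, hi⟩ := a.2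
    have hqa : Commute q (a : Y) := by
      rw [← hi]; exact (Commute.symm (hQx hq x rfl)).zpow_right i
    have hqu : Commute q (u : Y) := Commute.symm (hQ hq u u.2)
    exact (hqa.mul_right hqu).mul_right hqa.inv_right
  have hcomm : ∀ (q : ↥Q) (h : ι' → ↥J), Commute (Q.subtype q) ((orbitHom J hc).comp ext' h) := by
    intro q h
    have hle : (orbitHom J hc).range ≤ centralizer ({(q : Y)} : Set Y) := by
      rw [range_orbitHom]
      refine iSup_le fun b w hw z hz => ?_
      rw [Set.mem_singleton_iff] at hz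
      subst hz
      obtain ⟨u, hu, rfl⟩ := hw
      exact (hQa q q.2 b ⟨u, hu⟩).eq
    exact ((hle ⟨_, rfl⟩) _ rfl)
  let Ψ := MonoidHom.noncommCoprod Q.subtype ((orbitHom J hc).comp ext') hcomm
  have hΨ : ∀ q h, Ψ (q, h) = (q : Y) * orbitHom J hc (ext' h) := fun q h => rfl
  have hrange : Ψ.range ≤ centralizer (J : Set Y) := by
    rintro _ ⟨⟨q, h⟩, rfl⟩
    rw [hΨ]
    refine mul_mem (hQ q.2) ?_
    intro u hu
    set u' : ↥J := ⟨u, hu⟩
    have e : u = orbitHom J hc (Pi.mulSingle 1 u') := by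
      rw [orbitHom_mulSingle]; simp [u']
    rw [e, ← map_mul, ← map_mul]
    congr 1
    funext a
    by_cases ha : a = 1
    · subst ha; simp [ext']
    · simp [ha]
  have hker : ∀ w ∈ Ψ.ker, ∀ i : ι', w.2 i ∈ center ↥J := by
    rintro ⟨q, h⟩ hw i
    have hw' : (q : Y) * orbitHom J hc (ext' h) = 1 := hw
    have := apply_mem_center_of_commute J hc (g := ext' h) (a := i.1) fun u => by
      rw [eq_inv_of_mul_eq_one_right hw']
      exact (hQa q q.2 i.1 u).inv_left
    simpa [ext', i.2] using this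
  let η : ↥Ψ.ker →* (ι' → ↥(center ↥J)) :=
    { toFun := fun w i => ⟨w.1.2 i, hker w.1 w.2 i⟩
      map_one' := rfl
      map_mul' := fun _ _ => rfl }
  have hη : Function.Injective η := by
    rw [injective_iff_map_eq_one]
    rintro ⟨⟨q, h⟩, hw⟩ he
    have h1 : h = 1 := by
      funext i
      exact congrArg (fun f : ι' → ↥(center ↥J) => (f i : ↥J)) he
    subst h1
    have hw' : Ψ (q, 1) = 1 := hw
    rw [hΨ, map_one, map_one, mul_one] at hw'
    exact Subtype.ext (Prod.ext (Subtype.ext hw') rfl)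
  have hd1 : Nat.card Ψ.ker ∣ Nat.card (center ↥J) ^ (p - 1) := by
    have := Subgroup.card_dvd_of_injective η hη
    rwa [Nat.card_fun, hι] at this
  have hd2 : Nat.card Ψ.range ∣ Nat.card (centralizer (J : Set Y)) :=
    Subgroup.card_dvd_of_le hrange
  have htot : Nat.card Ψ.ker * Nat.card Ψ.range =
      Nat.card Q * (Nat.card (center ↥J) * (center ↥J).index) ^ (p - 1) := by
    rw [← Subgroup.index_ker, Subgroup.card_mul_index, Nat.card_prod, Nat.card_fun, hι,
      Subgroup.card_mul_index]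
  have := mul_dvd_mul hd1 hd2
  rw [htot, mul_pow, mul_left_comm] at this
  exact (Nat.mul_dvd_mul_iff_left (pow_pos Nat.card_pos _)).mp this

omit [Finite Y] in
/-- In the diagonal case `x` is conjugate to `δ(j) x` by an element commuting with `δ(j)`. -/
theorem exists_conj_eq_diag_mul (hx : orderOf x = p) {J : Subgroup Y} [Fintype ↥(zpowers x)]
    (hc : OrbitCommutes x J) (j : ↥J) (hj : j ^ p = 1) :
    ∃ a : Y, a * x * a⁻¹ = diag J hc j * x ∧ Commute a (diag J hc j) := by
  classical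
  set t : ↥(zpowers x) := ⟨x, mem_zpowers x⟩ with ht
  have hgen : ∀ b : ↥(zpowers x), b ∈ zpowers t := by
    rintro ⟨_, i, rfl⟩
    exact ⟨i, Subtype.ext (by simp [ht])⟩
  have hord : orderOf j ∣ orderOf t := by
    rw [← orderOf_injective (zpowers x).subtype (subtype_injective _) t, ht]
    show orderOf j ∣ orderOf x
    rw [hx]
    exact orderOf_dvd_of_pow_eq_one hj
  let h : ↥(zpowers x) →* ↥J := monoidHomOfForallMemZpowers hgen hord
  have ht' : h t = j := monoidHomOfForallMemZpowers_apply_gen hgen hord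
  refine ⟨orbitHom J hc h, ?_, ?_⟩
  · have h1 := conj_orbitHom J hc h
    have h2 : (fun b => h (t⁻¹ * b)) = (fun _ => j)⁻¹ * ⇑h := by
      funext b
      simp [ht']
    rw [← ht, h2, map_mul, map_inv, ← diag_apply] at h1
    set a := orbitHom J hc h
    set z := diag J hc j
    calc a * x * a⁻¹ = z * (z⁻¹ * a) * x * a⁻¹ := by group
      _ = z * x := by rw [← h1]; group
  · rw [diag_apply]
    show orbitHom J hc h * orbitHom J hc _ = orbitHom J hc _ * orbitHom J hc h
    rw [← map_mul, ← map_mul]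
    congr 1
    funext b
    show h b * j = j * h b
    rw [← ht', ← map_mul, ← map_mul, mul_comm']

end Cfsg.Agent.Components
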