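/-
Balance for the non-quasisimple part of the `p`-layer, from the `B_p`-property and the Schreier
property of sections.
Main results: `SecHyp`, `secHyp_of`, `isQuasisimple_of_semisimple`,
`nonQuasisimplePLayer_normalizer_le`.
-/
import Cfsg.Agent.Lib.Components.Pump
import Cfsg.Agent.Lib.Components.GenFitting

set_option autoImplicit false

universe u

namespace Cfsg.Agent.Components.BBalance

open Subgroup
open scoped commutatorElement Pointwise

/-! ### Transport along isomorphisms -/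

theorem hasQuasisimpleGenFitting_congr {S T : Type*} [Group S] [Finite S] [Group T] (e : S ≃* T) :
    Cfsg.HasQuasisimpleGeneralizedFitting S ↔ Cfsg.HasQuasisimpleGeneralizedFitting T := by
  rw [Cfsg.HasQuasisimpleGeneralizedFitting, Cfsg.HasQuasisimpleGeneralizedFitting,
    ← genFitting_map_equiv e]
  exact isQuasisimple_congr (e.subgroupMap _)

theorem pPrimeCore_congr {S T : Type*} [Group S] [Group T] (p : ℕ) (e : S ≃* T) :
    Cfsg.pPrimeCore p S = ⊥ ↔ Cfsg.pPrimeCore p T = ⊥ := by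
  rw [← ExtLayer.map_pPrimeCore p e, Subgroup.map_eq_bot_iff_of_injective _ e.injective]

theorem isSolvable_out_congr {S T : Type u} [Group S] [Group T] (e : S ≃* T)
    (h : Group.IsSolvable (Cfsg.Out S)) : Group.IsSolvable (Cfsg.Out T) := by
  have hmap : (Cfsg.Inn S).map (MulAut.congr e).toMonoidHom = Cfsg.Inn T := by
    ext φ
    constructor
    · rintro ⟨_, ⟨g, rfl⟩, rfl⟩
      exact ⟨e g, by ext t; simp [MulAut.congr]⟩
    · rintro ⟨t, rfl⟩
      exact ⟨_, ⟨e.symm t, rfl⟩, by ext u; simp [MulAut.congr]⟩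
  exact @solvable_of_surjective _ _ _ _
    (QuotientGroup.congr (Cfsg.Inn S) (Cfsg.Inn T) (MulAut.congr e) hmap).toMonoidHom
    (QuotientGroup.congr (Cfsg.Inn S) (Cfsg.Inn T) (MulAut.congr e) hmap).surjective h

theorem hasBpProperty_congr {S T : Type*} [Group S] [Finite S] [Group T] [Finite T] {p : ℕ}
    [Fact p.Prime] (e : S ≃* T) (h : Cfsg.HasBpProperty p S) : Cfsg.HasBpProperty p T := by
  refine ⟨(pPrimeCore_congr p e).mp h.1, fun x hx K hK => ?_⟩
  set x' := e.symm x
  have hx' : orderOf x' = p := by rw [← hx]; exact MulEquiv.orderOf_eq e.symm x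
  have hmap : (centralizer ({x} : Set T)).map e.symm.toMonoidHom = centralizer ({x'} : Set S) := by
    ext s
    constructor
    · rintro ⟨t, ht, rfl⟩ z hz
      rw [Set.mem_singleton_iff] at hz
      subst hz
      exact (map_mul e.symm x t).symm.trans ((congrArg e.symm (ht x rfl)).trans (map_mul _ _ _))
    · intro hs
      refine ⟨e s, fun z hz => ?_, e.symm_apply_apply s⟩
      rw [Set.mem_singleton_iff] at hz
      subst hz
      have h1 := congrArg e (hs x' rfl)
      rwa [map_mul, map_mul, MulEquiv.apply_symm_apply] at h1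
  let ec : ↥(centralizer ({x} : Set T)) ≃* ↥(centralizer ({x'} : Set S)) :=
    (e.symm.subgroupMap _).trans (MulEquiv.subgroupCongr hmap)
  obtain ⟨hs, hp⟩ := isPComponent_iff.mp hK
  have h1 := h.2 x' hx' (K.map ec.toMonoidHom) (isPComponent_iff.mpr
    ⟨hs.map (f := ec.toMonoidHom) ec.surjective, (isPLike_map_iff ec.injective K).mpr hp⟩)
  exact (isQuasisimple_map_iff (f := ec.toMonoidHom) ec.injective K).mp h1

theorem map_center_equiv {A B : Type*} [Group A] [Group B] (e : A ≃* B) :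
    (center A).map e.toMonoidHom = center B := by
  ext b
  constructor
  · rintro ⟨a, ha, rfl⟩
    refine mem_center_iff.mpr fun c => ?_
    have h1 := congrArg e (mem_center_iff.mp ha (e.symm c))
    rwa [map_mul, map_mul, MulEquiv.apply_symm_apply] at h1
  · intro hb
    refine ⟨e.symm b, mem_center_iff.mpr fun c => ?_, e.apply_symm_apply b⟩
    have h1 := congrArg e.symm (mem_center_iff.mp hb (e c))
    rwa [map_mul, map_mul, MulEquiv.symm_apply_apply] at h1

/-! ### The hypothesis on sections -/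

/-- Every section with quasisimple `F*` and trivial `p'`-core has the `B_p`-property and the
Schreier property. -/
def SecHyp (p : ℕ) (X : Type u) [Group X] : Prop :=
  ∀ (H : Subgroup X) (T : Type u) [Group T] (f : ↥H →* T), Function.Surjective f →
    Cfsg.HasQuasisimpleGeneralizedFitting T → Cfsg.pPrimeCore p T = ⊥ →
      Cfsg.HasBpProperty p T ∧ Group.IsSolvable (Cfsg.Out
        (↥(Cfsg.generalizedFittingSubgroup T) ⧸ center ↥(Cfsg.generalizedFittingSubgroup T)))

theorem secHyp_of {X : Type u} [Group X] [Finite X] {p : ℕ} [Fact p.Prime]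
    (hB : ∀ (H : Subgroup X) (N : Subgroup ↥H) [N.Normal],
      Cfsg.HasQuasisimpleGeneralizedFitting (↥H ⧸ N) →
      Cfsg.pPrimeCore p (↥H ⧸ N) = ⊥ → Cfsg.HasBpProperty p (↥H ⧸ N))
    (hS : ∀ (H : Subgroup X) (N : Subgroup ↥H) [N.Normal],
      Cfsg.HasQuasisimpleGeneralizedFitting (↥H ⧸ N) → Cfsg.pPrimeCore p (↥H ⧸ N) = ⊥ →
        Group.IsSolvable (Cfsg.Out (↥(Cfsg.generalizedFittingSubgroup (↥H ⧸ N)) ⧸
          center ↥(Cfsg.generalizedFittingSubgroup (↥H ⧸ N))))) : SecHyp p X := by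
  intro H T _ f hf hq hO
  haveI : Finite T := Finite.of_surjective f hf
  let e : ↥H ⧸ f.ker ≃* T := QuotientGroup.quotientKerEquivOfSurjective f hf
  have hq' := (hasQuasisimpleGenFitting_congr e).mpr hq
  have hO' := (pPrimeCore_congr p e).mpr hO
  refine ⟨hasBpProperty_congr e (hB H f.ker hq' hO'), ?_⟩
  set F := Cfsg.generalizedFittingSubgroup (↥H ⧸ f.ker)
  let eF : ↥F ≃* ↥(Cfsg.generalizedFittingSubgroup T) :=
    (e.subgroupMap F).trans (MulEquiv.subgroupCongr (genFitting_map_equiv e))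
  exact isSolvable_out_congr (QuotientGroup.congr _ _ eF (map_center_equiv eF)) (hS H f.ker hq' hO')

variable {X : Type u} [Group X] [Finite X] {p : ℕ} [Fact p.Prime]

/-- Restriction to a subgroup. -/
theorem SecHyp.comp {W : Type u} [Group W] (h : SecHyp p X) (H : Subgroup X) (f : ↥H →* W)
    (hf : Function.Surjective f) : SecHyp p W := by
  intro H' T _ g hg
  let H'' := (H'.comap f).map H.subtype
  let e : ↥H'' →* ↥H' := (f.subgroupComap H').comp
    ((H'.comap f).equivMapOfInjective H.subtype (subtype_injective H)).symm.toMonoidHom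
  exact h H'' T (g.comp e) (hg.comp ((MonoidHom.subgroupComap_surjective_of_surjective f H' hf).comp
    ((H'.comap f).equivMapOfInjective H.subtype (subtype_injective H)).symm.surjective))

theorem genFitting_eq_top_of_isQuasisimple {L : Type*} [Group L] (h : Cfsg.IsQuasisimple L) :
    Cfsg.generalizedFittingSubgroup L = ⊤ :=
  top_le_iff.mp (le_trans
    (IsComponent.le_layer (L := (⊤ : Subgroup L))
      ⟨IsSubnormal.top, (isQuasisimple_congr Subgroup.topEquiv).mpr h⟩)
    le_sup_left)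

/-- Every component of every `O_{p'}`-quotient of a section has the Schreier property. -/
theorem SecHyp.schreier {W : Type u} [Group W] [Finite W] (h : SecHyp p W)
    (K : Subgroup (W ⧸ Cfsg.pPrimeCore p W)) (hK : Cfsg.IsComponent K) :
    Group.IsSolvable (Cfsg.Out (↥K ⧸ center ↥K)) := by
  set π := QuotientGroup.mk' (Cfsg.pPrimeCore p W)
  have hF := genFitting_eq_top_of_isQuasisimple hK.2
  have hq : Cfsg.HasQuasisimpleGeneralizedFitting ↥K := by
    rw [Cfsg.HasQuasisimpleGeneralizedFitting, hF]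
    exact (isQuasisimple_congr Subgroup.topEquiv).mpr hK.2
  have hO : Cfsg.pPrimeCore p ↥K = ⊥ := by
    apply Subgroup.map_injective (subtype_injective K)
    rw [Subgroup.map_bot, eq_bot_iff, ← Cores.pPrimeCore_quotient_self (G := W) p]
    exact Cores.le_pPrimeCore_of_isSubnormal
      ((Cores.pPrimeCore_normal p ↥K).isSubnormal.trans' hK.1) (coprime_card_OCore K)
  obtain ⟨-, h2⟩ := h (K.comap π) ↥K (π.subgroupComap K)
    (MonoidHom.subgroupComap_surjective_of_surjective π K (QuotientGroup.mk'_surjective _)) hq hO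
  have e : ↥(Cfsg.generalizedFittingSubgroup ↥K) ≃* ↥K :=
    (MulEquiv.subgroupCongr hF).trans Subgroup.topEquiv
  exact isSolvable_out_congr (QuotientGroup.congr _ _ e (map_center_equiv e)) h2

/-! ### Auxiliary facts -/

omit [Fact p.Prime] in
theorem pGen_map_le {G' : Type*} [Group G'] (f : X →* G') (H : Subgroup X) :
    (pGen p H).map f ≤ pGen p (H.map f) := by
  rw [pGen, MonoidHom.map_closure, closure_le]
  rintro _ ⟨x, ⟨hx, k, hk⟩, rfl⟩
  exact subset_closure ⟨⟨x, hx, rfl⟩, k, by rw [← map_pow, hk, map_one]⟩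

theorem pGen_eq_bot_of_coprime {H : Subgroup X} (h : (Nat.card H).Coprime p) : pGen p H = ⊥ := by
  rw [eq_bot_iff, pGen, closure_le]
  rintro x ⟨hx, k, hk⟩
  exact mem_bot.mpr (orderOf_eq_one_iff.mp (Nat.eq_one_of_dvd_coprimes (h.pow_right k)
    (Subgroup.orderOf_dvd_natCard H hx) (orderOf_dvd_of_pow_eq_one hk)))

/-- A nontrivial image of a `p`-like subgroup is `p`-like. -/
theorem IsPLike.map_of_ne_bot {G' : Type*} [Group G'] [Finite G'] {K : Subgroup X}
    (h : IsPLike p K) (f : X →* G') (hne : K.map f ≠ ⊥) : IsPLike p (K.map f) := by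
  have hgen : pGen p (K.map f) = K.map f := by
    refine le_antisymm (pGen_le p _) ?_
    conv_lhs => rw [← h.2]
    exact pGen_map_le f K
  let q := QuotientGroup.mk' (Cfsg.pPrimeCore p ↥(K.map f))
  let g : ↥K →* ↥(K.map f) := f.subgroupMap K
  have hg : Function.Surjective g := f.subgroupMap_surjective K
  haveI : Nontrivial (↥(K.map f) ⧸ Cfsg.pPrimeCore p ↥(K.map f)) := by
    refine QuotientGroup.nontrivial_iff.mpr fun e => hne ?_
    rw [← hgen]
    refine pGen_eq_bot_of_coprime ?_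
    rw [← card_top (G := ↥(K.map f)), ← e]
    exact Cores.coprime_card_pPrimeCore p
  refine ⟨IsQuasisimple.of_surjective h.1 (QuotientGroup.lift _ (q.comp g) ?_) ?_, hgen⟩
  · intro k hk
    exact (QuotientGroup.eq_one_iff _).mpr
      (Cores.map_pPrimeCore_le g hg p (mem_map_of_mem g hk))
  · intro t
    obtain ⟨s, rfl⟩ := ((QuotientGroup.mk'_surjective _).comp hg) t
    exact ⟨QuotientGroup.mk s, rfl⟩

/-- A perfect central extension of a quasisimple group is quasisimple. -/
theorem isQuasisimple_of_map {G' : Type*} [Group G'] {K : Subgroup X} (hperf : ⁅K, K⁆ = K)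
    (f : X →* G') (hker : ∀ u ∈ K, f u = 1 → u ∈ centralizer (K : Set X))
    (h : Cfsg.IsQuasisimple ↥(K.map f)) : Cfsg.IsQuasisimple ↥K := by
  haveI : Group.IsPerfect ↥K := Subgroup.isPerfect_iff.mpr hperf
  let g : ↥K →* ↥(K.map f) := f.subgroupMap K
  have hg : Function.Surjective g := f.subgroupMap_surjective K
  have hgc : g.ker ≤ center ↥K := fun u hu => mem_center_iff.mpr fun w =>
    Subtype.ext (hker u u.2 (congrArg Subtype.val hu) w w.2)
  haveI : Nontrivial ↥K := by
    have := IsQuasisimple.nontrivial h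
    exact hg.nontrivial
  refine isQuasisimple_of_normal_le_center fun N hN => ?_
  have : (N.map g).Normal := hN.map g hg
  rcases IsQuasisimple.normal_eq_top_or_le_center h (N.map g) with h1 | h1
  · left
    refine eq_top_of_sup_center_eq_top ?_
    rw [eq_top_iff]
    intro u _
    obtain ⟨n, hn, hnu⟩ := (h1.ge (mem_top (g u)) : g u ∈ N.map g)
    rw [← mul_inv_cancel_left n u]
    exact mul_mem_sup hn (hgc (by rw [MonoidHom.mem_ker, map_mul, map_inv, hnu, inv_mul_cancel]))
  · right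
    -- `[N, K]` dies, so `N` is central by the three subgroups lemma
    have h2 : ⁅N, (⊤ : Subgroup ↥K)⁆ ≤ center ↥K := by
      refine le_trans ?_ hgc
      rw [← Subgroup.map_eq_bot_iff, map_commutator, map_top_of_surjective g hg,
        commutator_eq_bot_iff_le_centralizer]
      intro a ha b _
      exact mem_center_iff.mp (h1 ha) b
    have h3 : ⁅(⊤ : Subgroup ↥K), N⁆ = ⊥ := by
      refine commutator_eq_bot_of_perfect_of_le (Z := center ↥K) ?_
        (by rw [commutator_comm]; exact h2) ?_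
      · rw [← _root_.commutator_def, Group.IsPerfect.commutator_eq_top]
      · rw [commutator_eq_bot_iff_le_centralizer]
        exact fun a ha b _ => mem_center_iff.mp ha b
    intro n hn
    refine mem_center_iff.mpr fun b => ?_
    rw [commutator_comm, commutator_eq_bot_iff_le_centralizer] at h3
    exact h3 hn b (mem_top b)

omit [Fact p.Prime] in
/-- Fixed points of commuting invariant subgroups. -/
theorem commutator_le_fixed {A B : Subgroup X} (hAB : A ≤ centralizer (B : Set X)) (R : Subgroup X)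
    (hA : R ≤ normalizer (A : Set X)) (hB : R ≤ normalizer (B : Set X)) :
    ⁅(A ⊔ B) ⊓ centralizer (R : Set X), (A ⊔ B) ⊓ centralizer (R : Set X)⁆ ≤
      (A ⊓ centralizer (R : Set X)) ⊔ (B ⊓ centralizer (R : Set X)) := by
  have hn : A ≤ normalizer (B : Set X) := hAB.trans (centralizer_le_normalizer _)
  rw [commutator_le]
  intro e he e' he'
  obtain ⟨a, ha, b, hb, rfl⟩ := Set.mem_mul.mp
    (by rw [← coe_mul_of_left_le_normalizer_right A B hn]; exact he.1 :
      e ∈ (A : Set X) * (B : Set X))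
  obtain ⟨a', ha', b', hb', rfl⟩ := Set.mem_mul.mp
    (by rw [← coe_mul_of_left_le_normalizer_right A B hn]; exact he'.1 :
      e' ∈ (A : Set X) * (B : Set X))
  have c1 : ∀ u ∈ A, ∀ v ∈ B, u * v = v * u := fun u hu v hv => (hAB hu v hv).symm
  have hcz : ∀ z, z ∈ A → z ∈ B → ∀ u ∈ A, u * z = z * u := fun z _ hzB u hu => c1 u hu z hzB
  have hAA : ⁅a, a'⁆ ∈ A := A.mul_mem (A.mul_mem (A.mul_mem ha ha') (A.inv_mem ha)) (A.inv_mem ha')
  have hBB : ⁅b, b'⁆ ∈ B := B.mul_mem (B.mul_mem (B.mul_mem hb hb') (B.inv_mem hb)) (B.inv_mem hb')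
  have hfix : ∀ r ∈ R, r * ⁅a, a'⁆ * r⁻¹ = ⁅a, a'⁆ := by
    intro r hr
    have key : ∀ u ∈ A, ∀ v ∈ B, u * v ∈ centralizer (R : Set X) →
        ∃ z, z ∈ A ∧ z ∈ B ∧ r * u * r⁻¹ = u * z := by
      intro u hu v hv huv
      refine ⟨u⁻¹ * (r * u * r⁻¹),
        A.mul_mem (A.inv_mem hu) ((mem_normalizer_iff.mp (hA hr) u).mp hu), ?_, by group⟩
      have h1 : r * (u * v) = u * v * r := huv r hr
      have h2 : u⁻¹ * (r * u * r⁻¹) = v * (r * v * r⁻¹)⁻¹ := by
        calc u⁻¹ * (r * u * r⁻¹) = u⁻¹ * (r * (u * v)) * v⁻¹ * r⁻¹ := by group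
          _ = v * (r * v * r⁻¹)⁻¹ := by rw [h1]; group
      rw [h2]
      exact B.mul_mem hv (B.inv_mem ((mem_normalizer_iff.mp (hB hr) v).mp hv))
    obtain ⟨z, hzA, hzB, e1⟩ := key a ha b hb he.2
    obtain ⟨z', hzA', hzB', e2⟩ := key a' ha' b' hb' he'.2
    rw [← MulAut.conj_apply, map_commutatorElement, MulAut.conj_apply, MulAut.conj_apply, e1, e2]
    simp only [commutatorElement_def, mul_inv_rev]
    calc a * z * (a' * z') * (z⁻¹ * a⁻¹) * (z'⁻¹ * a'⁻¹)
        = a * (z * (a' * z')) * z⁻¹ * a⁻¹ * z'⁻¹ * a'⁻¹ := by group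
      _ = a * a' * z' * a⁻¹ * z'⁻¹ * a'⁻¹ := by
          rw [← hcz z hzA hzB (a' * z') (A.mul_mem ha' hzA')]; group
      _ = a * a' * (z' * a⁻¹) * z'⁻¹ * a'⁻¹ := by group
      _ = a * a' * a⁻¹ * a'⁻¹ := by rw [← hcz z' hzA' hzB' a⁻¹ (A.inv_mem ha)]; group
  have hprod : ⁅a * b, a' * b'⁆ = ⁅a, a'⁆ * ⁅b, b'⁆ := by
    simp only [commutatorElement_def, mul_inv_rev]
    calc a * b * (a' * b') * (b⁻¹ * a⁻¹) * (b'⁻¹ * a'⁻¹)
        = a * (b * a') * b' * b⁻¹ * a⁻¹ * b'⁻¹ * a'⁻¹ := by group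
      _ = a * a' * (b * b' * b⁻¹) * a⁻¹ * b'⁻¹ * a'⁻¹ := by rw [← c1 a' ha' b hb]; group
      _ = a * a' * a⁻¹ * (b * b' * b⁻¹ * b'⁻¹) * a'⁻¹ := by
          rw [mul_assoc (a * a'), ← c1 a⁻¹ (A.inv_mem ha) (b * b' * b⁻¹)
            (B.mul_mem (B.mul_mem hb hb') (B.inv_mem hb))]
          group
      _ = a * a' * a⁻¹ * a'⁻¹ * (b * b' * b⁻¹ * b'⁻¹) := by
          rw [mul_assoc (a * a' * a⁻¹), ← c1 a'⁻¹ (A.inv_mem ha') _
            (B.mul_mem (B.mul_mem (B.mul_mem hb hb') (B.inv_mem hb)) (B.inv_mem hb'))]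
          group
  have hcA : ⁅a, a'⁆ ∈ centralizer (R : Set X) := fun r hr =>
    mul_inv_eq_iff_eq_mul.mp (hfix r hr)
  have hce : ⁅a * b, a' * b'⁆ ∈ centralizer (R : Set X) :=
    (centralizer (R : Set X)).mul_mem ((centralizer (R : Set X)).mul_mem
      ((centralizer (R : Set X)).mul_mem he.2 he'.2) ((centralizer (R : Set X)).inv_mem he.2))
      ((centralizer (R : Set X)).inv_mem he'.2)
  rw [hprod] at hce ⊢
  refine mul_mem (mem_sup_left ⟨hAA, hcA⟩) (mem_sup_right ⟨hBB, ?_⟩)
  have h3 := mul_mem (inv_mem hcA) hce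
  rwa [inv_mul_cancel_left] at h3

/-- A `p`-component of the centralizer in `A B` lies in the centralizer in `A` or in `B`. -/
theorem IsPComponent.le_fixed_or {N : Subgroup X} {K A B R : Subgroup X}
    (hK : Cfsg.IsPComponentOf p K N) (hAn : (A.subgroupOf N).Normal) (hBn : (B.subgroupOf N).Normal)
    (hAB : A ≤ centralizer (B : Set X)) (hA : R ≤ normalizer (A : Set X))
    (hB : R ≤ normalizer (B : Set X)) (hKAB : K ≤ A ⊔ B) (hKR : K ≤ centralizer (R : Set X))
    (hRN : centralizer (R : Set X) ≤ N) :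
    K ≤ A ∨ K ≤ B := by
  rcases IsPComponent.le_or_commutator_le hK.2 (A.subgroupOf N) with h | h
  · exact Or.inl fun k hk => mem_subgroupOf.mp
      (h (show (⟨k, hK.1 hk⟩ : ↥N) ∈ K.subgroupOf N from mem_subgroupOf.mpr hk))
  rcases IsPComponent.le_or_commutator_le hK.2 (B.subgroupOf N) with h' | h'
  · exact Or.inr fun k hk => mem_subgroupOf.mp
      (h' (show (⟨k, hK.1 hk⟩ : ↥N) ∈ K.subgroupOf N from mem_subgroupOf.mpr hk))
  exfalso
  refine IsPComponent.not_le_pPrimeCore hK.2 ?_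
  rw [← IsPComponent.perfect hK.2]
  have hKp := (isPComponentOf_iff.mp hK).2.2
  have hle : K.subgroupOf N ≤ A.subgroupOf N ⊔ B.subgroupOf N := by
    intro k hk
    have h2 : (k : X) ∈ (A ⊓ N) ⊔ (B ⊓ N) :=
      sup_le_sup (inf_le_inf_left A hRN) (inf_le_inf_left B hRN)
        ((commutator_le_fixed hAB R hA hB) (commutator_mono (le_inf hKAB hKR) (le_inf hKAB hKR)
          (hKp.perfect.ge (mem_subgroupOf.mp hk))))
    rw [← subgroupOf_map_subtype A N, ← subgroupOf_map_subtype B N, ← Subgroup.map_sup] at h2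
    obtain ⟨u, hu, hue⟩ := h2
    rwa [← Subtype.ext hue]
  refine (commutator_mono le_rfl hle).trans ?_
  rw [← QuotientGroup.ker_mk' (Cfsg.pPrimeCore p ↥N), ← Subgroup.map_eq_bot_iff, map_commutator,
    Subgroup.map_sup, commutator_eq_bot_iff_le_centralizer, le_centralizer_iff]
  rw [← QuotientGroup.ker_mk' (Cfsg.pPrimeCore p ↥N), ← Subgroup.map_eq_bot_iff, map_commutator,
    commutator_eq_bot_iff_le_centralizer, le_centralizer_iff] at h h'
  exact sup_le h h'


/-! ### Semisimple groups -/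

omit [Fact p.Prime] in
theorem perfect_of_layer_eq_top {M : Subgroup X} (hM : Cfsg.layer ↥M = ⊤) : ⁅M, M⁆ = M := by
  have h := congrArg (Subgroup.map M.subtype) (layer_perfect (G := ↥M))
  rwa [hM, map_commutator, ← MonoidHom.range_eq_map, range_subtype] at h

omit [Fact p.Prime] in
theorem layer_sSup_components {S : Set (Subgroup X)} (hS : ∀ L ∈ S, Cfsg.IsComponent L) :
    Cfsg.layer ↥(sSup S) = ⊤ := by
  apply Subgroup.map_injective (subtype_injective (sSup S))
  rw [← MonoidHom.range_eq_map, range_subtype]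
  refine le_antisymm (map_subtype_le _) (sSup_le fun L hL => ?_)
  have h := map_mono (f := (sSup S).subtype)
    (IsComponent.le_layer (IsComponent.subgroupOf (hS L hL) (le_sSup hL)))
  rwa [map_subgroupOf_eq_of_le (le_sSup hL)] at h

omit [Finite X] [Fact p.Prime] in
theorem normalizer_le_normalizer_centralizer (M : Subgroup X) :
    normalizer (M : Set X) ≤ normalizer ((centralizer (M : Set X) : Subgroup X) : Set X) := by
  intro g hg
  have key : ∀ e ∈ normalizer (M : Set X), ∀ u ∈ centralizer (M : Set X),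
      e * u * e⁻¹ ∈ centralizer (M : Set X) := by
    intro e he u hu w hw
    have hw' := (mem_normalizer_iff.mp (inv_mem he) w).mp hw
    rw [inv_inv] at hw'
    have := hu _ hw'
    calc w * (e * u * e⁻¹) = e * (e⁻¹ * w * e * u) * e⁻¹ := by group
      _ = e * u * e⁻¹ * w := by rw [this]; group
  refine mem_normalizer_iff.mpr fun u => ⟨key g hg u, fun hu => ?_⟩
  have := key g⁻¹ (inv_mem hg) _ hu
  rwa [show g⁻¹ * (g * u * g⁻¹) * g⁻¹⁻¹ = u by group] at this

theorem isPLike_ne_bot {K : Subgroup X} (h : IsPLike p K) : K ≠ ⊥ := fun e =>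
  h.not_le_OCore (e ▸ bot_le)

theorem not_le_centralizer_of_le {K M : Subgroup X} (h : IsPLike p K) (hKM : K ≤ M) :
    ¬ K ≤ centralizer (M : Set X) := fun hc => h.not_le_OCore (by
  rw [← h.perfect, commutator_eq_bot_iff_le_centralizer.mpr
    (hc.trans (centralizer_le (SetLike.coe_subset_coe.mpr hKM)))]
  exact bot_le)

/-- The `p`-components of the centralizer in a semisimple group of an element inducing an
automorphism of order `p` are quasisimple. -/
theorem isQuasisimple_base (h : SecHyp p X) {M : Subgroup X} (hM : Cfsg.layer ↥M = ⊤) {z : X}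
    (hzM : z ∈ normalizer (M : Set X)) (hzp : z ^ p ∈ centralizer (M : Set X))
    (hz : z ∉ centralizer (M : Set X)) {K : Subgroup X}
    (hKle : K ≤ M ⊓ centralizer ({z} : Set X))
    (hKs : (K.subgroupOf (M ⊓ centralizer ({z} : Set X))).IsSubnormal) (hK : IsPLike p K) :
    Cfsg.IsQuasisimple ↥K := by
  set W := M ⊔ zpowers z with hW
  have hWN : W ≤ normalizer (M : Set X) := sup_le le_normalizer (zpowers_le.mpr hzM)
  have hzW : z ∈ W := mem_sup_right (mem_zpowers z)
  have hMW : M ≤ W := le_sup_left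
  set CW := (centralizer (M : Set X)).subgroupOf W with hCW
  have hCn : CW.Normal := ⟨fun u hu g => mem_subgroupOf.mpr
    ((mem_normalizer_iff.mp (normalizer_le_normalizer_centralizer M (hWN g.2)) u).mp
      (mem_subgroupOf.mp hu))⟩
  set π := QuotientGroup.mk' CW with hπ
  have hπ1 : ∀ u : ↥W, π u = 1 ↔ (u : X) ∈ centralizer (M : Set X) := fun u =>
    (QuotientGroup.eq_one_iff u).trans mem_subgroupOf
  set Mb := (M.subgroupOf W).map π with hMb
  have hMn : (M.subgroupOf W).Normal := normal_subgroupOf_of_le_normalizer hWN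
  have hMbn : Mb.Normal := hMn.map π (QuotientGroup.mk'_surjective _)
  have hMperf := perfect_of_layer_eq_top hM
  -- `M̄` is in the layer and has trivial centre
  have hMbE : Mb ≤ Cfsg.layer (↥W ⧸ CW) := by
    rw [hMb, map_le_iff_le_comap]
    intro u hu
    have h1 : (⟨u, mem_subgroupOf.mp hu⟩ : ↥M) ∈ Cfsg.layer ↥M := hM ▸ mem_top _
    have h2 : Cfsg.layer ↥M ≤ (Cfsg.layer (↥W ⧸ CW)).comap (π.comp (inclusion hMW)) := by
      refine layer_le fun L hL => map_le_iff_le_comap.mp ?_
      have hne : L.map (π.comp (inclusion hMW)) ≠ ⊥ := fun e =>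
        IsComponent.not_le_centralizer hL fun l hl w _ => Subtype.ext
          ((hπ1 _).mp ((Subgroup.map_eq_bot_iff _).mp e hl) w w.2)
      haveI : Nontrivial ↥(L.map (π.comp (inclusion hMW))) := (nontrivial_iff_ne_bot _).mpr hne
      refine IsComponent.le_layer ⟨?_, IsQuasisimple.of_surjective hL.2
        ((π.comp (inclusion hMW)).subgroupMap L) ((π.comp (inclusion hMW)).subgroupMap_surjective L)⟩
      rw [← Subgroup.map_map]
      refine IsSubnormal.map (f := π) (QuotientGroup.mk'_surjective _) ?_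
      have h3 := (hL.1.comap (subgroupOfEquivOfLe hMW).toMonoidHom).trans' hMn.isSubnormal
      convert h3 using 1
      ext v
      constructor
      · rintro ⟨l, hl, rfl⟩
        exact ⟨⟨inclusion hMW l, mem_subgroupOf.mpr l.2⟩, hl, rfl⟩
      · rintro ⟨l, hl, rfl⟩
        exact ⟨⟨(l : ↥W), mem_subgroupOf.mp l.2⟩, hl, rfl⟩
    exact h2 h1
  have hZb : ∀ v ∈ Mb, v ∈ centralizer (Mb : Set _) → v = 1 := by
    rintro _ ⟨u, hu, rfl⟩ hc
    rw [hπ1]
    have hu' : (u : X) ∈ M := mem_subgroupOf.mp hu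
    have hle : ⁅M, zpowers (u : X)⁆ ≤ M ⊓ centralizer (M : Set X) := by
      rw [commutator_comm, commutator_le]
      rintro _ ⟨i, rfl⟩ m hm
      refine ⟨M.mul_mem (M.mul_mem (M.mul_mem (M.zpow_mem hu' i) hm) (M.inv_mem (M.zpow_mem hu' i)))
        (M.inv_mem hm), ?_⟩
      have h1 : π ⁅u ^ i, (⟨m, hMW hm⟩ : ↥W)⁆ = 1 := by
        rw [map_commutatorElement, commutatorElement_eq_one_iff_mul_comm, map_zpow]
        exact (Commute.zpow_left (show Commute (π u) (π ⟨m, hMW hm⟩) from
          (hc _ ⟨⟨m, hMW hm⟩, mem_subgroupOf.mpr hm, rfl⟩).symm) i).eq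
      exact (hπ1 _).mp h1
    have h2 := commutator_eq_bot_of_perfect_of_le hMperf hle (by
      rw [commutator_eq_bot_iff_le_centralizer]; exact inf_le_right)
    rw [commutator_comm, commutator_eq_bot_iff_le_centralizer] at h2
    exact h2 (mem_zpowers _)
  -- the image of `z`
  set xb := π ⟨z, hzW⟩
  have hxo : orderOf xb = p := orderOf_eq_prime
    (by rw [← map_pow, hπ1]; exact hzp) (fun e => hz ((hπ1 _).mp e))
  -- the image of `K`
  set K' := (K.subgroupOf W).map π with hK'def
  have hKM : K ≤ M := hKle.trans inf_le_left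
  have hKW : K ≤ W := hKM.trans hMW
  have hKc : ∀ u ∈ K.subgroupOf W, π u = 1 → u ∈ centralizer (K.subgroupOf W : Set ↥W) :=
    fun u _ hu w hw => Subtype.ext ((hπ1 u).mp hu w (hKM (mem_subgroupOf.mp hw)))
  have hK'ne : K' ≠ ⊥ := fun e => not_le_centralizer_of_le hK hKM fun k hk =>
    (hπ1 _).mp ((Subgroup.map_eq_bot_iff _).mp e (show (⟨k, hKW hk⟩ : ↥W) ∈ K.subgroupOf W from
      mem_subgroupOf.mpr hk))
  have hK'p : IsPLike p K' := IsPLike.map_of_ne_bot ((isPLike_subgroupOf_iff hKW).mpr hK) π hK'ne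
  suffices hgoal : Cfsg.IsQuasisimple ↥K' by
    rw [← map_subgroupOf_eq_of_le hKW, isQuasisimple_map_iff (subtype_injective W)]
    exact isQuasisimple_of_map ((isPLike_subgroupOf_iff hKW).mpr hK).perfect π hKc hgoal
  have hK'M : K' ≤ Mb := map_mono (comap_mono hKM)
  have hK'C : K' ≤ centralizer ({xb} : Set _) := by
    rintro _ ⟨u, hu, rfl⟩ w hw
    rw [Set.mem_singleton_iff] at hw
    subst hw
    rw [← map_mul, ← map_mul]
    exact congrArg π (Subtype.ext ((hKle (mem_subgroupOf.mp hu)).2 z rfl))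
  have hK's : (K'.subgroupOf (centralizer ({xb} : Set _))).IsSubnormal := by
    set CC := centralizer ({xb} : Set (↥W ⧸ CW))
    set K1 := M ⊓ centralizer ({z} : Set X) with hK1
    set K1' := (K1.subgroupOf W).map π with hK1'
    have hK1W : K1 ≤ W := inf_le_left.trans hMW
    have hK1C : K1' ≤ Mb ⊓ CC := by
      refine le_inf (map_mono (comap_mono inf_le_left)) ?_
      rintro _ ⟨u, hu, rfl⟩ w hw
      rw [Set.mem_singleton_iff] at hw
      subst hw
      rw [← map_mul, ← map_mul]
      exact congrArg π (Subtype.ext ((mem_subgroupOf.mp hu).2 z rfl))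
    have h1 : ((K.subgroupOf W).subgroupOf (K1.subgroupOf W)).IsSubnormal :=
      hKs.comap (subgroupOfEquivOfLe hK1W).toMonoidHom
    have h2 : (K'.subgroupOf K1').IsSubnormal := by
      have h3 := IsSubnormal.map (f := π.subgroupMap (K1.subgroupOf W))
        (π.subgroupMap_surjective _) h1
      convert h3 using 1
      ext ⟨v, hv⟩
      constructor
      · rintro ⟨u, hu, hue⟩
        exact ⟨⟨u, mem_subgroupOf.mpr (hKle (mem_subgroupOf.mp hu))⟩, mem_subgroupOf.mpr hu,
          Subtype.ext hue⟩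
      · rintro ⟨u, hu, hue⟩
        exact ⟨u, mem_subgroupOf.mp hu, congrArg Subtype.val hue⟩
    have h4 : (K1'.subgroupOf (Mb ⊓ CC)).Normal := by
      refine ⟨fun v hv g => mem_subgroupOf.mpr ?_⟩
      obtain ⟨⟨m, hm, hme⟩, hgC⟩ := g.2
      obtain ⟨u, hu, hue⟩ := mem_subgroupOf.mp hv
      refine ⟨m * u * m⁻¹, mem_subgroupOf.mpr ⟨?_, ?_⟩, by
        simp only [map_mul, map_inv, Subgroup.coe_mul, Subgroup.coe_inv, hme, hue]⟩
      · exact M.mul_mem (M.mul_mem hm (mem_subgroupOf.mp hu).1) (M.inv_mem hm)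
      intro w hw
      rw [Set.mem_singleton_iff] at hw
      rw [hw]
      have h5 : π ⟨z, hzW⟩ * π m = π m * π ⟨z, hzW⟩ := by rw [hme]; exact hgC xb rfl
      have h6 : (m : X)⁻¹ * (z * m * z⁻¹) ∈ centralizer (M : Set X) := by
        have h7 : π (m⁻¹ * ((⟨z, hzW⟩ : ↥W) * m * (⟨z, hzW⟩ : ↥W)⁻¹)) = 1 := by
          rw [map_mul, map_mul, map_mul, map_inv, map_inv, h5]; group
        exact (hπ1 _).mp h7
      have h8 := h6 (u : X) (mem_subgroupOf.mp hu).1
      have h9 : z * (u : X) = u * z := (mem_subgroupOf.mp hu).2 z rfl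
      set c := (m : X)⁻¹ * (z * m * z⁻¹) with hc
      have e1 : z * m * z⁻¹ = (m : X) * c := by rw [hc]; group
      calc z * ((m : X) * u * (m : X)⁻¹)
          = (z * m * z⁻¹) * (z * u) * (z⁻¹ * z) * (m : X)⁻¹ * z⁻¹ * z := by group
        _ = (z * m * z⁻¹) * (u * z) * (m : X)⁻¹ * z⁻¹ * z := by rw [h9]; group
        _ = (z * m * z⁻¹) * u * (z * m * z⁻¹)⁻¹ * z := by group
        _ = (m : X) * (c * u) * c⁻¹ * (m : X)⁻¹ * z := by rw [e1]; group
        _ = (m : X) * u * (m : X)⁻¹ * z := by rw [← h8]; group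
    have h10 : (((Mb ⊓ CC).subgroupOf CC)).Normal :=
      normal_subgroupOf_of_le_normalizer fun g hg =>
        inf_normalizer_le_normalizer_inf ⟨normalizer_eq_top (H := Mb) ▸ mem_top g, le_normalizer hg⟩
    have hle1 : K' ≤ K1' := map_mono (comap_mono hKle)
    have h11 : (K'.subgroupOf (Mb ⊓ CC)).IsSubnormal := by
      have h12 := (h2.comap (subgroupOfEquivOfLe hK1C).toMonoidHom).trans' h4.isSubnormal
      rwa [show (K'.subgroupOf K1').comap (subgroupOfEquivOfLe hK1C).toMonoidHom =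
        (K'.subgroupOf (Mb ⊓ CC)).subgroupOf (K1'.subgroupOf (Mb ⊓ CC)) from rfl,
        map_subgroupOf_eq_of_le (show K'.subgroupOf (Mb ⊓ CC) ≤ K1'.subgroupOf (Mb ⊓ CC) from
          comap_mono hle1)] at h12
    have h13 := (h11.comap (subgroupOfEquivOfLe (inf_le_right : Mb ⊓ CC ≤ CC)).toMonoidHom).trans'
      h10.isSubnormal
    rwa [show (K'.subgroupOf (Mb ⊓ CC)).comap
        (subgroupOfEquivOfLe (inf_le_right : Mb ⊓ CC ≤ CC)).toMonoidHom =
      (K'.subgroupOf CC).subgroupOf ((Mb ⊓ CC).subgroupOf CC) from rfl,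
      map_subgroupOf_eq_of_le (show K'.subgroupOf CC ≤ (Mb ⊓ CC).subgroupOf CC from
        comap_mono (hle1.trans hK1C))] at h13
  obtain ⟨J, hJ, hcase⟩ := pump hxo (hK'M.trans hMbE) hK'C hK's hK'p
  -- `J` lies in `M̄`, so it is simple
  have hJM : J ≤ Mb := by
    rcases IsComponent.le_or_commutes hJ hMbn.isSubnormal with h1 | h1
    · exact h1
    exfalso
    rw [commutator_eq_bot_iff_le_centralizer] at h1
    refine not_le_centralizer_of_le hK'p hK'M ?_
    rcases hcase with ⟨-, hle⟩ | ⟨hn, hle⟩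
    · exact hle.trans h1
    · classical
      letI : Fintype ↥(zpowers xb) := Fintype.ofFinite _
      have hc := orbitCommutes_of_not_mem hxo hJ hn
      refine (hle hc).trans ?_
      rintro _ ⟨w, rfl⟩
      have h2 : (orbitHom J hc).range ≤ centralizer (Mb : Set _) := by
        rw [range_orbitHom]
        refine iSup_le fun b => ?_
        rintro _ ⟨v, hv, rfl⟩ m hm
        simp only [MulEquiv.coe_toMonoidHom, MulAut.conj_apply]
        have hm' := hMbn.conj_mem m hm (b : ↥W ⧸ CW)⁻¹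
        rw [inv_inv] at hm'
        have h3 := h1 hv _ hm'
        generalize (b : ↥W ⧸ CW) = b' at h3 ⊢
        calc m * (b' * v * b'⁻¹) = b' * (b'⁻¹ * m * b' * v) * b'⁻¹ := by group
          _ = b' * v * b'⁻¹ * m := by rw [h3]; group
      exact h2 ⟨_, rfl⟩
  have hJZ : ∀ v ∈ J, v ∈ centralizer (J : Set _) → v = 1 := fun v hv hvc => by
    refine hZb v (hJM hv) fun m hm => ?_
    have hle : Cfsg.layer (↥W ⧸ CW) ≤ centralizer ({v} : Set _) := by
      refine layer_le fun L hL l hl w hw => ?_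
      rw [Set.mem_singleton_iff] at hw
      rw [hw]
      by_cases e : L = J
      · subst e; exact (hvc l hl).symm
      · exact ((commutator_eq_bot_iff_le_centralizer.mp
          (IsComponent.commutator_eq_bot hL hJ e)) hl v hv)
    exact (hle (hMbE hm) v rfl).symm
  have hJcenter : center ↥J = ⊥ := by
    rw [eq_bot_iff]
    intro v hv
    exact mem_bot.mpr (Subtype.ext (hJZ v v.2 fun w hw =>
      congrArg Subtype.val (mem_center_iff.mp hv ⟨w, hw⟩)))
  have hJsimple : ∀ N : Subgroup ↥J, N.IsSubnormal → N = ⊤ ∨ N = ⊥ := fun N hN =>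
    (IsQuasisimple.eq_top_or_le_center hJ.2 hN).imp_right fun h1 => le_bot_iff.mp (hJcenter ▸ h1)
  rcases hcase with ⟨hxn, hle⟩ | ⟨hn, hle⟩
  rotate_left
  · -- diagonal case
    classical
    letI : Fintype ↥(zpowers xb) := Fintype.ofFinite _
    have hc := orbitCommutes_of_not_mem hxo hJ hn
    have hinj : Function.Injective (diag J hc) := by
      rw [injective_iff_map_eq_one]
      intro u hu
      have h1 := apply_mem_center_of_eq_one J hc (g := fun _ => u) hu 1
      rw [hJcenter, mem_bot] at h1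
      exact h1
    set D := (diag J hc).range
    have hKD : K' ≤ D := hle hc
    have hDC : D ≤ centralizer ({xb} : Set _) := by
      rintro _ ⟨u, rfl⟩ w hw
      rw [Set.mem_singleton_iff] at hw
      rw [hw]
      exact (commute_diag J hc u).eq
    have hs : (K'.subgroupOf D).IsSubnormal := hK's.comap (inclusion hDC)
    let e : ↥J ≃* ↥D := MonoidHom.ofInjective hinj
    have hs' : ((K'.subgroupOf D).comap e.toMonoidHom).IsSubnormal := hs.comap _
    rcases hJsimple _ hs' with h1 | h1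
    · have h2 : K' = D := le_antisymm hKD fun d hd => by
        obtain ⟨u, hu⟩ := e.surjective ⟨d, hd⟩
        have h3 : u ∈ (K'.subgroupOf D).comap e.toMonoidHom := h1 ▸ mem_top u
        have h4 : (e u : ↥W ⧸ CW) ∈ K' := h3
        rwa [hu] at h4
      rw [h2]
      exact (isQuasisimple_congr e).mp hJ.2
    · exfalso
      refine isPLike_ne_bot hK'p (eq_bot_iff.mpr fun d hd => ?_)
      obtain ⟨u, hu⟩ := e.surjective ⟨d, hKD hd⟩
      have h3 : u ∈ (K'.subgroupOf D).comap e.toMonoidHom := by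
        show (e u : ↥W ⧸ CW) ∈ K'
        rw [hu]; exact hd
      rw [h1, mem_bot] at h3
      rw [h3, map_one] at hu
      exact mem_bot.mpr (congrArg Subtype.val hu).symm
  -- `x` normalises `J`
  set H := J ⊔ zpowers xb with hH
  have hHN : H ≤ normalizer (J : Set _) := sup_le le_normalizer (zpowers_le.mpr hxn)
  have hJH : J ≤ H := le_sup_left
  have hxH : xb ∈ H := mem_sup_right (mem_zpowers xb)
  set CH := (centralizer (J : Set (↥W ⧸ CW))).subgroupOf H with hCH
  have hCHn : CH.Normal := ⟨fun u hu g => mem_subgroupOf.mpr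
    ((mem_normalizer_iff.mp (normalizer_le_normalizer_centralizer J (hHN g.2)) u).mp
      (mem_subgroupOf.mp hu))⟩
  set f := QuotientGroup.mk' CH
  have hf1 : ∀ u : ↥H, f u = 1 ↔ (u : ↥W ⧸ CW) ∈ centralizer (J : Set _) := fun u =>
    (QuotientGroup.eq_one_iff u).trans mem_subgroupOf
  let j : ↥J →* ↥H ⧸ CH := f.comp (inclusion hJH)
  have hj : Function.Injective j := by
    rw [injective_iff_map_eq_one]
    intro u hu
    exact Subtype.ext (hJZ u u.2 ((hf1 _).mp hu))
  set J'' := j.range with hJ''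
  have hJ''n : J''.Normal := by
    refine ⟨?_⟩
    rintro _ ⟨u, rfl⟩ g
    obtain ⟨g, rfl⟩ := QuotientGroup.mk'_surjective CH g
    refine ⟨⟨g * u * (g : ↥W ⧸ CW)⁻¹, (mem_normalizer_iff.mp (hHN g.2) _).mp u.2⟩, ?_⟩
    show f _ = f g * f _ * (f g)⁻¹
    rw [← map_inv, ← map_mul, ← map_mul]
    rfl
  have hJ''c : Cfsg.IsComponent J'' :=
    ⟨hJ''n.isSubnormal, (isQuasisimple_congr (MonoidHom.ofInjective hj)).mp hJ.2⟩
  have hcent : centralizer (J'' : Set (↥H ⧸ CH)) = ⊥ := by
    rw [eq_bot_iff]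
    intro t ht
    obtain ⟨u, rfl⟩ : ∃ u, f u = t := QuotientGroup.mk'_surjective CH t
    rw [mem_bot, hf1]
    intro w hw
    set w' : ↥H := ⟨w, hJH hw⟩
    have h1 : f (u * w' * u⁻¹ * w'⁻¹) = 1 := by
      rw [map_mul, map_mul, map_mul, map_inv, map_inv, ← ht (f w') ⟨⟨w, hw⟩, rfl⟩]
      group
    have h2 : (u : ↥W ⧸ CW) * w * (u : ↥W ⧸ CW)⁻¹ * w⁻¹ = 1 :=
      hJZ _ (J.mul_mem ((mem_normalizer_iff.mp (hHN u.2) w).mp hw) (J.inv_mem hw))
        ((hf1 _).mp h1)
    rw [mul_inv_eq_one, mul_inv_eq_iff_eq_mul] at h2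
    exact h2.symm
  have hlayer : Cfsg.layer (↥H ⧸ CH) = J'' := by
    refine le_antisymm (layer_le fun L hL => ?_) (IsComponent.le_layer hJ''c)
    by_contra hne
    have h1 := IsComponent.commutator_eq_bot hL hJ''c fun e => hne e.le
    rw [commutator_eq_bot_iff_le_centralizer, hcent] at h1
    exact IsComponent.ne_bot hL (le_bot_iff.mp h1)
  have hfit : Cfsg.fittingSubgroup (↥H ⧸ CH) = ⊥ := by
    have h1 := fitting_le_centralizer_layer (G := ↥H ⧸ CH)
    rwa [hlayer, hcent, le_bot_iff] at h1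
  have hq : Cfsg.HasQuasisimpleGeneralizedFitting (↥H ⧸ CH) := by
    rw [Cfsg.HasQuasisimpleGeneralizedFitting, Cfsg.generalizedFittingSubgroup, hlayer, hfit,
      sup_bot_eq]
    exact hJ''c.2
  have hK'ne' : ¬ (Nat.card K').Coprime p := fun hco =>
    isPLike_ne_bot hK'p (hK'p.2 ▸ pGen_eq_bot_of_coprime hco)
  have hO : Cfsg.pPrimeCore p (↥H ⧸ CH) = ⊥ := by
    set O := Cfsg.pPrimeCore p (↥H ⧸ CH)
    have hco : (Nat.card O).Coprime p := Cores.coprime_card_pPrimeCore p
    have hdis : Disjoint J'' O := by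
      rw [disjoint_iff]
      rcases hJsimple ((O.comap j)) ((Cores.pPrimeCore_normal p _).isSubnormal.comap j) with h1 | h1
      · exfalso
        refine hK'ne' (hco.coprime_dvd_left ((Subgroup.card_dvd_of_le hle).trans ?_))
        have h2 : j.range ≤ O := by
          rintro _ ⟨u, rfl⟩
          exact (h1.ge (mem_top u) : u ∈ O.comap j)
        rw [Nat.card_congr (MonoidHom.ofInjective hj).toEquiv]
        exact Subgroup.card_dvd_of_le h2
      · rw [eq_bot_iff]
        rintro _ ⟨⟨u, rfl⟩, hu⟩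
        have h2 : u ∈ O.comap j := hu
        rw [h1, mem_bot] at h2
        rw [h2, map_one]
        exact one_mem _
    rw [eq_bot_iff, ← hcent]
    intro t ht w hw
    exact (Subgroup.commute_of_normal_of_disjoint _ _ hJ''n (Cores.pPrimeCore_normal p _) hdis
      w t hw ht).eq
  -- apply the hypothesis to the section `H / C(J)`
  have hsec : SecHyp p (↥W ⧸ CW) := h.comp W π (QuotientGroup.mk'_surjective _)
  obtain ⟨hBp, -⟩ := hsec H (↥H ⧸ CH) f (QuotientGroup.mk'_surjective _) hq hO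
  set x2 := f ⟨xb, hxH⟩
  by_cases hx2 : x2 = 1
  · -- `x` centralises `J`
    have hJC : J ≤ centralizer ({xb} : Set _) := fun u hu w hw => by
      rw [Set.mem_singleton_iff] at hw
      rw [hw]
      exact ((hf1 _).mp hx2 u hu).symm
    rcases hJsimple (K'.subgroupOf J) (hK's.comap (inclusion hJC)) with h1 | h1
    · rw [le_antisymm hle (subgroupOf_eq_top.mp h1)]
      exact hJ.2
    · exfalso
      refine isPLike_ne_bot hK'p ?_
      rw [← map_subgroupOf_eq_of_le hle, h1, Subgroup.map_bot]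
  have hx2o : orderOf x2 = p := orderOf_eq_prime (by
    rw [← map_pow, show (⟨xb, hxH⟩ : ↥H) ^ p = 1 from Subtype.ext (by
      show xb ^ p = 1
      rw [← hxo, pow_orderOf_eq_one]), map_one]) hx2
  set C2 := centralizer ({x2} : Set (↥H ⧸ CH))
  set J1 := J ⊓ centralizer ({xb} : Set (↥W ⧸ CW)) with hJ1
  let j1 : ↥J1 →* ↥H ⧸ CH := j.comp (inclusion inf_le_left)
  have hj1 : j1.range = J'' ⊓ C2 := by
    ext t
    constructor
    · rintro ⟨u, rfl⟩
      refine ⟨⟨_, rfl⟩, fun w hw => ?_⟩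
      rw [Set.mem_singleton_iff] at hw
      rw [hw]
      show f _ * f _ = f _ * f _
      rw [← map_mul, ← map_mul]
      exact congrArg f (Subtype.ext (u.2.2 xb rfl))
    · rintro ⟨⟨u, rfl⟩, hu⟩
      refine ⟨⟨u, u.2, fun w hw => ?_⟩, rfl⟩
      rw [Set.mem_singleton_iff] at hw
      rw [hw]
      set u' : ↥H := inclusion hJH u
      have h0 : f ⟨xb, hxH⟩ * f u' = f u' * f ⟨xb, hxH⟩ := hu x2 rfl
      have h1 : f (⟨xb, hxH⟩ * u' * (⟨xb, hxH⟩ : ↥H)⁻¹ * u'⁻¹) = 1 := by
        rw [map_mul, map_mul, map_mul, map_inv, map_inv, h0]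
        group
      have h2 := hJZ _ (J.mul_mem ((mem_normalizer_iff.mp hxn _).mp u.2) (J.inv_mem u.2))
        ((hf1 _).mp h1)
      rw [mul_inv_eq_one, mul_inv_eq_iff_eq_mul] at h2
      exact h2
  have hK'J1 : K' ≤ J1 := le_inf hle hK'C
  set K2 := (K'.subgroupOf J1).map j1
  have hj1inj : Function.Injective j1 := hj.comp (inclusion_injective _)
  have hK2p : IsPLike p K2 := (isPLike_map_iff hj1inj _).mpr ((isPLike_subgroupOf_iff hK'J1).mpr hK'p)
  have hK2C : K2 ≤ C2 := (map_le_range j1 _).trans (hj1.le.trans inf_le_right)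
  have hK2s : (K2.subgroupOf C2).IsSubnormal := by
    have h1 : ((K'.subgroupOf J1)).IsSubnormal :=
      hK's.comap (inclusion (inf_le_right : J1 ≤ centralizer ({xb} : Set _)))
    have hn2 : ((J'' ⊓ C2).subgroupOf C2).Normal :=
      normal_subgroupOf_of_le_normalizer fun g hg =>
        inf_normalizer_le_normalizer_inf ⟨normalizer_eq_top (H := J'') ▸ mem_top g, le_normalizer hg⟩
    have h2 := IsSubnormal.map (f := j1.rangeRestrict) j1.rangeRestrict_surjective h1
    let e : ↥((J'' ⊓ C2).subgroupOf C2) →* ↥j1.range :=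
      (inclusion hj1.ge).comp (subgroupOfEquivOfLe (inf_le_right : J'' ⊓ C2 ≤ C2)).toMonoidHom
    have h3 := (h2.comap e).trans' hn2.isSubnormal
    convert h3 using 1
    ext v
    constructor
    · rintro ⟨u, hu, hue⟩
      refine ⟨⟨v, mem_subgroupOf.mpr (hj1.le ⟨u, hue⟩)⟩, ⟨u, hu, Subtype.ext hue⟩, rfl⟩
    · rintro ⟨v', ⟨u, hu, hue⟩, rfl⟩
      exact ⟨u, hu, congrArg Subtype.val hue⟩
  have h4 := hBp.2 x2 hx2o (K2.subgroupOf C2)
    (isPComponent_iff.mpr ⟨hK2s, (isPLike_subgroupOf_iff hK2C).mpr hK2p⟩)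
  rw [← isQuasisimple_map_iff (subtype_injective C2), map_subgroupOf_eq_of_le hK2C,
    isQuasisimple_map_iff hj1inj, ← isQuasisimple_map_iff (subtype_injective J1),
    map_subgroupOf_eq_of_le hK'J1] at h4
  exact h4

/-- `p`-components of centralizers of `p`-groups acting on semisimple groups are quasisimple. -/
theorem isQuasisimple_of_semisimple (h : SecHyp p X) : ∀ (n : ℕ) (M R : Subgroup X),
    Cfsg.layer ↥M = ⊤ → IsPGroup p ↥R → R ≤ normalizer (M : Set X) →
    Nat.card R - Nat.card ↥(R ⊓ centralizer (M : Set X)) ≤ n →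
    ∀ K : Subgroup X, K ≤ M ⊓ centralizer (R : Set X) →
      (K.subgroupOf (M ⊓ centralizer (R : Set X))).IsSubnormal → IsPLike p K →
      Cfsg.IsQuasisimple ↥K := by
  intro n
  induction n using Nat.strong_induction_on with
  | _ n ih =>
  intro M R hM hRp hRN hn K hKle hKs hK
  have hKM : K ≤ M := hKle.trans inf_le_left
  by_cases hRC : R ≤ centralizer (M : Set X)
  · have hMC : M ≤ centralizer (R : Set X) := le_centralizer_iff.mp hRC
    have hKp : Cfsg.IsPComponent p (K.subgroupOf M) := isPComponent_iff.mpr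
      ⟨hKs.comap (inclusion (le_inf le_rfl hMC)), (isPLike_subgroupOf_iff hKM).mpr hK⟩
    by_cases hex : ∃ L : Subgroup ↥M, Cfsg.IsComponent L ∧ K.subgroupOf M ≤ L
    · obtain ⟨L, hL, hle⟩ := hex
      rcases IsQuasisimple.eq_top_or_le_center hL.2 (hKp.1.subgroupOf (K := L)) with h1 | h1
      · rw [← map_subgroupOf_eq_of_le hKM, isQuasisimple_map_iff (subtype_injective M),
          le_antisymm hle (subgroupOf_eq_top.mp h1)]
        exact hL.2
      · exfalso
        refine not_le_centralizer_of_le ((isPLike_subgroupOf_iff hKM).mpr hK) hle ?_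
        have h2 := map_mono (f := L.subtype) h1
        rw [map_subgroupOf_eq_of_le hle] at h2
        exact h2.trans (center_map_subtype_le_centralizer L)
    · exfalso
      refine IsPComponent.not_le_pPrimeCore hKp ?_
      rw [← IsPComponent.perfect hKp]
      refine (commutator_mono le_rfl (le_top.trans hM.ge)).trans ?_
      rw [← QuotientGroup.ker_mk' (Cfsg.pPrimeCore p ↥M), ← Subgroup.map_eq_bot_iff, map_commutator,
        commutator_eq_bot_iff_le_centralizer, le_centralizer_iff, map_le_iff_le_comap]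
      refine layer_le fun L hL => ?_
      have : L.Normal := normalizer_eq_top_iff.mp (top_le_iff.mp
        (hM.ge.trans (IsComponent.layer_le_normalizer hL)))
      rcases IsPComponent.le_or_commutator_le hKp L with h1 | h1
      · exact absurd ⟨L, hL, h1⟩ hex
      · rw [← QuotientGroup.ker_mk' (Cfsg.pPrimeCore p ↥M), ← Subgroup.map_eq_bot_iff,
          map_commutator, commutator_eq_bot_iff_le_centralizer, le_centralizer_iff] at h1
        exact map_le_iff_le_comap.mp h1
  -- an element of `R` central modulo `C(M)` of order `p` modulo `C(M)`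
  set CR := (centralizer (M : Set X)).subgroupOf R with hCR
  have hCRn : CR.Normal := ⟨fun u hu g => mem_subgroupOf.mpr
    ((mem_normalizer_iff.mp (normalizer_le_normalizer_centralizer M (hRN g.2)) u).mp
      (mem_subgroupOf.mp hu))⟩
  have hQp : IsPGroup p (↥R ⧸ CR) := hRp.to_quotient CR
  haveI : Nontrivial (↥R ⧸ CR) := QuotientGroup.nontrivial_iff.mpr fun e =>
    hRC (subgroupOf_eq_top.mp e)
  have := hQp.center_nontrivial
  obtain ⟨m, hm⟩ := IsPGroup.iff_card.mp (hQp.to_subgroup (center (↥R ⧸ CR)))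
  have hdvd : p ∣ Nat.card ↥(center (↥R ⧸ CR)) := by
    rw [hm]
    refine dvd_pow_self p ?_
    rintro rfl
    have := Finite.one_lt_card (α := ↥(center (↥R ⧸ CR)))
    rw [hm, pow_zero] at this
    exact lt_irrefl 1 this
  obtain ⟨⟨zq, hzq⟩, hzo⟩ := exists_prime_orderOf_dvd_card' p hdvd
  rw [Subgroup.orderOf_mk] at hzo
  obtain ⟨zR, rfl⟩ := QuotientGroup.mk'_surjective CR zq
  set z : X := (zR : X) with hz0
  have hzR : z ∈ R := zR.2
  have hzM : z ∈ normalizer (M : Set X) := hRN hzR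
  have hzp : z ^ p ∈ centralizer (M : Set X) := by
    have h1 : QuotientGroup.mk' CR (zR ^ p) = 1 := by rw [map_pow, ← hzo, pow_orderOf_eq_one]
    exact mem_subgroupOf.mp ((QuotientGroup.eq_one_iff _).mp h1)
  have hznc : z ∉ centralizer (M : Set X) := fun hc => by
    have h1 : QuotientGroup.mk' CR zR = 1 := (QuotientGroup.eq_one_iff _).mpr (mem_subgroupOf.mpr hc)
    rw [h1, orderOf_one] at hzo
    exact (Fact.out (p := p.Prime)).ne_one hzo.symm
  have hzc : ∀ r ∈ R, r⁻¹ * z * r * z⁻¹ ∈ centralizer (M : Set X) := by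
    intro r hr
    have h1 := mem_center_iff.mp hzq (QuotientGroup.mk' CR ⟨r, hr⟩)
    have h2 : QuotientGroup.mk' CR ((⟨r, hr⟩ : ↥R)⁻¹ * zR * ⟨r, hr⟩ * zR⁻¹) = 1 := by
      rw [map_mul, map_mul, map_mul, map_inv, map_inv, mul_assoc _ _ (QuotientGroup.mk' CR ⟨r, hr⟩),
        ← h1]
      group
    exact mem_subgroupOf.mp ((QuotientGroup.eq_one_iff _).mp h2)
  set V := M ⊓ centralizer ({z} : Set X) with hV
  have hconj : ∀ r ∈ R, ∀ v ∈ V, r * v * r⁻¹ ∈ V := by
    rintro r hr v ⟨hvM, hvz⟩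
    refine ⟨(mem_normalizer_iff.mp (hRN hr) v).mp hvM, fun w hw => ?_⟩
    rw [Set.mem_singleton_iff] at hw
    rw [hw]
    have h1 := hzc r hr
    set c := r⁻¹ * z * r * z⁻¹ with hc
    have e : r⁻¹ * z * r = c * z := by rw [hc]; group
    have h2 : z * v = v * z := hvz z rfl
    have h3 : v * c = c * v := h1 v hvM
    calc z * (r * v * r⁻¹) = r * ((r⁻¹ * z * r) * v) * r⁻¹ := by group
      _ = r * (c * (z * v)) * r⁻¹ := by rw [e]; group
      _ = r * (c * v * z) * r⁻¹ := by rw [h2]; group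
      _ = r * (v * (c * z)) * r⁻¹ := by rw [← h3]; group
      _ = r * v * r⁻¹ * z := by rw [← e]; group
  have hRV : R ≤ normalizer (V : Set X) := fun r hr => by
    refine mem_normalizer_iff.mpr fun v => ⟨hconj r hr v, fun hv => ?_⟩
    have := hconj r⁻¹ (inv_mem hr) _ hv
    rwa [show r⁻¹ * (r * v * r⁻¹) * r⁻¹⁻¹ = v by group] at this
  set W := V ⊔ R with hW
  have hWN : W ≤ normalizer (V : Set X) := sup_le le_normalizer hRV
  have hVn : (V.subgroupOf W).Normal := normal_subgroupOf_of_le_normalizer hWN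
  have hVW : V ≤ W := le_sup_left
  have hRW : R ≤ W := le_sup_right
  set R' := R.subgroupOf W with hR'
  have hR'p : IsPGroup p ↥R' := hRp.comap_subtype
  set NW := normalizer (R' : Set ↥W) with hNW
  have hKCz : K ≤ V := fun k hk => ⟨hKM hk, fun w hw => by
    rw [Set.mem_singleton_iff] at hw; rw [hw]; exact (hKle hk).2 z hzR⟩
  have hKW : K ≤ W := hKCz.trans hVW
  set U := V.subgroupOf W ⊓ centralizer (R' : Set ↥W) with hU
  have hUN : U ≤ NW := inf_le_right.trans (centralizer_le_normalizer _)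
  have hUn : (U.subgroupOf NW).Normal := normal_subgroupOf_of_le_normalizer fun g hg =>
    inf_normalizer_le_normalizer_inf ⟨normalizer_eq_top (H := V.subgroupOf W) ▸ mem_top g,
      normalizer_le_normalizer_centralizer R' hg⟩
  have hKU : K.subgroupOf W ≤ U := fun k hk =>
    ⟨mem_subgroupOf.mpr (hKCz (mem_subgroupOf.mp hk)), fun r hr =>
      Subtype.ext ((hKle (mem_subgroupOf.mp hk)).2 r (mem_subgroupOf.mp hr))⟩
  have hUMR : ∀ u ∈ U, (u : X) ∈ M ⊓ centralizer (R : Set X) := fun u hu =>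
    ⟨(mem_subgroupOf.mp hu.1).1, fun r hr =>
      congrArg Subtype.val (hu.2 ⟨r, hRW hr⟩ (mem_subgroupOf.mpr hr))⟩
  have hKN : ((K.subgroupOf W).subgroupOf NW).IsSubnormal := by
    let e : ↥(U.subgroupOf NW) →* ↥(M ⊓ centralizer (R : Set X)) :=
      { toFun := fun u => ⟨((u : ↥NW) : ↥W), hUMR _ (mem_subgroupOf.mp u.2)⟩
        map_one' := rfl
        map_mul' := fun _ _ => rfl }
    have h1 := (hKs.comap e).trans' hUn.isSubnormal
    rwa [show (K.subgroupOf (M ⊓ centralizer (R : Set X))).comap e =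
      ((K.subgroupOf W).subgroupOf NW).subgroupOf (U.subgroupOf NW) from rfl,
      map_subgroupOf_eq_of_le (show (K.subgroupOf W).subgroupOf NW ≤ U.subgroupOf NW from
        comap_mono hKU)] at h1
  have hKWN : K.subgroupOf W ≤ NW := hKU.trans hUN
  have hsW : SecHyp p ↥W := h.comp W (MonoidHom.id ↥W) Function.surjective_id
  have hbal := pLayer_normalizer_le hsW.schreier R' hR'p
  have hKL : K.subgroupOf W ≤ Cfsg.pLayer p ↥W := by
    refine le_trans ?_ hbal
    rw [← map_subgroupOf_eq_of_le hKWN]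
    exact map_mono (IsPComponent.le_pLayer (isPComponent_iff.mpr
      ⟨hKN, (isPLike_subgroupOf_iff hKWN).mpr ((isPLike_subgroupOf_iff hKW).mpr hK)⟩))
  -- the `p`-components of `W` lie in `V` and are quasisimple
  have hP : ∀ P : Subgroup ↥W, Cfsg.IsPComponent p P → P ≤ V.subgroupOf W ∧ Cfsg.IsComponent P := by
    intro P hP
    have hPV : P ≤ V.subgroupOf W := by
      rw [← pPrimeGen_eq_self_of_perfect (p := p) (IsPComponent.perfect hP), pPrimeGen, closure_le]
      rintro w ⟨-, hw⟩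
      obtain ⟨v, hv, r, hr, hvr⟩ := mem_sup_of_normal_left.mp
        (show w ∈ V.subgroupOf W ⊔ R' by
          rw [← subgroupOf_sup hVW hRW, subgroupOf_self]; exact mem_top w)
      obtain ⟨k, hk⟩ := hR'p ⟨r, hr⟩
      set q := QuotientGroup.mk' (V.subgroupOf W)
      have h1 : q w ^ p ^ k = 1 := by
        rw [← hvr, map_mul, show q v = 1 from (QuotientGroup.eq_one_iff _).mpr hv, one_mul,
          ← map_pow, show r ^ p ^ k = 1 from congrArg Subtype.val hk, map_one]
      exact (QuotientGroup.eq_one_iff _).mp (orderOf_eq_one_iff.mp (Nat.eq_one_of_dvd_coprimes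
        (hw.pow_right k) (orderOf_map_dvd q w) (orderOf_dvd_of_pow_eq_one h1)))
    obtain ⟨hPs, hPp⟩ := isPComponent_iff.mp hP
    refine ⟨hPV, hPs, ?_⟩
    have hPVX : P.map W.subtype ≤ V := by
      rintro _ ⟨u, hu, rfl⟩; exact mem_subgroupOf.mp (hPV hu)
    rw [← isQuasisimple_map_iff (subtype_injective W)]
    refine isQuasisimple_base h hM hzM hzp hznc hPVX ?_
      ((isPLike_map_iff (subtype_injective W) P).mpr hPp)
    have h2 := hPs.comap (inclusion hVW)
    convert h2 using 1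
    ext u
    constructor
    · rintro ⟨u', hu', he⟩
      show inclusion hVW u ∈ P
      rwa [show inclusion hVW u = u' from Subtype.ext he.symm]
    · intro hu
      exact ⟨_, hu, rfl⟩
  set M' := (Cfsg.pLayer p ↥W).map W.subtype with hM'
  have hM'V : M' ≤ V := map_le_iff_le_comap.mpr (sSup_le fun P hP' => (hP P hP').1)
  have hM'top : Cfsg.layer ↥M' = ⊤ := by
    have h1 : Cfsg.layer ↥(Cfsg.pLayer p ↥W) = ⊤ :=
      layer_sSup_components fun P hP' => (hP P hP').2
    rw [← layer_map_equiv ((Cfsg.pLayer p ↥W).equivMapOfInjective W.subtype (subtype_injective W)),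
      h1]
    exact map_top_of_surjective _ (MulEquiv.surjective _)
  have hRM' : R ≤ normalizer (M' : Set X) := fun r hr =>
    le_normalizer_map W.subtype ⟨⟨r, hRW hr⟩,
      normalizer_eq_top (H := Cfsg.pLayer p ↥W) ▸ mem_top _, rfl⟩
  have hzM' : z ∈ centralizer (M' : Set X) := fun v hv =>
    ((hM'V hv).2 z rfl).symm
  have hlt : R ⊓ centralizer (M : Set X) < R ⊓ centralizer (M' : Set X) :=
    lt_of_le_not_ge (inf_le_inf_left R (centralizer_le (SetLike.coe_subset_coe.mpr
      (hM'V.trans inf_le_left)))) fun hle' => hznc (hle' ⟨hzR, hzM'⟩).2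
  have hcard : Nat.card ↥(R ⊓ centralizer (M : Set X)) < Nat.card ↥(R ⊓ centralizer (M' : Set X)) :=
    lt_of_le_of_ne (Subgroup.card_le_of_le hlt.le) fun e =>
      hlt.ne (eq_of_le_of_card_ge hlt.le e.ge)
  have hKM' : K ≤ M' := by
    rw [hM', ← map_subgroupOf_eq_of_le hKW]
    exact map_mono hKL
  have hsub : M' ⊓ centralizer (R : Set X) ≤ M ⊓ centralizer (R : Set X) :=
    inf_le_inf_right _ (hM'V.trans inf_le_left)
  refine ih _ ?_ M' R hM'top hRp hRM' le_rfl K (le_inf hKM' (hKle.trans inf_le_right))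
    (hKs.comap (inclusion hsub)) hK
  have h5 : Nat.card ↥(R ⊓ centralizer (M' : Set X)) ≤ Nat.card R := Subgroup.card_le_of_le inf_le_left
  omega

/-- Balance for the non-quasisimple part of the `p`-layer. -/
theorem nonQuasisimplePLayer_normalizer_le (h : SecHyp p X) (R : Subgroup X) (hR : IsPGroup p ↥R) :
    (Cfsg.nonQuasisimplePLayer p ↥(normalizer (R : Set X))).map (normalizer (R : Set X)).subtype ≤
      Cfsg.nonQuasisimplePLayer p X := by
  set N := normalizer (R : Set X) with hN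
  rw [map_le_iff_le_comap]
  refine iSup_le fun ⟨K, hKc, hKq⟩ => map_le_iff_le_comap.mp ?_
  set K0 := K.map N.subtype with hK0
  have hbal := pLayer_normalizer_le h.schreier R hR
  have hK0L : K0 ≤ Cfsg.pLayer p X := (map_mono (IsPComponent.le_pLayer hKc)).trans hbal
  set S : Set (Subgroup X) := {P | Cfsg.IsPComponent p P ∧ Cfsg.IsQuasisimple ↥P}
  set A := sSup S with hA
  set B := Cfsg.nonQuasisimplePLayer p X with hB
  have hLAB : Cfsg.pLayer p X ≤ A ⊔ B := sSup_le fun P hP => by
    by_cases hq : Cfsg.IsQuasisimple ↥P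
    · exact (le_sSup (show P ∈ S from ⟨hP, hq⟩)).trans le_sup_left
    · exact (le_iSup (fun Q : {Q : Subgroup X // Cfsg.IsPComponent p Q ∧ ¬ Cfsg.IsQuasisimple ↥Q} =>
        (Q : Subgroup X)) ⟨P, hP, hq⟩).trans le_sup_right
  have hAB : A ≤ centralizer (B : Set X) := by
    refine sSup_le fun P hP => ?_
    rw [le_centralizer_iff]
    refine iSup_le fun ⟨Q, hQ, hQq⟩ => le_centralizer_iff.mp ?_
    rcases IsComponent.le_or_commutes (L := P) ⟨hP.1.1, hP.2⟩ hQ.1 with h1 | h1
    · exfalso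
      refine hQq ?_
      have h2 := IsComponent.eq_of_le hP.1.2.1 hQ.2.1 (map_mono h1)
      rw [IsPComponent.eq_pComponentOf hQ, ← h2, ← IsPComponent.eq_pComponentOf hP.1]
      exact hP.2
    · exact commutator_eq_bot_iff_le_centralizer.mp h1
  have hinv : ∀ (g : X) (P : Subgroup X), Cfsg.IsPComponent p P →
      Cfsg.IsPComponent p (conjOf P g) ∧ (Cfsg.IsQuasisimple ↥(conjOf P g) ↔ Cfsg.IsQuasisimple ↥P) := by
    intro g P hP
    obtain ⟨h1, h2⟩ := isPComponent_iff.mp hP
    exact ⟨isPComponent_iff.mpr ⟨h1.map (f := (MulAut.conj g).toMonoidHom) (MulAut.conj g).surjective,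
      (isPLike_map_iff (MulAut.conj g).injective P).mpr h2⟩,
      isQuasisimple_map_iff (MulAut.conj g).injective P⟩
  have hAn : A.Normal := ⟨fun a ha g => map_conj_sSup_eq (S := S) (x := g)
    (fun P hP => ⟨(hinv g P hP.1).1, (hinv g P hP.1).2.mpr hP.2⟩) a ha⟩
  have hBe : B = sSup {P | Cfsg.IsPComponent p P ∧ ¬ Cfsg.IsQuasisimple ↥P} := by
    rw [hB, Cfsg.nonQuasisimplePLayer, sSup_eq_iSup']
    rfl
  have hBn : B.Normal := by
    rw [hBe]
    exact ⟨fun a ha g => map_conj_sSup_eq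
      (S := {P | Cfsg.IsPComponent p P ∧ ¬ Cfsg.IsQuasisimple ↥P}) (x := g)
      (fun P hP => ⟨(hinv g P hP.1).1, fun e => hP.2 ((hinv g P hP.1).2.mp e)⟩) a ha⟩
  have hK0R : K0 ≤ centralizer (R : Set X) := by
    have h1 : K ≤ centralizer (R.subgroupOf N : Set ↥N) :=
      (map_le_iff_le_comap.mp (IsComponent.le_layer hKc.2.1)).trans
        (preimage_layer_le_centralizer (R.subgroupOf N)
          (hR.of_equiv (subgroupOfEquivOfLe le_normalizer).symm))
    rintro _ ⟨k, hk, rfl⟩ r hr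
    exact congrArg Subtype.val (h1 hk ⟨r, le_normalizer hr⟩ (mem_subgroupOf.mpr hr))
  have hK0of : K0.subgroupOf N = K := comap_map_eq_self_of_injective (subtype_injective N) K
  have hKp : Cfsg.IsPComponentOf p K0 N := ⟨map_subtype_le _, by rw [hK0of]; exact hKc⟩
  rcases IsPComponent.le_fixed_or (A := A) (B := B) (R := R) hKp inferInstance inferInstance hAB
      (normalizer_eq_top (H := A) ▸ le_top) (normalizer_eq_top (H := B) ▸ le_top)
      (hK0L.trans hLAB) hK0R (centralizer_le_normalizer _) with hle | hle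
  · exfalso
    refine hKq ((isQuasisimple_map_iff (subtype_injective N) K).mp
      (isQuasisimple_of_semisimple h _ A R (layer_sSup_components fun P hP => ⟨hP.1.1, hP.2⟩) hR
        (normalizer_eq_top (H := A) ▸ le_top) le_rfl K0 (le_inf hle hK0R) ?_
        (isPComponentOf_iff.mp hKp).2.2))
    exact (isPComponentOf_iff.mp hKp).2.1.comap
      (inclusion ((inf_le_right : A ⊓ centralizer (R : Set X) ≤ _).trans (centralizer_le_normalizer _)))
  · exact hle

end Cfsg.Agent.Components.BBalance
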