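/-
A perfect group generated by 2-elements which centralizes a Sylow 2-subgroup of a group `K` with
`O(K) = 1` centralizes `K`.
Main results: `exists_max_two`, `exists_conj_le_max`, `isMax_inf_normal`, `fixed_of_centric`,
`centralizes_of_centralizes_sylow`.
-/
import Cfsg.Agent.Lib.Components.BBalance
import Cfsg.Agent.Lib.Signalizer.Transitivity
import Cfsg.Agent.Lib.ZStar.Apply
import Cfsg.Agent.Lib.ZStar.Unique

set_option autoImplicit false

namespace Cfsg.Agent.Components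

open Subgroup
open scoped commutatorElement Pointwise

section MaxTwo

variable {G : Type*} [Group G] [Finite G] {p : ℕ} [Fact p.Prime]

/-- `P` is a maximal `p`-subgroup of the subgroup `H`. -/
def IsMaxP (p : ℕ) (P H : Subgroup G) : Prop :=
  P ≤ H ∧ IsPGroup p ↥P ∧ ∀ R : Subgroup G, R ≤ H → IsPGroup p ↥R → P ≤ R → R = P

omit [Fact p.Prime] in
theorem exists_max_two {R H : Subgroup G} (hRH : R ≤ H) (hR : IsPGroup p ↥R) :
    ∃ P, IsMaxP p P H ∧ R ≤ P := by
  obtain ⟨P, hP⟩ := (hR.of_equiv (subgroupOfEquivOfLe hRH).symm).exists_le_sylow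
  refine ⟨(P : Subgroup ↥H).map H.subtype, ⟨map_subtype_le _, P.isPGroup'.map _, fun Q hQH hQ hle => ?_⟩, ?_⟩
  · have h1 : Q.subgroupOf H = P := P.is_maximal' (hQ.of_equiv (subgroupOfEquivOfLe hQH).symm) (by
      intro x hx
      exact mem_subgroupOf.2 (hle ⟨x, hx, rfl⟩))
    rw [← map_subgroupOf_eq_of_le hQH, h1]
  · intro x hx
    exact ⟨⟨x, hRH hx⟩, hP (mem_subgroupOf.2 hx), rfl⟩

theorem exists_conj_le_max {P H R : Subgroup G} (hP : IsMaxP p P H) (hRH : R ≤ H)
    (hR : IsPGroup p ↥R) : ∃ h ∈ H, R ≤ conjOf P h := by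
  obtain ⟨S, hS⟩ := (hP.2.1.of_equiv (subgroupOfEquivOfLe hP.1).symm).exists_le_sylow
  have hSP : (S : Subgroup ↥H).map H.subtype = P := hP.2.2 _ (map_subtype_le _) (S.isPGroup'.map _)
    fun x hx => ⟨⟨x, hP.1 hx⟩, hS (mem_subgroupOf.2 hx), rfl⟩
  obtain ⟨T, hT⟩ := (hR.of_equiv (subgroupOfEquivOfLe hRH).symm).exists_le_sylow
  obtain ⟨h, hh⟩ := MulAction.exists_smul_eq ↥H S T
  refine ⟨h, h.2, fun x hx => ?_⟩
  have h1 : (⟨x, hRH hx⟩ : ↥H) ∈ (T : Subgroup ↥H) := hT (mem_subgroupOf.2 hx)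
  rw [← hh, Sylow.coe_subgroup_smul, mem_pointwise_smul_iff_inv_smul_mem] at h1
  refine ⟨(h : G)⁻¹ * x * h, hSP ▸ ⟨_, h1, ?_⟩, ?_⟩
  · simp [MulAut.smul_def]
  · simp [mul_assoc]

theorem mem_conjOf {J : Subgroup G} {a x : G} : x ∈ conjOf J a ↔ a⁻¹ * x * a ∈ J := by
  constructor
  · rintro ⟨v, hv, rfl⟩
    simpa [mul_assoc] using hv
  · intro h
    exact ⟨_, h, by simp [mul_assoc]⟩

omit [Finite G] [Fact p.Prime] in
theorem card_conjOf (J : Subgroup G) (a : G) : Nat.card (conjOf J a) = Nat.card J :=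
  (Nat.card_congr (J.equivMapOfInjective _ (MulAut.conj a).injective).toEquiv).symm

theorem isMax_inf_normal {P H C : Subgroup G} (hP : IsMaxP p P H) (hCH : C ≤ H)
    (hn : H ≤ normalizer (C : Set G)) : IsMaxP p (P ⊓ C) C := by
  refine ⟨inf_le_right, hP.2.1.to_le inf_le_left, fun R hRC hR hle => ?_⟩
  obtain ⟨h, hh, hRh⟩ := exists_conj_le_max hP (hRC.trans hCH) hR
  refine le_antisymm ?_ hle
  have h1 : conjOf R h⁻¹ ≤ P ⊓ C := by
    intro x hx
    have hx' : h * x * h⁻¹ ∈ R := by simpa using mem_conjOf.1 hx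
    refine ⟨?_, ?_⟩
    · have := mem_conjOf.1 (hRh hx')
      simpa [mul_assoc] using this
    · exact (mem_normalizer_iff.1 (hn hh) x).2 (hRC hx')
  have hcard : Nat.card R ≤ Nat.card ↥(P ⊓ C) := card_conjOf R h⁻¹ ▸ Subgroup.card_le_of_le h1
  exact (Subgroup.eq_of_le_of_card_ge hle hcard).ge

/-- An element of `p`-power order generates a `p`-group. -/
theorem isPGroup_zpowers {x : G} {k : ℕ} (hx : x ^ p ^ k = 1) : IsPGroup p ↥(zpowers x) := by
  rintro ⟨y, hy⟩
  obtain ⟨i, rfl⟩ := mem_zpowers_iff.1 hy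
  refine ⟨k, Subtype.ext ?_⟩
  rw [Subgroup.coe_pow, Subgroup.coe_one, ← zpow_natCast, ← zpow_mul, mul_comm, zpow_mul,
    zpow_natCast, hx, one_zpow]

theorem isPGroup_sup_of_le_normalizer {S T : Subgroup G} (hS : IsPGroup p ↥S) (hT : IsPGroup p ↥T)
    (h : T ≤ normalizer (S : Set G)) : IsPGroup p ↥(S ⊔ T) :=
  IsPGroup.to_sup_of_normal_left' hS hT h

end MaxTwo

universe u

variable {A : Type u} [Group A] [Finite A]

/-- A centric step: the normalizer of `D` fixes `u`. -/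
theorem fixed_of_centric {K M X P D : Subgroup A} {u : A} (hMK : M ≤ normalizer (K : Set A))
    (hperf : ⁅M, M⁆ = M) (hu : u ∈ M) (hX : X ≤ normalizer (K : Set A))
    (hXgen : X ≤ K ⊔ zpowers u) (hKX : K ≤ X) (hDp : IsPGroup 2 ↥D) (huD : u ∈ D) (hDX : D ≤ X)
    (hDM : M ≤ centralizer ((D ⊓ K : Subgroup A) : Set A))
    (hP : IsMaxP 2 P (X ⊓ normalizer (D : Set A))) (hPu : P ≤ centralizer ({u} : Set A))
    (hcent : P ⊓ centralizer (D : Set A) ≤ D) :
    ∀ n ∈ X ⊓ normalizer (D : Set A), n * u * n⁻¹ = u := by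
  classical
  haveI : Fact (Nat.Prime 2) := ⟨Nat.prime_two⟩
  set N := X ⊓ normalizer (D : Set A) with hN
  set DK := D ⊓ K with hDK
  set C := K ⊓ centralizer (DK : Set A) with hC
  have hnorm_centralizer : ∀ (H : Subgroup A) (g : A), g ∈ normalizer (H : Set A) →
      ∀ x ∈ centralizer (H : Set A), g * x * g⁻¹ ∈ centralizer (H : Set A) := by
    intro H g hg x hx
    refine mem_centralizer_iff.2 fun y hy => ?_
    have h1 := mem_centralizer_iff.1 hx _ ((mem_normalizer_iff''.1 hg y).1 hy)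
    calc y * (g * x * g⁻¹) = g * (g⁻¹ * y * g * x) * g⁻¹ := by group
      _ = g * (x * (g⁻¹ * y * g)) * g⁻¹ := by rw [h1]
      _ = g * x * g⁻¹ * y := by group
  have hXDK : ∀ g ∈ N, g ∈ normalizer (DK : Set A) := fun g hg =>
    inf_normalizer_le_normalizer_inf ⟨hg.2, hX hg.1⟩
  have huX : u ∈ X := hDX huD
  have huK : zpowers u ≤ normalizer (K : Set A) := zpowers_le.2 (hMK hu)
  -- (a) the 2-elements of `C_X(D)` lie in `D`
  have ha : ∀ c ∈ X ⊓ centralizer (D : Set A), ∀ k : ℕ, c ^ 2 ^ k = 1 → c ∈ D := by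
    intro c hc k hk
    have hsub : X ⊓ centralizer (D : Set A) ≤ N :=
      inf_le_inf_left X (centralizer_le_normalizer (D : Set A))
    have hmax := isMax_inf_normal hP hsub (fun g hg => Signalizer.mem_normalizer_of_conj_mem fun x hx =>
      ⟨X.mul_mem (X.mul_mem hg.1 hx.1) (X.inv_mem hg.1), hnorm_centralizer D g hg.2 x hx.2⟩)
    obtain ⟨h, hh, hle⟩ := exists_conj_le_max hmax (zpowers_le.2 hc) (isPGroup_zpowers hk)
    have h1 := mem_conjOf.1 (hle (mem_zpowers c))
    have h2 : h⁻¹ * c * h ∈ D := hcent ⟨h1.1, h1.2.2⟩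
    have h3 := (mem_normalizer_iff.1 (hsub hh).2 _).1 h2
    simpa [mul_assoc] using h3
  -- (b) the 2-elements of `C ∩ N` lie in `D`
  have hz : ∀ c ∈ C ⊓ N, c * u * c⁻¹ * u⁻¹ ∈ DK ⊓ centralizer (DK : Set A) := by
    intro c hc
    refine ⟨⟨D.mul_mem ((mem_normalizer_iff.1 hc.2.2 u).1 huD) (D.inv_mem huD), ?_⟩, ?_⟩
    · have h1 : u * c⁻¹ * u⁻¹ ∈ K :=
        (mem_normalizer_iff.1 (hMK hu) _).1 (K.inv_mem hc.1.1)
      have := K.mul_mem hc.1.1 h1
      simpa [mul_assoc] using this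
    · have huc : u ∈ centralizer (DK : Set A) := hDM hu
      show c * u * c⁻¹ * u⁻¹ ∈ centralizer (DK : Set A)
      exact mul_mem (mul_mem (mul_mem hc.1.2 huc) (inv_mem hc.1.2)) (inv_mem huc)
  have hb : ∀ c ∈ C ⊓ N, ∀ k : ℕ, c ^ 2 ^ k = 1 → c ∈ D := by
    have hδmul : ∀ a ∈ C ⊓ N, ∀ b ∈ C ⊓ N,
        a * b * u * (a * b)⁻¹ * u⁻¹ = (a * u * a⁻¹ * u⁻¹) * (b * u * b⁻¹ * u⁻¹) := by
      intro a ha b hb
      have h1 := mem_centralizer_iff.1 ha.1.2 _ (hz b hb).1
      have h2 := mem_centralizer_iff.1 (hz b hb).2 _ (hz a ha).1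
      calc a * b * u * (a * b)⁻¹ * u⁻¹
          = a * (b * u * b⁻¹ * u⁻¹) * a⁻¹ * (a * u * a⁻¹ * u⁻¹) := by group
        _ = (b * u * b⁻¹ * u⁻¹) * a * a⁻¹ * (a * u * a⁻¹ * u⁻¹) := by rw [← h1]
        _ = (a * u * a⁻¹ * u⁻¹) * (b * u * b⁻¹ * u⁻¹) := by rw [h2]; group
    let δ : ↥(C ⊓ N) →* A :=
      { toFun := fun c => (c : A) * u * (c : A)⁻¹ * u⁻¹
        map_one' := by simp
        map_mul' := fun a b => hδmul a a.2 b b.2 }
    have hmax : IsMaxP 2 (P ⊓ (C ⊓ N)) (C ⊓ N) :=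
      isMax_inf_normal hP inf_le_right fun g hg => Signalizer.mem_normalizer_of_conj_mem fun x hx =>
        ⟨⟨(mem_normalizer_iff.1 (hX hg.1) x).1 hx.1.1, hnorm_centralizer DK g (hXDK g hg) x hx.1.2⟩,
          N.mul_mem (N.mul_mem hg hx.2) (N.inv_mem hg)⟩
    intro c hc k hk
    obtain ⟨h, hh, hle⟩ := exists_conj_le_max hmax (zpowers_le.2 hc) (isPGroup_zpowers hk)
    have h1 := mem_conjOf.1 (hle (mem_zpowers c))
    have h2 : δ ⟨_, h1.2⟩ = 1 := by
      show h⁻¹ * c * h * u * (h⁻¹ * c * h)⁻¹ * u⁻¹ = 1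
      rw [mul_inv_eq_one, mul_inv_eq_iff_eq_mul]
      exact mem_centralizer_singleton_iff.1 (hPu h1.1)
    have h3 : δ ⟨c, hc⟩ = 1 := by
      have he : (⟨c, hc⟩ : ↥(C ⊓ N)) = ⟨h, hh⟩ * ⟨_, h1.2⟩ * ⟨h, hh⟩⁻¹ :=
        Subtype.ext (by simp [mul_assoc])
      rw [he, map_mul, map_mul, h2, mul_one, map_inv, mul_inv_cancel]
    have hcu : c * u = u * c := by
      have h4 : c * u * c⁻¹ * u⁻¹ = 1 := h3
      rwa [mul_inv_eq_one, mul_inv_eq_iff_eq_mul] at h4
    refine ha c ⟨hKX hc.1.1, ?_⟩ k hk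
    refine mem_centralizer_iff.2 fun d hd => ?_
    obtain ⟨k', hk', w, hw, rfl⟩ := Set.mem_mul.1
      (by rw [← Subgroup.coe_mul_of_right_le_normalizer_left K (zpowers u) huK]; exact hXgen (hDX hd) :
        d ∈ (K : Set A) * (zpowers u : Set A))
    obtain ⟨i, rfl⟩ := mem_zpowers_iff.1 hw
    have hk'D : k' ∈ DK := ⟨by simpa using D.mul_mem hd (D.inv_mem (D.zpow_mem huD i)), hk'⟩
    exact ((show Commute k' c from mem_centralizer_iff.1 hc.1.2 k' hk'D).mul_left
      ((show Commute u c from hcu.symm).zpow_left i)).eq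
  -- (c) the 2-elements of `C` lie in `DK`
  have hcc : ∀ c ∈ C, ∀ k : ℕ, c ^ 2 ^ k = 1 → c ∈ DK := by
    have hDC : D ≤ normalizer (C : Set A) := by
      intro d hd
      have hdN : d ∈ N := ⟨hDX hd, le_normalizer hd⟩
      exact Signalizer.mem_normalizer_of_conj_mem fun x hx => ⟨(mem_normalizer_iff.1 (hX hdN.1) x).1 hx.1,
        hnorm_centralizer DK d (hXDK d hdN) x hx.2⟩
    obtain ⟨Q, hQ, hDQ⟩ := exists_max_two (le_sup_right : D ≤ C ⊔ D) hDp
    have hQD : D = Q := by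
      by_contra hne
      obtain ⟨w, hwQ, hwN, hwD⟩ := Signalizer.exists_mem_normalizer_not_mem hQ.2.1 hDQ hne
      obtain ⟨c, hc, d, hd, rfl⟩ := Set.mem_mul.1
        (by rw [← Subgroup.coe_mul_of_right_le_normalizer_left C D hDC]; exact hQ.1 hwQ :
          w ∈ (C : Set A) * (D : Set A))
      have hcQ : c ∈ Q := by simpa using Q.mul_mem hwQ (Q.inv_mem (hDQ hd))
      have hcN : c ∈ N := ⟨hKX hc.1,
        by simpa using mul_mem hwN (inv_mem (le_normalizer hd : d ∈ normalizer (D : Set A)))⟩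
      obtain ⟨j, hj⟩ := hQ.2.1 ⟨c, hcQ⟩
      exact hwD (D.mul_mem (hb c ⟨hc, hcN⟩ j (congrArg Subtype.val hj)) hd)
    intro c hc k hk
    obtain ⟨h, hh, hle⟩ := exists_conj_le_max hQ
      ((zpowers_le.2 hc).trans le_sup_left) (isPGroup_zpowers hk)
    rw [← hQD] at hle
    obtain ⟨a, ha', d, hd, rfl⟩ := Set.mem_mul.1
      (by rw [← Subgroup.coe_mul_of_right_le_normalizer_left C D hDC]; exact hh :
        h ∈ (C : Set A) * (D : Set A))
    have h1 := mem_conjOf.1 (hle (mem_zpowers c))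
    have h2 : a⁻¹ * c * a ∈ D := by
      have := (mem_normalizer_iff.1 (le_normalizer hd : d ∈ normalizer (D : Set A)) _).1 h1
      simpa [mul_assoc] using this
    have h3 : a⁻¹ * c * a ∈ DK := ⟨h2, K.mul_mem (K.mul_mem (K.inv_mem ha'.1) hc.1) ha'.1⟩
    have h4 := mem_centralizer_iff.1 ha'.2 _ h3
    have h5 : c = a⁻¹ * c * a := by
      calc c = a * (a⁻¹ * c * a) * a⁻¹ := by group
        _ = (a⁻¹ * c * a) * a * a⁻¹ := by rw [← h4]
        _ = a⁻¹ * c * a := by group
    exact h5.symm ▸ h3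
  -- the transfer into the centre of `C`
  have hMDK : ∀ m ∈ M, m ∈ normalizer (C : Set A) := by
    intro m hm
    refine Signalizer.mem_normalizer_of_conj_mem fun x hx => ⟨(mem_normalizer_iff.1 (hMK hm) x).1 hx.1, ?_⟩
    show m * x * m⁻¹ ∈ centralizer (DK : Set A)
    exact mul_mem (mul_mem (hDM hm) hx.2) (inv_mem (hDM hm))
  have hcen : ∀ c : ↥C, ∀ k : ℕ, c ^ 2 ^ k = 1 → c ∈ center ↥C := fun c k hk =>
    mem_center_iff.2 fun x => Subtype.ext
      (mem_centralizer_iff.1 x.2.2 c (hcc c c.2 k (congrArg Subtype.val hk))).symm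
  have hidx : Odd (center ↥C).index := by
    rw [Nat.odd_iff]
    by_contra hne
    obtain ⟨q, hq⟩ := exists_prime_orderOf_dvd_card' (G := ↥C ⧸ center ↥C) 2
      (Nat.dvd_of_mod_eq_zero (by rw [← Subgroup.index_eq_card]; omega))
    obtain ⟨c, rfl⟩ := QuotientGroup.mk_surjective q
    obtain ⟨a, m, hm, hcm⟩ := Nat.exists_eq_two_pow_mul_odd (orderOf_pos c).ne'
    have h1 : c ^ m ∈ center ↥C := hcen _ a (by rw [← pow_mul, mul_comm, ← hcm, pow_orderOf_eq_one])
    have h2 : ((c : ↥C ⧸ center ↥C)) ^ m = 1 := by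
      rw [← QuotientGroup.mk_pow]; exact (QuotientGroup.eq_one_iff _).2 h1
    have h3 := orderOf_dvd_of_pow_eq_one h2
    rw [hq] at h3
    obtain ⟨j, rfl⟩ := hm
    omega
  obtain ⟨v, o, ho, hCcard⟩ := Nat.exists_eq_two_pow_mul_odd (Nat.card_pos (α := ↥C)).ne'
  set r := (center ↥C).index * o with hr
  have hfmul : ∀ a b : ↥C, (a * b) ^ r = a ^ r * b ^ r := by
    intro a b
    simp only [hr, pow_mul]
    have h1 := congrArg Subtype.val (map_mul (MonoidHom.transferCenterPow ↥C) a b)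
    simp only [MonoidHom.transferCenterPow_apply, Subgroup.coe_mul] at h1
    rw [h1]
    exact Commute.mul_pow (mem_center_iff.1 ((center ↥C).pow_index_mem b) _) o
  have hfix : ∀ c : ↥C, ((c : A) ^ r) ∈ DK := by
    intro c
    refine hcc _ (C.pow_mem c.2 r) v ?_
    have h1 : ((c ^ r) ^ 2 ^ v : ↥C) = 1 := by
      rw [← pow_mul, hr, mul_assoc, mul_comm o, ← hCcard, mul_comm, pow_mul, pow_card_eq_one',
        one_pow]
    exact_mod_cast congrArg Subtype.val h1
  intro n hn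
  obtain ⟨k, hk, w, hw, rfl⟩ := Set.mem_mul.1
    (by rw [← Subgroup.coe_mul_of_right_le_normalizer_left K (zpowers u) huK]; exact hXgen hn.1 :
      n ∈ (K : Set A) * (zpowers u : Set A))
  obtain ⟨i, rfl⟩ := mem_zpowers_iff.1 hw
  have hkN : k ∈ N := by
    have := N.mul_mem hn (N.inv_mem (N.zpow_mem (show u ∈ N from ⟨huX, le_normalizer huD⟩) i))
    simpa using this
  have hd : ∀ m ∈ M, m * k * m⁻¹ * k⁻¹ ∈ C := by
    intro m hm
    refine ⟨K.mul_mem ((mem_normalizer_iff.1 (hMK hm) k).1 hk) (K.inv_mem hk), ?_⟩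
    have h1 := hnorm_centralizer DK k (hXDK k hkN) _ (inv_mem (hDM hm))
    have := mul_mem (hDM hm) h1
    simpa [mul_assoc] using this
  let ψ : ↥M →* ↥(center ↥C) :=
    { toFun := fun m => ⟨(⟨_, hd m m.2⟩ : ↥C) ^ r, by
        rw [hr, pow_mul]; exact pow_mem ((center ↥C).pow_index_mem _) o⟩
      map_one' := Subtype.ext (Subtype.ext (by simp))
      map_mul' := fun a b => by
        apply Subtype.ext
        show (⟨_, hd (a * b : ↥M) (a * b : ↥M).2⟩ : ↥C) ^ r =
          (⟨_, hd a a.2⟩ : ↥C) ^ r * (⟨_, hd b b.2⟩ : ↥C) ^ r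
        let c1 : ↥C := ⟨(a : A) * ((b : A) * k * (b : A)⁻¹ * k⁻¹) * (a : A)⁻¹,
          (mem_normalizer_iff.1 (hMDK a a.2) _).1 (hd b b.2)⟩
        have he : (⟨_, hd (a * b : ↥M) (a * b : ↥M).2⟩ : ↥C) = c1 * ⟨_, hd a a.2⟩ :=
          Subtype.ext (by simp [c1, mul_assoc])
        have h1 : c1 ^ r = (⟨_, hd b b.2⟩ : ↥C) ^ r := by
          apply Subtype.ext
          simp only [c1, SubmonoidClass.coe_pow, conj_pow]
          have h2 := mem_centralizer_iff.1 (hDM a.2) _ (hfix ⟨_, hd b b.2⟩)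
          rw [← h2, mul_inv_cancel_right]
        rw [he, hfmul, h1]
        exact mem_center_iff.1 (show _ ∈ center ↥C by
          rw [hr, pow_mul]; exact pow_mem ((center ↥C).pow_index_mem _) o) _ }
  haveI : Group.IsPerfect ↥M := Subgroup.isPerfect_iff.mpr hperf
  have hψ : ψ ⟨u, hu⟩ = 1 := by
    haveI : Group.IsPerfect ↥ψ.range := Group.IsPerfect.range ψ
    by_contra hne
    haveI : Nontrivial ↥ψ.range := (nontrivial_iff_ne_bot _).mpr fun h =>
      hne (mem_bot.1 (h ▸ ⟨_, rfl⟩))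
    exact Group.IsPerfect.not_isMulCommutative ↥ψ.range inferInstance
  have he1 : (u * k * u⁻¹ * k⁻¹) ^ r = 1 := by
    have := congrArg (fun x : ↥(center ↥C) => ((x : ↥C) : A)) hψ
    exact this
  have he2 : u * k * u⁻¹ * k⁻¹ ∈ D := by
    have h1 : k * u⁻¹ * k⁻¹ ∈ D := (mem_normalizer_iff.1 hkN.2 _).1 (D.inv_mem huD)
    have := D.mul_mem huD h1
    simpa [mul_assoc] using this
  obtain ⟨j, hj⟩ := hDp ⟨_, he2⟩
  have hrodd : Odd r := hidx.mul ho
  have he : u * k * u⁻¹ * k⁻¹ = 1 := by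
    have h3 := pow_gcd_eq_one.mpr ⟨he1, congrArg Subtype.val hj⟩
    rwa [(hrodd.coprime_two_right.pow_right j).gcd_eq_one, pow_one] at h3
  have hku : Commute k u := by
    rw [mul_inv_eq_one, mul_inv_eq_iff_eq_mul] at he
    exact he.symm
  have h : Commute (k * u ^ i) u := hku.mul_left ((Commute.refl u).zpow_left i)
  rw [h.eq, mul_inv_cancel_right]

/-- A perfect group generated by `2`-elements centralizing a Sylow `2`-subgroup of a group with
trivial core centralizes that group. -/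
theorem centralizes_of_centralizes_sylow (K M S : Subgroup A) (hMK : M ≤ normalizer (K : Set A))
    (hO : Cfsg.pPrimeCore 2 ↥K = ⊥) (hS : IsMaxP 2 S K) (hperf : ⁅M, M⁆ = M) (hgen : pGen 2 M = M)
    (hMS : M ≤ centralizer (S : Set A)) : M ≤ centralizer (K : Set A) := by
  classical
  haveI : Fact (Nat.Prime 2) := ⟨Nat.prime_two⟩
  rw [← hgen, pGen, closure_le]
  rintro u ⟨hu, j, hj⟩
  set X := K ⊔ zpowers u with hXdef
  have huN : zpowers u ≤ normalizer (K : Set A) := zpowers_le.2 (hMK hu)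
  have hX : X ≤ normalizer (K : Set A) := sup_le le_normalizer huN
  have huX : u ∈ X := mem_sup_right (mem_zpowers u)
  set S' := S ⊔ zpowers u with hS'def
  have hS'X : S' ≤ X := sup_le_sup hS.1 le_rfl
  have huS' : u ∈ S' := mem_sup_right (mem_zpowers u)
  have hS'c : S' ≤ centralizer ({u} : Set A) := sup_le
    (fun s hs => mem_centralizer_singleton_iff.2 (mem_centralizer_iff.1 (hMS hu) s hs))
    (zpowers_le.2 (mem_centralizer_singleton_iff.2 rfl))
  have hS' : IsMaxP 2 S' X := by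
    refine ⟨hS'X, isPGroup_sup_of_le_normalizer hS.2.1 (isPGroup_zpowers hj) ?_,
      fun R hRX hR hle => le_antisymm (fun x hx => ?_) hle⟩
    · exact zpowers_le.2 (centralizer_le_normalizer (S : Set A) (hMS hu))
    · obtain ⟨k, hk, w, hw, rfl⟩ := Set.mem_mul.1
        (by rw [← Subgroup.coe_mul_of_right_le_normalizer_left K (zpowers u) huN]; exact hRX hx :
          x ∈ (K : Set A) * (zpowers u : Set A))
      have hwS' : w ∈ S' := mem_sup_right hw
      have hkR : k ∈ R := by simpa using R.mul_mem hx (R.inv_mem (hle hwS'))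
      have h1 : R ⊓ K = S := hS.2.2 _ inf_le_right (hR.to_le inf_le_left)
        (le_inf (le_sup_left.trans hle) hS.1)
      exact S'.mul_mem (mem_sup_left (h1 ▸ ⟨hkR, hk⟩ : k ∈ S)) hwS'
  have key : ∀ n : ℕ, ∀ x ∈ X, u ∈ conjOf S' x → Nat.card S' ≤ Nat.card ↥(S' ⊓ conjOf S' x) + n →
      x * u * x⁻¹ = u := by
    intro n
    induction n using Nat.strong_induction_on with
    | _ n ih =>
    intro x hx hux hn
    set D := S' ⊓ conjOf S' x with hDdef
    have hDp : IsPGroup 2 ↥D := hS'.2.1.to_le inf_le_left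
    have huD : u ∈ D := ⟨huS', hux⟩
    have hDX : D ≤ X := inf_le_left.trans hS'X
    have hconjX : ∀ y ∈ X, conjOf S' y ≤ X := fun y hy => by
      rintro _ ⟨s, hs, rfl⟩
      exact X.mul_mem (X.mul_mem hy (hS'X hs)) (X.inv_mem hy)
    -- the induction hypothesis, seen from a conjugate fixing `u`
    have hIH : ∀ y ∈ X, y * u * y⁻¹ = u → ∀ z ∈ X, u ∈ conjOf S' z →
        Nat.card D < Nat.card ↥(conjOf S' y ⊓ conjOf S' z) → z * u * z⁻¹ = u := by
      intro y hy hyu z hz huz hlt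
      have hy' : y⁻¹ * u * y = u := by
        rw [mul_inv_eq_iff_eq_mul] at hyu
        rw [mul_assoc, ← hyu, inv_mul_cancel_left]
      have hyz : u ∈ conjOf S' (y⁻¹ * z) := by
        rw [mem_conjOf] at huz ⊢
        have : (y⁻¹ * z)⁻¹ * u * (y⁻¹ * z) = z⁻¹ * (y * u * y⁻¹) * z := by group
        rwa [this, hyu]
      have hcard : Nat.card ↥(S' ⊓ conjOf S' (y⁻¹ * z)) = Nat.card ↥(conjOf S' y ⊓ conjOf S' z) := by
        rw [← card_conjOf (S' ⊓ conjOf S' (y⁻¹ * z)) y]
        congr 2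
        rw [show conjOf (S' ⊓ conjOf S' (y⁻¹ * z)) y =
          conjOf S' y ⊓ conjOf (conjOf S' (y⁻¹ * z)) y from map_inf _ _ _ (MulAut.conj y).injective,
          conjOf_conjOf, mul_inv_cancel_left]
      have hle := Subgroup.card_le_of_le (inf_le_left : S' ⊓ conjOf S' (y⁻¹ * z) ≤ S')
      have h := ih (Nat.card S' - Nat.card ↥(S' ⊓ conjOf S' (y⁻¹ * z))) (by omega) _
        (X.mul_mem (X.inv_mem hy) hz) hyz (by omega)
      calc z * u * z⁻¹ = y * ((y⁻¹ * z) * u * (y⁻¹ * z)⁻¹) * y⁻¹ := by group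
        _ = u := by rw [h, hyu]
    -- the local step at `D`
    have hloc : ∀ y ∈ X, y * u * y⁻¹ = u → D ≤ conjOf S' y →
        IsMaxP 2 (conjOf S' y ⊓ normalizer (D : Set A)) (X ⊓ normalizer (D : Set A)) →
        ∀ m ∈ X ⊓ normalizer (D : Set A), m * u * m⁻¹ = u := by
      intro y hy hyu hDy hmax m hm
      set P := conjOf S' y ⊓ normalizer (D : Set A) with hPdef
      have hPu : P ≤ centralizer ({u} : Set A) := by
        intro s hs
        obtain ⟨t, ht, rfl⟩ := hs.1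
        refine mem_centralizer_singleton_iff.2 ?_
        have h1 : Commute (y * t * y⁻¹) (y * u * y⁻¹) :=
          (Commute.conj_iff y).2 (mem_centralizer_singleton_iff.1 (hS'c ht))
        rw [hyu] at h1
        exact h1
      by_cases hcent : P ⊓ centralizer (D : Set A) ≤ D
      · have hM' : conjOf M y ≤ normalizer (K : Set A) := by
          rintro _ ⟨s, hs, rfl⟩
          exact mul_mem (mul_mem (hX hy) (hMK hs)) (inv_mem (hX hy))
        have hperf' : ⁅conjOf M y, conjOf M y⁆ = conjOf M y := by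
          rw [conjOf, ← map_commutator, hperf]
        refine fixed_of_centric hM' hperf' ⟨u, hu, hyu⟩ hX le_rfl le_sup_left hDp huD hDX ?_ hmax
          hPu hcent m hm
        rintro _ ⟨s, hs, rfl⟩
        refine mem_centralizer_iff.2 fun d hd => ?_
        obtain ⟨t, ht, rfl⟩ := hDy hd.1
        have htK : t ∈ K := by
          have := (mem_normalizer_iff''.1 (hX hy) _).1 hd.2
          simpa [mul_assoc] using this
        have htS : t ∈ S := by
          have h1 : S' ⊓ K = S := hS.2.2 _ inf_le_right (hS'.2.1.to_le inf_le_left)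
            (le_inf le_sup_left hS.1)
          exact h1 ▸ ⟨ht, htK⟩
        exact ((Commute.conj_iff y).2 (mem_centralizer_iff.1 (hMS hs) t htS)).eq
      · -- Frattini argument for `C(D)`
        set Q := P ⊓ centralizer (D : Set A) with hQdef
        have hCN : X ⊓ centralizer (D : Set A) ≤ X ⊓ normalizer (D : Set A) :=
          inf_le_inf_left X (centralizer_le_normalizer (D : Set A))
        have hCn : X ⊓ normalizer (D : Set A) ≤
            normalizer ((X ⊓ centralizer (D : Set A) : Subgroup A) : Set A) :=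
          (inf_le_inf le_normalizer
            (BBalance.normalizer_le_normalizer_centralizer D)).trans inf_normalizer_le_normalizer_inf
        have hQmax : IsMaxP 2 Q (X ⊓ centralizer (D : Set A)) := by
          have h := isMax_inf_normal hmax hCN hCn
          rwa [show P ⊓ (X ⊓ centralizer (D : Set A)) = Q from by
            rw [← inf_assoc, inf_eq_left.2 (inf_le_left.trans (hconjX y hy))]] at h
        have hmQ : conjOf Q m ≤ X ⊓ centralizer (D : Set A) := by
          rintro _ ⟨s, hs, rfl⟩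
          exact (mem_normalizer_iff.1 (hCn hm) s).1 (hQmax.1 hs)
        obtain ⟨c, hc, hle⟩ := exists_conj_le_max hQmax hmQ (hQmax.2.1.map _)
        have hcu : c⁻¹ * u * c = u := by
          rw [mul_assoc, mem_centralizer_iff.1 hc.2 u huD, inv_mul_cancel_left]
        have heq : conjOf Q m = conjOf Q c := by
          refine Subgroup.eq_of_le_of_card_ge hle ?_
          rw [card_conjOf, card_conjOf]
        set m' := c⁻¹ * m with hm'def
        have hm'N : m' ∈ X ⊓ normalizer (D : Set A) := mul_mem (inv_mem (hCN hc)) hm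
        have hm'Q : conjOf Q m' = Q := by
          rw [hm'def, ← conjOf_conjOf, heq, conjOf_conjOf, inv_mul_cancel]
          exact mem_normalizer_iff_conjOf.1 (one_mem _)
        have hDlt : D < D ⊔ Q := lt_of_le_of_ne le_sup_left fun h => hcent (h ▸ le_sup_right)
        have hDQy : D ⊔ Q ≤ conjOf S' y := sup_le hDy (inf_le_left.trans inf_le_left)
        have hDQm : D ⊔ Q ≤ conjOf S' (m' * y) := by
          rw [← conjOf_conjOf]
          refine le_trans ?_ (map_mono hDQy)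
          show D ⊔ Q ≤ conjOf (D ⊔ Q) m'
          rw [conjOf, Subgroup.map_sup]
          exact sup_le_sup (mem_normalizer_iff_conjOf.1 hm'N.2).ge hm'Q.ge
        have h1 := hIH y hy hyu (m' * y) (X.mul_mem hm'N.1 hy) (hDQm (mem_sup_left huD))
          (lt_of_lt_of_le (Set.Finite.card_lt_card (Set.toFinite _) (SetLike.coe_ssubset_coe.2 hDlt))
            (Subgroup.card_le_of_le (le_inf hDQy hDQm)))
        have h2 : m' * u * m'⁻¹ = u := by
          calc m' * u * m'⁻¹ = m' * (y * u * y⁻¹) * m'⁻¹ := by rw [hyu]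
            _ = (m' * y) * u * (m' * y)⁻¹ := by group
            _ = u := h1
        calc m * u * m⁻¹ = c * (m' * u * m'⁻¹) * c⁻¹ := by rw [hm'def]; group
          _ = c * (c⁻¹ * u * c) * c⁻¹ := by rw [h2, hcu]
          _ = u := by group
    by_cases hxS : conjOf S' x = S'
    · have hDS : D = S' := by rw [hDdef, hxS, inf_idem]
      refine hloc 1 X.one_mem (by simp) ?_ ?_ x ⟨hx, hDS ▸ mem_normalizer_iff_conjOf.2 hxS⟩
      · rw [show conjOf S' 1 = S' from mem_normalizer_iff_conjOf.1 (one_mem _)]; exact hDS.le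
      · rw [show conjOf S' 1 = S' from mem_normalizer_iff_conjOf.1 (one_mem _), hDS,
          inf_eq_left.2 le_normalizer]
        exact ⟨le_inf hS'X le_normalizer, hS'.2.1, fun R hR hRp hle =>
          hS'.2.2 R (hR.trans inf_le_left) hRp hle⟩
    set N := X ⊓ normalizer (D : Set A) with hNdef
    have hcards : Nat.card (conjOf S' x) = Nat.card S' := card_conjOf _ _
    have hne1 : D ≠ S' := by
      intro h
      have h1 : S' ≤ conjOf S' x := h.ge.trans inf_le_right
      exact hxS (Subgroup.eq_of_le_of_card_ge h1 hcards.le).symm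
    have hne2 : D ≠ conjOf S' x := by
      intro h
      have h1 : conjOf S' x ≤ S' := h.ge.trans inf_le_left
      exact hxS (Subgroup.eq_of_le_of_card_ge h1 hcards.ge)
    have hgrow : ∀ T : Subgroup A, IsPGroup 2 ↥T → D ≤ T → D ≠ T →
        Nat.card D < Nat.card ↥(T ⊓ normalizer (D : Set A)) := by
      intro T hT hDT hne
      refine Set.Finite.card_lt_card (Set.toFinite _) (SetLike.coe_ssubset_coe.2 ?_)
      obtain ⟨w, hwT, hwN, hwD⟩ := Signalizer.exists_mem_normalizer_not_mem hT hDT hne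
      exact lt_of_le_of_ne (le_inf hDT le_normalizer) fun h => hwD (h.ge ⟨hwT, hwN⟩)
    obtain ⟨R, hR, hSR⟩ := exists_max_two (le_inf (inf_le_left.trans hS'X) inf_le_right :
      S' ⊓ normalizer (D : Set A) ≤ N) (hS'.2.1.to_le inf_le_left)
    obtain ⟨y, hy, hRy⟩ := exists_conj_le_max hS' (hR.1.trans inf_le_left) hR.2.1
    have h1S : conjOf S' 1 = S' := mem_normalizer_iff_conjOf.1 (one_mem _)
    have hyu : y * u * y⁻¹ = u := by
      refine hIH 1 X.one_mem (by simp) y hy (hRy (hSR ⟨huS', le_normalizer huD⟩)) ?_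
      rw [h1S]
      exact (hgrow S' hS'.2.1 inf_le_left hne1).trans_le
        (Subgroup.card_le_of_le (le_inf inf_le_left (hSR.trans hRy)))
    have hDR : D ≤ R := le_trans (le_inf inf_le_left le_normalizer) hSR
    have hReq : conjOf S' y ⊓ normalizer (D : Set A) = R := by
      refine hR.2.2 _ (inf_le_inf_right _ (hconjX y hy)) ?_ (le_inf hRy (hR.1.trans inf_le_right))
      exact (hS'.2.1.map _).to_le inf_le_left
    have hmaxy : IsMaxP 2 (conjOf S' y ⊓ normalizer (D : Set A)) N := hReq.symm ▸ hR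
    -- the other side
    obtain ⟨m, hm, hmR⟩ := exists_conj_le_max hR
      (inf_le_inf_right _ (hconjX x hx) : conjOf S' x ⊓ normalizer (D : Set A) ≤ N)
      ((hS'.2.1.map _).to_le inf_le_left)
    have hmu := hloc y hy hyu (hDR.trans hRy) hmaxy m hm
    have hmyu : (m * y) * u * (m * y)⁻¹ = u := by
      calc (m * y) * u * (m * y)⁻¹ = m * (y * u * y⁻¹) * m⁻¹ := by group
        _ = u := by rw [hyu, hmu]
    refine hIH (m * y) (X.mul_mem hm.1 hy) hmyu x hx hux ?_
    refine (hgrow (conjOf S' x) (hS'.2.1.map _) inf_le_right hne2).trans_le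
      (Subgroup.card_le_of_le (le_inf (hmR.trans ?_) inf_le_left))
    rw [← conjOf_conjOf]
    exact map_mono hRy
  have hfix : ∀ x ∈ X, u ∈ conjOf S' x → x * u * x⁻¹ = u := fun x hx h =>
    key _ x hx h (Nat.le_add_left _ _)
  have hiso : Cfsg.IsIsolated (⟨u, huX⟩ : ↥X) := by
    rintro ⟨g, hg⟩ hcomm
    apply Subtype.ext
    show g * u * g⁻¹ = u
    have hc : u * (g * u * g⁻¹) = g * u * g⁻¹ * u := congrArg Subtype.val hcomm
    have hp : IsPGroup 2 ↥(zpowers u ⊔ zpowers (g * u * g⁻¹)) :=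
      isPGroup_sup_of_le_normalizer (isPGroup_zpowers hj)
        (isPGroup_zpowers (k := j) (by rw [conj_pow, hj]; simp))
        (zpowers_le.2 (centralizer_le_normalizer _ (mem_centralizer_iff.2 fun w hw => by
          obtain ⟨i, rfl⟩ := mem_zpowers_iff.1 hw
          exact (show Commute u (g * u * g⁻¹) from hc).zpow_left i)))
    obtain ⟨z, hz, hle⟩ := exists_conj_le_max hS'
      (sup_le (zpowers_le.2 huX) (zpowers_le.2 (X.mul_mem (X.mul_mem hg huX) (X.inv_mem hg)))) hp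
    have h1 := hfix z hz (hle (mem_sup_left (mem_zpowers u)))
    have h2 : u ∈ conjOf S' (g⁻¹ * z) := by
      have h3 := mem_conjOf.1 (hle (mem_sup_right (mem_zpowers (g * u * g⁻¹))))
      rw [mem_conjOf]
      simpa [mul_assoc] using h3
    have h3 := hfix _ (X.mul_mem (X.inv_mem hg) hz) h2
    calc g * u * g⁻¹ = g * ((g⁻¹ * z) * u * (g⁻¹ * z)⁻¹) * g⁻¹ := by rw [h3]
      _ = z * u * z⁻¹ := by group
      _ = u := h1
  have hz := ZStar.zStar_pElement (G := ↥X) ZStar.uniqueInvolution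
    (x := ⟨u, huX⟩) (by
      obtain ⟨i, -, hi⟩ := (Nat.dvd_prime_pow Nat.prime_two).1 (orderOf_dvd_of_pow_eq_one hj)
      exact ⟨i, by rw [← hi, Subgroup.orderOf_mk]⟩) hiso
  set W := Cfsg.pPrimeCore 2 ↥X with hW
  have hWbot : W = ⊥ := by
    refine eq_bot_iff.2 fun w hw => ?_
    have hcop : (Nat.card W).Coprime 2 := Cores.coprime_card_pPrimeCore 2
    have hWK : ∀ y : ↥X, y ∈ W → (y : A) ∈ K → y = 1 := by
      intro y hy hyK
      have hle : (W.map X.subtype ⊓ K).subgroupOf K ≤ Cfsg.pPrimeCore 2 ↥K := by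
        refine Cores.le_pPrimeCore (normal_subgroupOf_of_le_normalizer ?_) ?_
        · refine (le_inf ?_ le_normalizer).trans inf_normalizer_le_normalizer_inf
          intro g hg
          refine Signalizer.mem_normalizer_of_conj_mem ?_
          rintro _ ⟨z, hz, rfl⟩
          exact ⟨⟨g, mem_sup_left hg⟩ * z * (⟨g, mem_sup_left hg⟩ : ↥X)⁻¹,
            (inferInstance : W.Normal).conj_mem z hz _, rfl⟩
        · refine hcop.coprime_dvd_left ?_
          rw [Nat.card_congr (subgroupOfEquivOfLe inf_le_right).toEquiv,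
            ← Cores.card_map_subtype X W]
          exact Subgroup.card_dvd_of_le inf_le_left
      rw [hO] at hle
      have h := hle (show (⟨(y : A), hyK⟩ : ↥K) ∈ _ from mem_subgroupOf.2 ⟨⟨y, hy, rfl⟩, hyK⟩)
      exact Subtype.ext (congrArg Subtype.val (mem_bot.1 h) :)
    haveI : (K.subgroupOf X).Normal := normal_subgroupOf_of_le_normalizer hX
    obtain ⟨k, hk, v, hv, hwv⟩ := Set.mem_mul.1
      (by rw [← Subgroup.coe_mul_of_right_le_normalizer_left K (zpowers u) huN]; exact w.2 :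
        (w : A) ∈ (K : Set A) * (zpowers u : Set A))
    obtain ⟨i, rfl⟩ := mem_zpowers_iff.1 hv
    let π := QuotientGroup.mk' (K.subgroupOf X)
    have h1 : π w = π (⟨u, huX⟩ : ↥X) ^ i := by
      have he : w = ⟨k, mem_sup_left hk⟩ * (⟨u, huX⟩ : ↥X) ^ i := Subtype.ext (by simp [hwv])
      rw [he, map_mul, show π ⟨k, mem_sup_left hk⟩ = 1 from
        (QuotientGroup.eq_one_iff _).2 (mem_subgroupOf.2 hk), one_mul, map_zpow]
    have h2 : π w ^ 2 ^ j = 1 := by
      rw [h1, ← zpow_natCast, ← zpow_mul, mul_comm, zpow_mul, zpow_natCast, ← map_pow,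
        show (⟨u, huX⟩ : ↥X) ^ 2 ^ j = 1 from Subtype.ext hj, map_one, one_zpow]
    have h3 : w ^ 2 ^ j = 1 := hWK _ (W.pow_mem hw _)
      (mem_subgroupOf.1 ((QuotientGroup.eq_one_iff _).1 (by rw [← map_pow] at h2; exact h2)))
    have h4 := pow_gcd_eq_one.mpr
      ⟨orderOf_dvd_iff_pow_eq_one.mp (Subgroup.orderOf_dvd_natCard W hw), h3⟩
    rwa [(hcop.pow_right j).gcd_eq_one, pow_one] at h4
  refine mem_centralizer_iff.2 fun k hk => ?_
  have h := hz ⟨k, mem_sup_left hk⟩
  rw [← hW, hWbot, mem_bot] at h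
  have h' : k * u * k⁻¹ * u⁻¹ = 1 := congrArg Subtype.val h
  rwa [mul_inv_eq_one, mul_inv_eq_iff_eq_mul] at h'

end Cfsg.Agent.Components
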