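/-
L-balance for the prime 2, with no hypothesis on the simple sections.
Main results: `IsPLike.le_of_cover`, `IsPLike.centBar_of_commutator_mem`, `le_or_le_centralizer`
(a 2-component of `C(T)` lies in or centralizes every core-free normal subgroup),
`pLayer_centralizer_le` (L-balance for 2-subgroups).
-/
import Cfsg.Agent.Lib.Components.Rigid

set_option autoImplicit false

namespace Cfsg.Agent.Components

open Subgroup
open scoped commutatorElement Pointwise

section PLike

variable {G : Type*} [Group G] [Finite G] {p : ℕ} [Fact p.Prime]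

theorem IsPLike.le_of_cover {K N : Subgroup G} (h : IsPLike p K) (hNK : N ≤ K)
    (hn : K ≤ normalizer (N : Set G)) (hcov : K ≤ N ⊔ OCore p K) : K ≤ N := by
  haveI : (N.subgroupOf K).Normal := normal_subgroupOf_of_le_normalizer hn
  have htop : (⊤ : Subgroup ↥K) ≤ N.subgroupOf K ⊔ Cfsg.pPrimeCore p ↥K := by
    rw [← Subgroup.map_le_map_iff_of_injective (subtype_injective K), Subgroup.map_sup,
      map_subgroupOf_eq_of_le hNK, ← MonoidHom.range_eq_map, range_subtype]
    exact hcov
  have h1 := pGen_le_of_le_sup (p := p) (K := (⊤ : Subgroup ↥K)) (H := N.subgroupOf K)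
    (Y := Cfsg.pPrimeCore p ↥K) (Normal.isSubnormal inferInstance) le_top
    (Cores.coprime_card_pPrimeCore p) htop
  rw [pGen_top_of h.2, top_le_iff, subgroupOf_eq_top] at h1
  exact h1

theorem IsPLike.centBar_of_commutator_mem {K N : Subgroup G} (h : IsPLike p K) (hNK : N ≤ K)
    (hn : K ≤ normalizer (N : Set G)) (hKN : ¬ K ≤ N) {s : G} (hs : s ∈ normalizer (K : Set G))
    (hsN : ∀ k ∈ K, s * k * s⁻¹ * k⁻¹ ∈ N) : CentBar p K s := by
  set O := Cfsg.pPrimeCore p ↥K with hO
  set q := QuotientGroup.mk' O with hq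
  haveI : (N.subgroupOf K).Normal := normal_subgroupOf_of_le_normalizer hn
  have hNn : ((N.subgroupOf K).map q).Normal :=
    Normal.map inferInstance q (QuotientGroup.mk'_surjective _)
  rcases IsQuasisimple.normal_eq_top_or_le_center h.1 ((N.subgroupOf K).map q) with h1 | h1
  · refine absurd (h.le_of_cover hNK hn fun k hk => ?_) hKN
    have h2 : (⟨k, hk⟩ : ↥K) ∈ N.subgroupOf K ⊔ O := by
      rw [← QuotientGroup.ker_mk' O, ← comap_map_eq, h1]
      exact mem_top _
    have h3 := mem_map_of_mem K.subtype h2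
    rwa [Subgroup.map_sup, map_subgroupOf_eq_of_le hNK] at h3
  · let c : ↥K → ↥K := fun k => ⟨s * k * s⁻¹ * (k : G)⁻¹,
      K.mul_mem ((mem_normalizer_iff.1 hs k).1 k.2) (K.inv_mem k.2)⟩
    have hc : ∀ k : ↥K, q (c k) ∈ center (↥K ⧸ O) := fun k =>
      h1 ⟨c k, mem_subgroupOf.2 (hsN k k.2), rfl⟩
    let ψ : ↥K →* ↥(center (↥K ⧸ O)) :=
      { toFun := fun k => ⟨q (c k), hc k⟩
        map_one' := Subtype.ext (by
          show q (c 1) = 1
          rw [show c 1 = 1 from Subtype.ext (by simp [c]), map_one])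
        map_mul' := fun a b => by
          apply Subtype.ext
          show q (c (a * b)) = q (c a) * q (c b)
          have e : c (a * b) = c a * (a * c b * a⁻¹) := Subtype.ext (by simp [c, mul_assoc])
          rw [e, map_mul, map_mul, map_mul, mem_center_iff.1 (hc b) (q a), map_inv,
            mul_inv_cancel_right] }
    haveI : Group.IsPerfect ↥K := Subgroup.isPerfect_iff.mpr h.perfect
    refine ⟨hs, fun k hk => ?_⟩
    have h2 : ψ ⟨k, hk⟩ = 1 := by
      haveI : Group.IsPerfect ↥ψ.range := Group.IsPerfect.range ψ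
      by_contra hne
      haveI : Nontrivial ↥ψ.range := (nontrivial_iff_ne_bot _).mpr fun e =>
        hne (mem_bot.1 (e ▸ ⟨_, rfl⟩))
      exact Group.IsPerfect.not_isMulCommutative ↥ψ.range inferInstance
    exact ⟨c ⟨k, hk⟩, (QuotientGroup.eq_one_iff _).1 (congrArg Subtype.val h2), rfl⟩

theorem centBar_of_mem_centralizer {K : Subgroup G} {d : G} (hd : d ∈ centralizer (K : Set G)) :
    CentBar p K d := by
  refine ⟨centralizer_le_normalizer _ hd, fun k hk => ?_⟩
  rw [← mem_centralizer_iff.1 hd k hk, mul_inv_cancel_right, mul_inv_cancel]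
  exact one_mem _

end PLike

universe u

variable {G : Type u} [Group G] [Finite G]

/-- A 2-component of `C(T)` lies in a core-free normal subgroup or centralizes it. -/
theorem le_or_le_centralizer (E : Subgroup G) [hEn : E.Normal] (hE : Cfsg.pPrimeCore 2 ↥E = ⊥)
    {T M : Subgroup G} (hT : IsPGroup 2 ↥T) (hM : IsPLike 2 M) (hMT : M ≤ centralizer (T : Set G))
    (hMs : (M.subgroupOf (centralizer (T : Set G))).IsSubnormal) :
    M ≤ E ∨ M ≤ centralizer (E : Set G) := by
  haveI : Fact (Nat.Prime 2) := ⟨Nat.prime_two⟩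
  generalize hn : Nat.card G - Nat.card T = n
  induction n using Nat.strong_induction_on generalizing T M with
  | _ n ih =>
  by_cases hME : M ≤ E
  · exact Or.inl hME
  right
  have hnM : M ≤ normalizer ((M ⊓ E : Subgroup G) : Set G) :=
    (le_inf le_normalizer ((normalizer_eq_top (H := E)).ge.trans' le_top)).trans
      inf_normalizer_le_normalizer_inf
  have hMEn : ¬ M ≤ M ⊓ E := fun h => hME (h.trans inf_le_right)
  obtain ⟨P, hP, hTP⟩ := exists_max_two (le_sup_right : T ≤ E ⊔ T) hT
  have hS : IsMaxP 2 (P ⊓ E) E :=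
    isMax_inf_normal hP le_sup_left ((normalizer_eq_top (H := E)).ge.trans' le_top)
  by_cases hPT : P ⊓ E ≤ T
  · exact centralizes_of_centralizes_sylow E M (P ⊓ E) ((normalizer_eq_top (H := E)).ge.trans' le_top)
      hE hS hM.perfect hM.2 (hMT.trans (centralizer_le (SetLike.coe_subset_coe.2 hPT)))
  -- enlarge `T` by an element of `E`
  have hTPne : T ≠ P := fun h => hPT (h ▸ inf_le_left)
  obtain ⟨w, hwP, hwN, hwT⟩ := Signalizer.exists_mem_normalizer_not_mem hP.2.1 hTP hTPne
  obtain ⟨s, hs, t, ht, rfl⟩ := Set.mem_mul.1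
    (by rw [← Subgroup.normal_mul]; exact hP.1 hwP : w ∈ (E : Set G) * (T : Set G))
  have hsP : s ∈ P := by simpa using P.mul_mem hwP (P.inv_mem (hTP ht))
  have hsN : s ∈ normalizer (T : Set G) := by
    simpa using mul_mem hwN (inv_mem (le_normalizer ht : t ∈ normalizer (T : Set G)))
  have hsT : s ∉ T := fun h => hwT (T.mul_mem h ht)
  set C := centralizer (T : Set G) with hC
  have hsC : s ∈ normalizer (C : Set G) := BBalance.normalizer_le_normalizer_centralizer T hsN
  have hMsle : conjOf M s ≤ C := by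
    rintro _ ⟨m, hm, rfl⟩
    exact (mem_normalizer_iff.1 hsC m).1 (hMT hm)
  -- `s` normalizes `M`
  have hsM : s ∈ normalizer (M : Set G) := by
    rw [mem_normalizer_iff_conjOf]
    by_contra hne
    have hc1 : Cfsg.IsPComponent 2 (M.subgroupOf C) :=
      isPComponent_iff.2 ⟨hMs, (isPLike_subgroupOf_iff hMT).2 hM⟩
    have hc2 : Cfsg.IsPComponent 2 ((conjOf M s).subgroupOf C) := by
      refine isPComponent_iff.2 ⟨?_, (isPLike_subgroupOf_iff hMsle).2
        ((isPLike_map_iff (MulAut.conj s).injective M).2 hM)⟩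
      let a : ↥C →* ↥C :=
        { toFun := fun c => ⟨s⁻¹ * c * s, by
            simpa using (mem_normalizer_iff.1 (inv_mem hsC) c).1 c.2⟩
          map_one' := by ext; simp
          map_mul' := fun c d => by ext; simp [mul_assoc] }
      have he : (conjOf M s).subgroupOf C = (M.subgroupOf C).comap a := by
        ext c
        rw [mem_subgroupOf, mem_comap, mem_subgroupOf, mem_conjOf]
        rfl
      rw [he]
      exact hMs.comap a
    have hne' : M.subgroupOf C ≠ (conjOf M s).subgroupOf C := fun h => hne (by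
      have := congrArg (Subgroup.map C.subtype) h
      rw [map_subgroupOf_eq_of_le hMT, map_subgroupOf_eq_of_le hMsle] at this
      exact this.symm)
    have h1 := map_mono (f := C.subtype) (IsPComponent.commutator_le_of_ne hc1 hc2 hne')
    rw [map_commutator, map_subgroupOf_eq_of_le hMT, map_subgroupOf_eq_of_le hMsle] at h1
    set f := QuotientGroup.mk' E with hf
    have hfs : f s = 1 := (QuotientGroup.eq_one_iff s).2 hs
    have h2 : (conjOf M s).map f = M.map f := by
      rw [conjOf, Subgroup.map_map]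
      congr 1
      ext m
      simp [hfs]
    have h3 := map_mono (f := f) h1
    rw [map_commutator, h2, ← map_commutator, hM.perfect] at h3
    refine hME ?_
    have h4 : M.map f = ⊥ := by
      have hgen : pGen 2 (M.map f) = M.map f := by
        refine le_antisymm (pGen_le 2 _) ?_
        conv_lhs => rw [← hM.2]
        exact BBalance.pGen_map_le f M
      have hco : (Nat.card ↥(((Cfsg.pPrimeCore 2 ↥C).map C.subtype).map f)).Coprime 2 :=
        (Cores.coprime_card_pPrimeCore 2).coprime_dvd_left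
          ((card_map_dvd _ _).trans (card_map_dvd _ _))
      rw [← hgen]
      exact BBalance.pGen_eq_bot_of_coprime (hco.coprime_dvd_left (Subgroup.card_dvd_of_le h3))
    rwa [Subgroup.map_eq_bot_iff, QuotientGroup.ker_mk'] at h4
  have hcb : CentBar 2 M s := by
    refine hM.centBar_of_commutator_mem inf_le_left hnM hMEn hsM fun k hk =>
      ⟨M.mul_mem ((mem_normalizer_iff.1 hsM k).1 hk) (M.inv_mem hk), ?_⟩
    have h1 : k * s⁻¹ * k⁻¹ ∈ E := hEn.conj_mem _ (E.inv_mem hs) k
    have := E.mul_mem hs h1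
    simpa [mul_assoc] using this
  -- descend to the larger 2-subgroup
  obtain ⟨i, hi⟩ := hP.2.1 ⟨s, hsP⟩
  have hi' : s ^ 2 ^ i = 1 := congrArg Subtype.val hi
  set T' := T ⊔ zpowers s with hT'def
  have hT' : IsPGroup 2 ↥T' :=
    isPGroup_sup_of_le_normalizer hT (isPGroup_zpowers hi') (zpowers_le.2 hsN)
  have hc' : ∀ a ∈ T', CentBar 2 M a := by
    intro a ha
    rw [hT'def, ← SetLike.mem_coe, Subgroup.coe_mul_of_right_le_normalizer_left T _ (zpowers_le.2 hsN)] at ha
    obtain ⟨b, hb, c, hc, rfl⟩ := Set.mem_mul.1 ha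
    refine centBar_mul (centBar_of_mem_centralizer (le_centralizer_iff.1 hMT hb)) ?_
    obtain ⟨j, rfl⟩ := (mem_powers_iff_mem_zpowers.2 hc : c ∈ Submonoid.powers s)
    exact centBar_pow hcb j
  obtain ⟨hM', hcov, -, -⟩ := hM.descend hT' hc'
  set M' := pGen 2 (M ⊓ centralizer (T' : Set G)) with hM'def
  have hM'T : M' ≤ centralizer (T' : Set G) := (pGen_le 2 _).trans inf_le_right
  have hC'C : centralizer (T' : Set G) ≤ C :=
    centralizer_le (SetLike.coe_subset_coe.2 le_sup_left)
  have hM's : (M'.subgroupOf (centralizer (T' : Set G))).IsSubnormal := by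
    have h1 : ((M ⊓ centralizer (T' : Set G)).subgroupOf (centralizer (T' : Set G))).IsSubnormal := by
      have := hMs.comap (inclusion hC'C)
      convert this using 1
      ext x
      simp [mem_subgroupOf]
    refine IsSubnormal.step _ _ (fun x hx => ?_) h1 ?_
    · exact mem_subgroupOf.2 (pGen_le 2 _ (mem_subgroupOf.1 hx))
    · refine normal_subgroupOf_of_le_normalizer fun x hx => ?_
      refine Signalizer.mem_normalizer_of_conj_mem fun y hy => mem_subgroupOf.2 ?_
      exact (mem_normalizer_iff.1 (normalizer_le_normalizer_pGen 2 _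
        (le_normalizer (mem_subgroupOf.1 hx))) y).1 (mem_subgroupOf.1 hy)
  have hcard : Nat.card T < Nat.card T' :=
    Set.Finite.card_lt_card (Set.toFinite _) (SetLike.coe_ssubset_coe.2
      (lt_of_le_of_ne le_sup_left fun h => hsT (h.ge (mem_sup_right (mem_zpowers s)))))
  have hle' : Nat.card T' ≤ Nat.card G := Subgroup.card_le_card_group _
  rcases ih (Nat.card G - Nat.card T') (by omega) hT' hM' hM'T hM's rfl with h | h
  · refine absurd (hM.le_of_cover inf_le_left hnM (hcov.trans (sup_le_sup ?_ le_rfl))) hMEn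
    exact le_inf ((pGen_le 2 _).trans inf_le_left) h
  · haveI := hEn
    refine (hM.le_of_cover (N := M ⊓ centralizer (E : Set G)) inf_le_left ?_
      (hcov.trans (sup_le_sup ?_ le_rfl))).trans inf_le_right
    · exact (le_inf le_normalizer ((normalizer_eq_top (H := centralizer (E : Set G))).ge.trans' le_top)).trans
        inf_normalizer_le_normalizer_inf
    · exact le_inf ((pGen_le 2 _).trans inf_le_left) h

/-- L-balance for 2-subgroups. -/
theorem pLayer_centralizer_le {T : Subgroup G} (hT : IsPGroup 2 ↥T) :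
    (Cfsg.pLayer 2 ↥(centralizer (T : Set G))).map (centralizer (T : Set G)).subtype ≤
      Cfsg.pLayer 2 G := by
  haveI : Fact (Nat.Prime 2) := ⟨Nat.prime_two⟩
  set C := centralizer (T : Set G) with hC
  rw [map_le_iff_le_comap]
  refine sSup_le fun K hK => map_le_iff_le_comap.mp ?_
  set K0 := K.map C.subtype with hK0
  obtain ⟨hKs, hKp⟩ := isPComponent_iff.1 hK
  have hK0p : IsPLike 2 K0 := (isPLike_map_iff (subtype_injective C) K).2 hKp
  set O := Cfsg.pPrimeCore 2 G with hO
  set π := QuotientGroup.mk' O with hπ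
  set Kb := K0.map π with hKb
  have hne : Kb ≠ ⊥ := by
    rw [hKb, Ne, Subgroup.map_eq_bot_iff, QuotientGroup.ker_mk']
    intro h
    exact hK0p.not_le_OCore (le_OCore le_rfl le_normalizer
      ((Cores.coprime_card_pPrimeCore 2).coprime_dvd_left (Subgroup.card_dvd_of_le h)))
  have hKbp : IsPLike 2 Kb := BBalance.IsPLike.map_of_ne_bot hK0p π hne
  have hCmap : centralizer ((T.map π : Subgroup _) : Set (G ⧸ O)) = C.map π :=
    centralizer_map_of_coprime hT O (Cores.coprime_card_pPrimeCore 2)
  have hKbC : Kb ≤ centralizer ((T.map π : Subgroup _) : Set (G ⧸ O)) := by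
    rw [hCmap]; exact map_mono (map_subtype_le K)
  have hKbs : (Kb.subgroupOf (centralizer ((T.map π : Subgroup _) : Set (G ⧸ O)))).IsSubnormal := by
    rw [hCmap]
    have h := hKs.map (f := π.subgroupMap C) (π.subgroupMap_surjective C)
    convert h using 1
    ext x
    rw [mem_subgroupOf, Subgroup.mem_map]
    constructor
    · rintro ⟨_, ⟨k, hk, rfl⟩, he⟩
      exact ⟨k, hk, Subtype.ext he⟩
    · rintro ⟨k, hk, rfl⟩
      exact ⟨_, ⟨k, hk, rfl⟩, rfl⟩
  have hO' : Cfsg.pPrimeCore 2 (G ⧸ O) = ⊥ := Cores.pPrimeCore_quotient_self 2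
  have hcore : ∀ (E : Subgroup (G ⧸ O)), E.Normal → Cfsg.pPrimeCore 2 ↥E = ⊥ := by
    intro E hE
    rw [← (Subgroup.map_eq_bot_iff_of_injective _ (subtype_injective E))]
    refine eq_bot_iff.2 (hO' ▸ Cores.le_pPrimeCore_of_isSubnormal
      ((Cores.pPrimeCore_normal 2 ↥E).isSubnormal.trans' hE.isSubnormal) ?_)
    rw [Cores.card_map_subtype]
    exact Cores.coprime_card_pPrimeCore 2
  set Q := Cfsg.pCore 2 (G ⧸ O) with hQ
  have hsolv : ¬ Kb ≤ Q := by
    intro h
    haveI : Group.IsPerfect ↥Kb := Subgroup.isPerfect_iff.mpr hKbp.perfect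
    haveI : Nontrivial ↥Kb := (nontrivial_iff_ne_bot _).mpr hne
    haveI : Group.IsNilpotent ↥Kb := ((Cores.isPGroup_pCore 2 (G ⧸ O)).to_le h).isNilpotent
    exact Group.IsPerfect.not_isSolvable ↥Kb inferInstance
  have hlayer : Kb ≤ Cfsg.layer (G ⧸ O) := by
    rcases le_or_le_centralizer (Cfsg.layer (G ⧸ O)) (hcore _ inferInstance) (hT.map π) hKbp hKbC
      hKbs with h | h
    · exact h
    exfalso
    have hQc := (le_or_le_centralizer Q (hcore _ inferInstance) (hT.map π) hKbp hKbC hKbs).resolve_left hsolv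
    refine hsolv ?_
    rw [hQ, ← fitting_eq_pCore_of hO']
    refine le_trans (le_centralizer_iff.mp (sup_le ?_ ?_)) centralizer_genFitting_le_fitting
    · exact le_centralizer_iff.mp h
    · rw [fitting_eq_pCore_of hO']
      exact le_centralizer_iff.mp hQc
  have h1 : K0 ≤ Cfsg.pLayer 2 G ⊔ O := by
    rw [← QuotientGroup.ker_mk' O, ← comap_map_eq, map_pLayer]
    exact map_le_iff_le_comap.mp hlayer
  rw [← hK0p.2]
  haveI := ExtLayer.pLayer_normal (X := G) 2
  exact (pGen_mono h1).trans (pGen_le_of_le_sup (Normal.isSubnormal inferInstance) le_sup_left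
    (Cores.coprime_card_pPrimeCore 2) le_rfl)

end Cfsg.Agent.Components
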