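/-
Descent of 2-components of involution centralisers under the B-property of `X / O(X)`.
Main results: `IsComponent.commutator_eq_bot_of_odd`, `isComponent_map_of_bProperty`,
`commutator_le_oddCore_of_bProperty`.
-/
import Cfsg.Agent.Lib.Components.BBalance
import Cfsg.Agent.Lib.Components.PLike

set_option autoImplicit false

namespace Cfsg.Agent.Components

open Subgroup
open scoped commutatorElement

/-- A component centralises every invariant subgroup of odd order. -/
theorem IsComponent.commutator_eq_bot_of_odd {Y : Type*} [Group Y] [Finite Y] {L E : Subgroup Y}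
    (hL : Cfsg.IsComponent L) (hLgen : pGen 2 L = L) (hinv : ∀ l ∈ L, ∀ e ∈ E, l * e * l⁻¹ ∈ E)
    (hodd : Odd (Nat.card ↥E)) : ⁅L, E⁆ = ⊥ := by
  have hperf := IsComponent.perfect hL
  -- the intersection is central in `L`
  have hZ : ∀ u ∈ L, u ∈ E → ∀ m ∈ L, m * u = u * m := by
    have hn : (E.subgroupOf L).Normal :=
      ⟨fun u hu m => mem_subgroupOf.2 (hinv m m.2 u (mem_subgroupOf.1 hu))⟩
    rcases IsQuasisimple.normal_eq_top_or_le_center hL.2 (E.subgroupOf L) with h | h
    · exfalso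
      have hLE : L ≤ E := fun u hu => mem_subgroupOf.1 (h.ge (mem_top (⟨u, hu⟩ : ↥L)))
      have : pGen 2 L = ⊥ := by
        rw [eq_bot_iff, pGen, closure_le]
        rintro u ⟨hu, k, hk⟩
        refine mem_bot.mpr (orderOf_eq_one_iff.mp (Nat.eq_one_of_dvd_coprimes
          ((hodd.coprime_two_right).pow_right k) (Subgroup.orderOf_dvd_natCard E (hLE hu))
          (orderOf_dvd_of_pow_eq_one hk)))
      rw [hLgen] at this
      have := IsQuasisimple.nontrivial hL.2
      exact (Subgroup.nontrivial_iff_ne_bot L).mp this ‹_›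
    · exact fun u hu huE m hm => congrArg Subtype.val
        (mem_center_iff.1 (h (mem_subgroupOf.2 huE : (⟨u, hu⟩ : ↥L) ∈ _)) ⟨m, hm⟩)
  -- `E` normalises `L`
  have hnorm : E ≤ normalizer (L : Set Y) := by
    intro e he
    by_contra hne
    have hL' : Cfsg.IsComponent (L.map (MulAut.conj e).toMonoidHom) := IsComponent.conj hL e
    have hcomm : ⁅L, L.map (MulAut.conj e).toMonoidHom⁆ = ⊥ :=
      IsComponent.commutator_eq_bot hL hL' fun h => hne (by
        rw [mem_normalizer_iff]
        intro u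
        refine ⟨fun hu => h.ge ⟨u, hu, rfl⟩, fun hu => ?_⟩
        obtain ⟨v, hv, e'⟩ := h.le hu
        simp only [MulEquiv.coe_toMonoidHom, MulAut.conj_apply, mul_left_inj, mul_right_inj] at e'
        exact e' ▸ hv)
    have hc : ∀ m ∈ L, ∀ l ∈ L, m * (e * l * e⁻¹) = e * l * e⁻¹ * m := fun m hm l hl =>
      (commutator_eq_bot_iff_le_centralizer.1 hcomm hm _ ⟨l, hl, rfl⟩).symm
    have hcomml : ∀ l ∈ L, ∀ m ∈ L, ∀ m' ∈ L, m' * ⁅m, l⁆ = ⁅m, l⁆ * m' := by
      intro l hl m hm m' hm'
      refine hZ _ ?_ ?_ m' hm'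
      · exact hperf.le (commutator_mem_commutator hm hl)
      · -- `⁅m, l⁆ = ⁅m, l * (l⁻¹)^e⁆` lies in `E`
        have hf : l * (e * l⁻¹ * e⁻¹) ∈ E := by
          have hm' := E.mul_mem (hinv l hl e he) (E.inv_mem he)
          simpa [mul_assoc] using hm'
        have e1 : ⁅m, l * (e * l⁻¹ * e⁻¹)⁆ = ⁅m, l⁆ := by
          rw [commutatorElement_def, commutatorElement_def, mul_inv_rev l]
          calc m * (l * (e * l⁻¹ * e⁻¹)) * m⁻¹ * ((e * l⁻¹ * e⁻¹)⁻¹ * l⁻¹)
              = m * l * ((e * l⁻¹ * e⁻¹) * m⁻¹) * ((e * l⁻¹ * e⁻¹)⁻¹ * l⁻¹) := by group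
            _ = m * l * (m⁻¹ * (e * l⁻¹ * e⁻¹)) * ((e * l⁻¹ * e⁻¹)⁻¹ * l⁻¹) := by
                rw [hc _ (L.inv_mem hm) _ (L.inv_mem hl)]
            _ = _ := by group
        rw [← e1, commutatorElement_def]
        exact E.mul_mem (hinv m hm _ hf) (E.inv_mem hf)
    have hab : ⁅⁅L, L⁆, L⁆ = ⊥ := by
      rw [commutator_eq_bot_iff_le_centralizer, commutator_le]
      exact fun m hm l hl m' hm' => hcomml l hl m hm m' hm'
    rw [hperf, hperf] at hab
    have := IsQuasisimple.nontrivial hL.2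
    exact (Subgroup.nontrivial_iff_ne_bot L).mp this hab
  have hle : ⁅L, E⁆ ≤ L ⊓ E := by
    rw [commutator_le]
    intro l hl e he
    rw [commutatorElement_def]
    refine ⟨?_, E.mul_mem (hinv l hl e he) (E.inv_mem he)⟩
    simp only [mul_assoc]
    exact L.mul_mem hl (by simpa [mul_assoc] using
      (mem_normalizer_iff.1 (hnorm he) _).1 (L.inv_mem hl))
  refine commutator_eq_bot_of_perfect_of_le hperf hle ?_
  rw [commutator_eq_bot_iff_le_centralizer]
  exact fun u hu m hm => hZ u hu.1 hu.2 m hm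

variable {X : Type*} [Group X] [Finite X]

/-- A 2-component of an involution centraliser maps to a component of the centraliser in `X / O(X)`. -/
theorem isComponent_map_of_bProperty (hB : Cfsg.HasBProperty (X ⧸ Cfsg.oddCore X)) {x : X}
    (hx : orderOf x = 2) {K : Subgroup X} (hKx : K ≤ centralizer ({x} : Set X))
    (hK : IsPLike 2 K) (hsub : (K.subgroupOf (centralizer ({x} : Set X))).IsSubnormal) :
    Cfsg.IsComponent ((K.map (QuotientGroup.mk' (Cfsg.oddCore X))).subgroupOf
      (centralizer ({QuotientGroup.mk' (Cfsg.oddCore X) x} : Set (X ⧸ Cfsg.oddCore X)))) := by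
  have := Fact.mk Nat.prime_two
  set π := QuotientGroup.mk' (Cfsg.oddCore X) with hπ
  have hOc : (Nat.card (Cfsg.oddCore X)).Coprime 2 := Cores.coprime_card_pPrimeCore 2
  have hxbar : orderOf (π x) = 2 := by
    have hd := orderOf_map_dvd π x
    rw [hx] at hd
    refine ((Nat.dvd_prime Nat.prime_two).1 hd).resolve_left fun h1 => ?_
    have hxO : x ∈ Cfsg.oddCore X := (QuotientGroup.eq_one_iff x).1 (orderOf_eq_one_iff.1 h1)
    have h2 : 2 ∣ Nat.card (Cfsg.oddCore X) := hx ▸ Subgroup.orderOf_dvd_natCard _ hxO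
    exact absurd (Nat.eq_one_of_dvd_coprimes hOc h2 dvd_rfl) (by norm_num)
  set C := centralizer ({π x} : Set (X ⧸ Cfsg.oddCore X)) with hC
  have hxp : IsPGroup 2 ↥(zpowers x) := IsPGroup.of_card (n := 1) (by rw [Nat.card_zpowers, hx, pow_one])
  have himg : C = (centralizer ({x} : Set X)).map π := by
    have h := centralizer_map_of_coprime hxp (Cfsg.oddCore X) hOc
    rw [MonoidHom.map_zpowers, zpowers_eq_closure, zpowers_eq_closure, centralizer_closure,
      centralizer_closure] at h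
    exact h
  let f : ↥(centralizer ({x} : Set X)) →* ↥C :=
    (π.comp (centralizer ({x} : Set X)).subtype).codRestrict C fun u => by
      rw [himg]; exact mem_map_of_mem π u.2
  have hf : Function.Surjective f := by
    rintro ⟨v, hv⟩
    rw [himg] at hv
    obtain ⟨u, hu, rfl⟩ := hv
    exact ⟨⟨u, hu⟩, rfl⟩
  have hmap : (K.subgroupOf (centralizer ({x} : Set X))).map f = (K.map π).subgroupOf C := by
    ext ⟨v, hv⟩
    simp only [mem_map, mem_subgroupOf]
    constructor
    · rintro ⟨u, hu, e⟩; exact ⟨u, hu, congrArg Subtype.val e⟩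
    · rintro ⟨u, hu, e⟩; exact ⟨⟨u, hKx hu⟩, hu, Subtype.ext e⟩
  set L := (K.map π).subgroupOf C with hL
  have hne : K.map π ≠ ⊥ := by
    intro e
    have hle : K ≤ Cfsg.oddCore X := by
      rw [← QuotientGroup.ker_mk' (Cfsg.oddCore X)]; exact (Subgroup.map_eq_bot_iff _).1 e
    refine BBalance.isPLike_ne_bot hK ?_
    rw [← hK.2]
    exact BBalance.pGen_eq_bot_of_coprime (hOc.coprime_dvd_left (Subgroup.card_dvd_of_le hle))
  have hKC : K.map π ≤ C := by rw [himg]; exact map_mono hKx
  have hLlike : IsPLike 2 L := by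
    rw [isPLike_subgroupOf_iff hKC]; exact BBalance.IsPLike.map_of_ne_bot hK π hne
  have hLsub : L.IsSubnormal := hmap ▸ hsub.map hf
  have hLp : Cfsg.IsPComponent 2 L := isPComponent_iff.2 ⟨hLsub, hLlike⟩
  have hbot : ⁅Cfsg.pLayer 2 ↥C, Cfsg.oddCore ↥C⁆ = ⊥ := by
    have h := hB (π x) hxbar
    rw [show Cfsg.oddCore (X ⧸ Cfsg.oddCore X) = ⊥ from Cores.pPrimeCore_quotient_self 2, le_bot_iff]
      at h
    exact (Subgroup.map_eq_bot_iff_of_injective _ C.subtype_injective).1 h
  refine ⟨hLsub, BBalance.isQuasisimple_of_map (IsPComponent.perfect hLp)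
    (QuotientGroup.mk' (Cfsg.pPrimeCore 2 ↥C)) (fun u _ hu1 => ?_) hLp.2.1.2⟩
  have hu : u ∈ Cfsg.oddCore ↥C := (QuotientGroup.eq_one_iff u).1 hu1
  exact fun l hl => commutator_eq_bot_iff_le_centralizer.1 hbot (IsPComponent.le_pLayer hLp hl) u hu
    |>.symm

/-- Such a 2-component centralises its invariant odd-order subgroups of `C(x)` modulo `O(X)`. -/
theorem commutator_le_oddCore_of_bProperty (hB : Cfsg.HasBProperty (X ⧸ Cfsg.oddCore X)) {x : X}
    (hx : orderOf x = 2) {K : Subgroup X} (hKx : K ≤ centralizer ({x} : Set X))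
    (hK : IsPLike 2 K) (hsub : (K.subgroupOf (centralizer ({x} : Set X))).IsSubnormal)
    {E : Subgroup X} (hEx : E ≤ centralizer ({x} : Set X)) (hodd : Odd (Nat.card ↥E))
    (hinv : ∀ k ∈ K, ∀ e ∈ E, k * e * k⁻¹ ∈ E) : ⁅K, E⁆ ≤ Cfsg.oddCore X := by
  have := Fact.mk Nat.prime_two
  set π := QuotientGroup.mk' (Cfsg.oddCore X) with hπ
  have hcomp := isComponent_map_of_bProperty hB hx hKx hK hsub
  set C := centralizer ({π x} : Set (X ⧸ Cfsg.oddCore X)) with hC
  have hmem : ∀ u ∈ centralizer ({x} : Set X), π u ∈ C := fun u hu => by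
    rw [hC, mem_centralizer_singleton_iff, ← map_mul, ← map_mul,
      mem_centralizer_singleton_iff.1 hu]
  have hKC : K.map π ≤ C := by rintro _ ⟨u, hu, rfl⟩; exact hmem u (hKx hu)
  have hEC : E.map π ≤ C := by rintro _ ⟨u, hu, rfl⟩; exact hmem u (hEx hu)
  have hgen : pGen 2 ((K.map π).subgroupOf C) = (K.map π).subgroupOf C := by
    apply Subgroup.map_injective C.subtype_injective
    rw [pGen_map_of_injective C.subtype_injective, map_subgroupOf_eq_of_le hKC]
    refine le_antisymm (pGen_le 2 _) ?_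
    conv_lhs => rw [← hK.2]
    exact BBalance.pGen_map_le π K
  have hbot := IsComponent.commutator_eq_bot_of_odd (E := (E.map π).subgroupOf C) hcomp hgen (by
      intro l hl e he
      rw [mem_subgroupOf] at hl he ⊢
      obtain ⟨k, hk, hk'⟩ := hl
      obtain ⟨u, hu, hu'⟩ := he
      refine ⟨k * u * k⁻¹, hinv k hk u hu, ?_⟩
      rw [map_mul, map_mul, map_inv, hu', show π k = (l : _) from hk']
      simp)
    (hodd.of_dvd_nat (by
      rw [← Cores.card_map_subtype C, map_subgroupOf_eq_of_le hEC]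
      exact Subgroup.card_map_dvd E π))
  have h := congrArg (Subgroup.map C.subtype) hbot
  rw [map_commutator, Subgroup.map_bot, map_subgroupOf_eq_of_le hKC, map_subgroupOf_eq_of_le hEC,
    ← map_commutator, Subgroup.map_eq_bot_iff, QuotientGroup.ker_mk'] at h
  exact h

end Cfsg.Agent.Components
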