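/-
A Klein four-group `U` acting on a 2-group `S` so that each of its involutions centralizes at most
one involution of `S`: the resulting structure, used for the rank one case of four-groups on
semisimple groups.
Main results: `Setup`, `Setup.exists_data`.
-/
import Cfsg.Agent.Lib.PGroup.UniqueOrderP
import Cfsg.Agent.Lib.PGroup.Basic

set_option autoImplicit false
set_option linter.style.haveILetI false
set_option linter.unusedSectionVars false

namespace Cfsg.Agent.Components.FourRank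

open Subgroup
open scoped commutatorElement

variable {G : Type*} [Group G] [Finite G]

/-- The situation: `P = SU` a 2-group, `S` normal, `C_S(u)` has at most one involution. -/
structure Setup (S U P : Subgroup G) : Prop where
  isPGroup : IsPGroup 2 P
  le : S ≤ P
  leU : U ≤ P
  norm : ∀ p ∈ P, ∀ x ∈ S, p * x * p⁻¹ ∈ S
  dec : ∀ q ∈ P, ∃ x ∈ S, ∃ u ∈ U, q = x * u
  klein : IsKleinFour U
  one : ∀ u ∈ U, u ≠ 1 → ∀ f ∈ S, ∀ g ∈ S, f * f = 1 → g * g = 1 → f ≠ 1 → g ≠ 1 →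
    u * f = f * u → u * g = g * u → f = g
  rank : ∃ f ∈ S, ∃ g ∈ S, f * f = 1 ∧ g * g = 1 ∧ f ≠ 1 ∧ g ≠ 1 ∧ f ≠ g

namespace Setup

variable {S U P : Subgroup G} (h : Setup S U P)
include h

theorem sq {u : G} (hu : u ∈ U) : u * u = 1 := by
  have := h.klein
  have h1 : (⟨u, hu⟩ : ↥U) ^ Monoid.exponent ↥U = 1 := Monoid.pow_exponent_eq_one _
  rw [IsKleinFour.exponent_two, pow_two] at h1
  exact congrArg Subtype.val h1

theorem inv_eq {u : G} (hu : u ∈ U) : u⁻¹ = u := inv_eq_of_mul_eq_one_right (h.sq hu)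

theorem pair : ∃ a ∈ U, ∃ b ∈ U, a ≠ 1 ∧ b ≠ 1 ∧ a * b ≠ 1 := by
  have := h.klein
  haveI : Nontrivial ↥U := Finite.one_lt_card_iff_nontrivial.1 (by rw [IsKleinFour.card_four]; omega)
  obtain ⟨a, ha⟩ := exists_ne (1 : ↥U)
  obtain ⟨b, hb1, hba⟩ : ∃ b : ↥U, b ≠ 1 ∧ b ≠ a := by
    by_contra! hc
    have : Nat.card ↥U ≤ Nat.card ({1, a} : Set ↥U) :=
      Nat.card_le_card_of_injective (fun b => ⟨b, by
        by_cases hb : b = 1
        · exact Or.inl hb
        · exact Or.inr (hc b hb)⟩) (fun x y hxy => by simpa using hxy)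
    rw [IsKleinFour.card_four, Nat.card_coe_set_eq, Set.ncard_pair (Ne.symm ha)] at this
    omega
  refine ⟨a, a.2, b, b.2, fun e => ha (Subtype.ext e), fun e => hb1 (Subtype.ext e), fun e => ?_⟩
  refine hba (Subtype.ext ?_)
  calc (b : G) = ((a : G) * a) * b := by rw [h.sq a.2, one_mul]
    _ = (a : G) * (a * b) := mul_assoc _ _ _
    _ = a := by rw [e, mul_one]

theorem conjS {u : G} (hu : u ∈ U) {x : G} (hx : x ∈ S) : u * x * u ∈ S := by
  have := h.norm u (h.leU hu) x hx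
  rwa [h.inv_eq hu] at this

theorem exists_z : ∃ z ∈ S, z * z = 1 ∧ z ≠ 1 ∧ ∀ p ∈ P, p * z = z * p := by
  haveI : (S.subgroupOf P).Normal := ⟨fun n hn p => mem_subgroupOf.2 (h.norm p p.2 n hn)⟩
  obtain ⟨f, hf, -, -, -, -, hf1, -, -⟩ := h.rank
  obtain ⟨z, hzS, hzc, hz⟩ := PGroup.exists_central_order_p (p := 2) h.isPGroup
    (N := S.subgroupOf P) (fun e => hf1 (by
      have : (⟨f, h.le hf⟩ : ↥P) ∈ S.subgroupOf P := hf
      rw [e, mem_bot] at this
      exact congrArg Subtype.val this))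
  have hz2 : z ^ 2 = 1 := hz ▸ pow_orderOf_eq_one z
  refine ⟨z, hzS, ?_, ?_, fun p hp => congrArg Subtype.val (mem_center_iff.1 hzc ⟨p, hp⟩)⟩
  · rw [← pow_two]; exact_mod_cast congrArg Subtype.val hz2
  · intro e
    have : z = 1 := Subtype.ext e
    simp [this] at hz

/-- An involution commuting with its images under `U` is the central one. -/
theorem eq_of_commute {z : G} (hzS : z ∈ S) (hz2 : z * z = 1) (hz1 : z ≠ 1)
    (hzc : ∀ p ∈ P, p * z = z * p) {f : G} (hf : f ∈ S) (hf2 : f * f = 1)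
    (hc : ∀ u ∈ U, f * (u * f * u) = u * f * u * f) : f = 1 ∨ f = z := by
  by_contra hn
  rw [not_or] at hn
  have hfix : ∀ u ∈ U, u ≠ 1 → ∀ g ∈ S, g * g = 1 → u * g = g * u → g = 1 ∨ g = z := fun u hu hu1 g hg hg2 hug => by
    by_cases h1 : g = 1
    · exact Or.inl h1
    · exact Or.inr (h.one u hu hu1 g hg z hzS hg2 hz2 h1 hz1 hug (hzc u (h.leU hu)))
  have hmove : ∀ u ∈ U, u ≠ 1 → u * f * u = f * z := by
    intro u hu hu1
    set f' := u * f * u with hf'
    have hf'2 : f' * f' = 1 := by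
      calc f' * f' = u * f * (u * u) * f * u := by rw [hf']; group
        _ = u * (f * f) * u := by rw [h.sq hu]; group
        _ = 1 := by rw [hf2, mul_one, h.sq hu]
    have hg2 : (f * f') * (f * f') = 1 := by
      calc (f * f') * (f * f') = (f * f') * (f' * f) := by rw [hc u hu]
        _ = f * (f' * f') * f := by group
        _ = 1 := by rw [hf'2, mul_one, hf2]
    have hug : u * (f * f') = (f * f') * u := by
      calc u * (f * f') = u * f * u * f * u := by rw [hf']; group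
        _ = f' * f * u := by rw [hf']
        _ = f * f' * u := by rw [hc u hu]
    have hback : f' = f * (f * f') := by rw [← mul_assoc, hf2, one_mul]
    rcases hfix u hu hu1 _ (mul_mem hf (h.conjS hu hf)) hg2 hug with e | e
    · rw [e, mul_one] at hback
      refine absurd (hfix u hu hu1 f hf hf2 ?_) (by tauto)
      calc u * f = u * f * (u * u) := by rw [h.sq hu, mul_one]
        _ = f' * u := by rw [hf']; group
        _ = f * u := by rw [hback]
    · rw [hback, e]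
  obtain ⟨a, ha, b, hb, ha1, hb1, hab⟩ := h.pair
  have hab' : b * a = a * b := by
    calc b * a = (a * a) * b * a * (b * b) := by rw [h.sq ha, h.sq hb, one_mul, mul_one]
      _ = a * ((a * b) * (a * b)) * b := by group
      _ = a * b := by rw [h.sq (mul_mem ha hb), mul_one]
  have h1 := hmove _ (mul_mem ha hb) hab
  have h2 : a * b * f * (a * b) = f := by
    calc a * b * f * (a * b) = a * b * f * (b * a) := by rw [hab']
      _ = a * (b * f * b) * a := by group
      _ = a * f * (z * a) := by rw [hmove b hb hb1]; group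
      _ = a * f * a * z := by rw [← hzc a (h.leU ha)]; group
      _ = f := by rw [hmove a ha ha1, mul_assoc, hz2, mul_one]
  rw [h2] at h1
  exact hz1 (mul_left_cancel (a := f) (by rw [mul_one, ← h1]))

/-- A maximal `P`-invariant abelian subgroup of `S` is self-centralizing. -/
theorem exists_selfCentralizing : ∃ C : Subgroup G, C ≤ S ∧ (∀ p ∈ P, ∀ x ∈ C, p * x * p⁻¹ ∈ C) ∧
    (∀ x ∈ C, ∀ y ∈ C, x * y = y * x) ∧ ∀ x ∈ S, (∀ y ∈ C, x * y = y * x) → x ∈ C := by
  let T : Set (Subgroup G) := {C | C ≤ S ∧ (∀ p ∈ P, ∀ x ∈ C, p * x * p⁻¹ ∈ C) ∧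
    ∀ x ∈ C, ∀ y ∈ C, x * y = y * x}
  obtain ⟨C, ⟨hCS, hCP, hCc⟩, hmax⟩ := (Set.toFinite T).exists_maximal ⟨⊥, bot_le,
    fun p _ x hx => by simp [mem_bot.1 hx], fun x hx y hy => by simp [mem_bot.1 hx, mem_bot.1 hy]⟩
  refine ⟨C, hCS, hCP, hCc, ?_⟩
  by_contra hn
  push Not at hn
  obtain ⟨x₀, hx₀S, hx₀c, hx₀C⟩ := hn
  let D : Subgroup G := S ⊓ centralizer (C : Set G)
  have hCD : C ≤ D := le_inf hCS fun x hx => mem_centralizer_iff.2 fun y hy => hCc y hy x hx
  have hDP : ∀ p ∈ P, ∀ x ∈ D, p * x * p⁻¹ ∈ D := by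
    intro p hp x hx
    refine ⟨h.norm p hp x hx.1, mem_centralizer_iff.2 fun y hy => ?_⟩
    have h1 := mem_centralizer_iff.1 hx.2 _ (hCP p⁻¹ (inv_mem hp) y hy)
    rw [inv_inv] at h1
    calc y * (p * x * p⁻¹) = p * (p⁻¹ * y * p * x) * p⁻¹ := by group
      _ = p * (x * (p⁻¹ * y * p)) * p⁻¹ := by rw [h1]
      _ = p * x * p⁻¹ * y := by group
  haveI : (C.subgroupOf P).Normal := ⟨fun n hn p => mem_subgroupOf.2 (hCP p p.2 n hn)⟩
  haveI : (D.subgroupOf P).Normal := ⟨fun n hn p => mem_subgroupOf.2 (hDP p p.2 n hn)⟩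
  have hlt : C.subgroupOf P < D.subgroupOf P := lt_of_le_not_ge (fun x hx => hCD hx)
    fun hle => hx₀C (hle (show (⟨x₀, h.le hx₀S⟩ : ↥P) ∈ D.subgroupOf P from
      ⟨hx₀S, mem_centralizer_iff.2 fun y hy => (hx₀c y hy).symm⟩))
  obtain ⟨K, -, hCK, hKD, hK, hcomm⟩ := PGroup.exists_normal_between h.isPGroup hlt
  obtain ⟨x, hxK, hxC⟩ : ∃ x ∈ K, x ∉ C.subgroupOf P := by
    by_contra! hc
    rw [le_antisymm hCK hc] at hK
    have := Nat.card_pos (α := K)
    omega
  have hxD : (x : G) ∈ D := hKD hxK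
  refine hxC (mem_subgroupOf.2 ((show C ⊔ zpowers (x : G) ≤ C from hmax ⟨?_, ?_, ?_⟩ le_sup_left)
    (mem_sup_right (mem_zpowers _))))
  · exact sup_le hCS (zpowers_le.2 hxD.1)
  · intro p hp y hy
    have hle : C ⊔ zpowers (x : G) ≤ (C ⊔ zpowers (x : G)).comap (MulAut.conj p).toMonoidHom := by
      refine sup_le (fun c hc => mem_sup_left (hCP p hp c hc)) (zpowers_le.2 ?_)
      have hm : (⁅x, (⟨p, hp⟩ : ↥P)⁆ : ↥P) ∈ C.subgroupOf P := hcomm (commutator_mem_commutator hxK (mem_top _))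
      have hm' : (x : G) * p * (x : G)⁻¹ * p⁻¹ ∈ C := hm
      show p * (x : G) * p⁻¹ ∈ C ⊔ zpowers (x : G)
      rw [show p * (x : G) * p⁻¹ = ((x : G) * p * (x : G)⁻¹ * p⁻¹)⁻¹ * x by group]
      exact mul_mem (mem_sup_left (inv_mem hm')) (mem_sup_right (mem_zpowers _))
    exact hle hy
  · have hcl : ∀ y ∈ C, Commute (x : G) y := fun y hy => (mem_centralizer_iff.1 hxD.2 y hy).symm
    have h1 : ∀ y ∈ C ⊔ zpowers (x : G), ∀ c ∈ C, Commute y c := by
      intro y hy c hc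
      have : C ⊔ zpowers (x : G) ≤ centralizer {c} := sup_le
        (fun a ha => mem_centralizer_singleton_iff.2 (hCc a ha c hc))
        (zpowers_le.2 (mem_centralizer_singleton_iff.2 (hcl c hc)))
      exact mem_centralizer_singleton_iff.1 (this hy)
    have h2 : ∀ y ∈ C ⊔ zpowers (x : G), Commute y (x : G) := by
      intro y hy
      have : C ⊔ zpowers (x : G) ≤ centralizer {(x : G)} := sup_le
        (fun a ha => mem_centralizer_singleton_iff.2 (hcl a ha).symm)
        (zpowers_le.2 (mem_centralizer_singleton_iff.2 rfl))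
      exact mem_centralizer_singleton_iff.1 (this hy)
    intro a ha b hb
    have : C ⊔ zpowers (x : G) ≤ centralizer {a} := sup_le
      (fun c hc => mem_centralizer_singleton_iff.2 (h1 a ha c hc).symm)
      (zpowers_le.2 (mem_centralizer_singleton_iff.2 (h2 a ha).symm))
    exact (mem_centralizer_singleton_iff.1 (this hb)).symm

omit h in
theorem zpow_order_four {w : G} (hw : orderOf w = 4) (s : ℤ) (hs : w ^ s * w ^ s ≠ 1) :
    (w ^ s = w ∧ (4 : ℤ) ∣ s - 1) ∨ w ^ s = w⁻¹ := by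
  have hw4 : w ^ (4 : ℤ) = 1 := by
    have := pow_orderOf_eq_one w
    rw [hw] at this; exact_mod_cast this
  have hred : w ^ s = w ^ (s % 4) := by
    conv_lhs => rw [← Int.mul_ediv_add_emod s 4, zpow_add, zpow_mul, hw4, one_zpow, one_mul]
  have h0 := Int.emod_nonneg s (show (4 : ℤ) ≠ 0 by norm_num)
  have h4 := Int.emod_lt_of_pos s (show (0 : ℤ) < 4 by norm_num)
  rcases (show s % 4 = 0 ∨ s % 4 = 1 ∨ s % 4 = 2 ∨ s % 4 = 3 by omega) with e | e | e | e
  · exact absurd (by rw [hred, e, zpow_zero, one_mul]) hs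
  · exact Or.inl ⟨by rw [hred, e, zpow_one], by omega⟩
  · refine absurd ?_ hs
    rw [hred, e, ← zpow_add, show (2 : ℤ) + 2 = 4 by norm_num, hw4]
  · refine Or.inr ?_
    rw [hred, e, show (3 : ℤ) = 4 + -1 by norm_num, zpow_add, hw4, one_mul, zpow_neg_one]

/-- The data: a central involution `z`, an involution `e ≠ z` and `c ∈ C_P(e)` with `c² = z`, a
subgroup of index `2` in `S` without involutions other than `z`, squares in `P` with square `1`. -/
theorem exists_data : ∃ z e : G, z ∈ S ∧ (∀ p ∈ P, p * z = z * p) ∧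
    e ∈ S ∧ orderOf e = 2 ∧ e ≠ z ∧ (∃ c ∈ P, c * e = e * c ∧ c * c = z) ∧
    (∃ M : Subgroup G, M ≤ S ∧ M.relIndex S = 2 ∧ e ∉ M ∧ ∀ f ∈ M, f * f = 1 → f = 1 ∨ f = z) ∧
    ∀ q ∈ P, (q * q) * (q * q) = 1 → q * q = 1 ∨ q * q = z := by
  obtain ⟨z, hzS, hz2, hz1, hzc⟩ := h.exists_z
  obtain ⟨C, hCS, hCP, hCc, hCC⟩ := h.exists_selfCentralizing
  have hCone : ∀ y ∈ C, y * y = 1 → y = 1 ∨ y = z := fun y hy hy2 =>
    h.eq_of_commute hzS hz2 hz1 hzc (hCS hy) hy2 fun u hu => by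
      have := hCP u (h.leU hu) y hy
      rw [h.inv_eq hu] at this
      exact hCc y hy _ this
  -- an involution of `S` other than `z`
  obtain ⟨e, heS, he2, he1, hez⟩ : ∃ e ∈ S, e * e = 1 ∧ e ≠ 1 ∧ e ≠ z := by
    obtain ⟨f, hf, g, hg, hf2, hg2, hf1, hg1, hfg⟩ := h.rank
    by_cases hfz : f = z
    · exact ⟨g, hg, hg2, hg1, fun hgz => hfg (hfz.trans hgz.symm)⟩
    · exact ⟨f, hf, hf2, hf1, hfz⟩
  haveI hSp : IsPGroup 2 ↥S := h.isPGroup.to_le h.le
  obtain ⟨a', ha', hCa'⟩ := PGroup.isCyclic_of_abelian_unique (p := 2) hSp (A := C.subgroupOf S)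
    (fun x hx y hy => Subtype.ext (hCc _ hx _ hy)) (fun x hx y hy hox hy2 => by
      have hx2 : x * x = 1 := by rw [← pow_two, ← hox]; exact pow_orderOf_eq_one x
      have hx1 : (x : G) = z := (hCone x hx (congrArg Subtype.val hx2)).resolve_left fun e => by
        rw [show x = 1 from Subtype.ext e] at hox; simp at hox
      rcases hCone y hy (by rw [← pow_two]; exact congrArg Subtype.val hy2) with e | e
      · rw [show y = 1 from Subtype.ext e]; exact one_mem _
      · rw [show y = x from Subtype.ext (e.trans hx1.symm)]; exact mem_zpowers x)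
  set a : G := (a' : G) with ha_def
  have haC : a ∈ C := ha'
  have hCa : ∀ y ∈ C, ∃ k : ℤ, a ^ k = y := fun y hy => by
    have h1 : (⟨y, hCS hy⟩ : ↥S) ∈ zpowers a' := by rw [hCa']; exact hy
    obtain ⟨k, hk⟩ := mem_zpowers_iff.1 h1
    exact ⟨k, congrArg Subtype.val hk⟩
  have hcent : ∀ x ∈ S, x * a = a * x → x ∈ C := fun x hx hxa => hCC x hx fun y hy => by
    obtain ⟨k, rfl⟩ := hCa y hy
    exact (show Commute x a from hxa).zpow_right k
  have hact : ∀ p ∈ P, ∃ s : ℤ, a ^ s = p * a * p⁻¹ := fun p hp => hCa _ (hCP p hp a haC)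
  -- `[P, S]` lies in `C`
  have hcomm : ∀ p ∈ P, ∀ x ∈ S, x⁻¹ * (p * x * p⁻¹) ∈ C := by
    intro p hp x hx
    refine hcent _ (mul_mem (inv_mem hx) (h.norm p hp x hx)) ?_
    obtain ⟨r, hr⟩ := hact x (h.le hx)
    obtain ⟨s, hs⟩ := hact p⁻¹ (inv_mem hp)
    rw [inv_inv] at hs
    have h1 : (p * x * p⁻¹) * a * (p * x * p⁻¹)⁻¹ = x * a * x⁻¹ := by
      calc (p * x * p⁻¹) * a * (p * x * p⁻¹)⁻¹ = p * (x * (p⁻¹ * a * p) * x⁻¹) * p⁻¹ := by group
        _ = p * (x * a * x⁻¹) ^ s * p⁻¹ := by rw [← hs, conj_zpow]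
        _ = p * (a ^ s) ^ r * p⁻¹ := by rw [← hr, ← zpow_mul, ← zpow_mul, mul_comm r s]
        _ = p * (p⁻¹ * a * p) ^ r * p⁻¹ := by rw [hs]
        _ = (p * (p⁻¹ * a * p) * p⁻¹) ^ r := conj_zpow.symm
        _ = x * a * x⁻¹ := by rw [← hr]; group
    calc x⁻¹ * (p * x * p⁻¹) * a
        = x⁻¹ * ((p * x * p⁻¹) * a * (p * x * p⁻¹)⁻¹) * (p * x * p⁻¹) := by group
      _ = x⁻¹ * (x * a * x⁻¹) * (p * x * p⁻¹) := by rw [h1]
      _ = a * (x⁻¹ * (p * x * p⁻¹)) := by group
  -- `|C| ≥ 4`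
  obtain ⟨n, hn⟩ := IsPGroup.iff_orderOf.1 hSp a'
  rw [← Subgroup.orderOf_coe, ← ha_def] at hn
  obtain ⟨m, rfl⟩ : ∃ m, n = m + 2 := ⟨n - 2, by
    by_contra hlt
    have ha2 : a * a = 1 := by
      rw [← pow_two]
      exact orderOf_dvd_iff_pow_eq_one.1 (hn ▸ (pow_dvd_pow 2 (show n ≤ 1 by omega)).trans (pow_one 2).dvd)
    have hac : ∀ p ∈ P, p * a = a * p := by
      intro p hp
      rcases hCone a haC ha2 with e | e
      · rw [e]; simp
      · rw [e]; exact hzc p hp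
    rcases hCone e (hcent e heS (hac e (h.le heS))) he2 with e' | e'
    · exact he1 e'
    · exact hez e'⟩
  set w : G := a ^ 2 ^ m with hw_def
  have how : orderOf w = 4 := by
    rw [hw_def, orderOf_pow' _ (pow_ne_zero _ two_ne_zero), hn,
      Nat.gcd_eq_right (pow_dvd_pow 2 (Nat.le_add_right m 2)), pow_add,
      Nat.mul_div_cancel_left _ (pow_pos two_pos m)]
    norm_num
  have hwC : w ∈ C := pow_mem haC _
  have hw2ne : w * w ≠ 1 := fun e => by
    have := orderOf_dvd_of_pow_eq_one (show w ^ 2 = 1 by rw [pow_two, e])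
    rw [how] at this; norm_num at this
  have hw4 : (w * w) * (w * w) = 1 := by
    have := pow_orderOf_eq_one w
    rw [how] at this
    rw [show w * w * (w * w) = w ^ 4 by simp only [pow_succ, pow_zero, one_mul, mul_assoc]]; exact this
  have hww : w * w = z := (hCone _ (mul_mem hwC hwC) hw4).resolve_left hw2ne
  -- action on `w`
  have hw : ∀ p ∈ P, (p * w * p⁻¹ = w ∧ ∃ s : ℤ, (4 : ℤ) ∣ s - 1 ∧ a ^ s = p * a * p⁻¹) ∨
      p * w * p⁻¹ = w⁻¹ := by
    intro p hp
    obtain ⟨s, hs⟩ := hact p hp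
    have hpw : p * w * p⁻¹ = w ^ s := by
      rw [hw_def, ← conj_pow, ← hs, ← zpow_natCast, ← zpow_natCast, ← zpow_mul, ← zpow_mul, mul_comm]
    rcases zpow_order_four how s (by
      rw [← hpw, show p * w * p⁻¹ * (p * w * p⁻¹) = p * (w * w) * p⁻¹ by group, hww,
        hzc p hp, mul_inv_cancel_right]
      exact hz1) with ⟨e1, e2⟩ | e1
    · exact Or.inl ⟨hpw.trans e1, s, e2, hs⟩
    · exact Or.inr (hpw.trans e1)
  -- `p` fixing `w`, `y ∈ C` inverted by `p`: `y` is `1` or `z`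
  have hinv : ∀ p ∈ P, p * w * p⁻¹ = w → ∀ y ∈ C, y * (p * y * p⁻¹) = 1 → y = 1 ∨ y = z := by
    intro p hp hpw y hy hy1
    rcases hw p hp with ⟨-, s, h4, hs⟩ | h'
    · obtain ⟨k, rfl⟩ := hCa y hy
      obtain ⟨t, ht⟩ := h4
      refine hCone _ hy ?_
      have hyy : p * a ^ k * p⁻¹ = (a ^ k) ^ s := by
        rw [← conj_zpow, ← hs, ← zpow_mul, ← zpow_mul, mul_comm]
      rw [hyy] at hy1
      have h1 : (a ^ k * a ^ k) ^ (2 * t + 1) = 1 := by
        rw [← hy1, ← zpow_one_add, ← zpow_add, ← zpow_mul, ← zpow_mul]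
        congr 1
        rw [show s = 4 * t + 1 by omega]; ring
      have h2 : (a ^ k * a ^ k) ^ (((2 ^ (m + 2) : ℕ)) : ℤ) = 1 := by
        have ha1 : a ^ (((2 ^ (m + 2) : ℕ)) : ℤ) = 1 := by
          rw [zpow_natCast, ← hn, pow_orderOf_eq_one]
        rw [← zpow_add, ← zpow_mul, mul_comm, zpow_mul, ha1, one_zpow]
      have h3 := Int.dvd_coe_gcd (orderOf_dvd_iff_zpow_eq_one.2 h1) (orderOf_dvd_iff_zpow_eq_one.2 h2)
      have hg : Int.gcd (2 * t + 1) (((2 ^ (m + 2) : ℕ)) : ℤ) = 1 := by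
        rw [Int.gcd_eq_natAbs, Int.natAbs_natCast]
        apply Nat.Coprime.pow_right
        exact Nat.coprime_two_right.2 (Int.natAbs_odd.2 ⟨t, rfl⟩)
      rw [hg] at h3
      exact orderOf_eq_one_iff.1 (Nat.dvd_one.1 (by exact_mod_cast h3))
    · rw [hpw] at h'
      exact absurd (by rw [← inv_inv w]; nth_rw 1 [← h']; simp) hw2ne
  -- no involution but `z` fixes `w`
  have hSfix : ∀ f ∈ S, f * f = 1 → f * w * f⁻¹ = w → f = 1 ∨ f = z := by
    intro f hf hf2 hfw
    refine h.eq_of_commute hzS hz2 hz1 hzc hf hf2 fun u hu => ?_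
    have hy := hcomm u (h.leU hu) f hf
    rw [h.inv_eq hu] at hy
    have hfi : f⁻¹ = f := inv_eq_of_mul_eq_one_right hf2
    set y := f⁻¹ * (u * f * u) with hy_def
    have hfy : u * f * u = f * y := by rw [hy_def, mul_inv_cancel_left]
    have h1 : y * (f * y * f⁻¹) = 1 := by
      have h2 : (f * y) * (f * y) = 1 := by
        rw [← hfy, show u * f * u * (u * f * u) = u * f * (u * u) * f * u by group, h.sq hu,
          mul_one, mul_assoc u f f, hf2, mul_one, h.sq hu]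
      calc y * (f * y * f⁻¹) = f⁻¹ * ((f * y) * (f * y)) * f⁻¹ := by group
        _ = 1 := by rw [h2, mul_one, hfi, hf2]
    have hfyc : f * y = y * f := by
      rcases hinv f (h.le hf) hfw y hy h1 with e | e
      · rw [e]; simp
      · rw [e]; exact hzc f (h.le hf)
    rw [hfy]
    calc f * (f * y) = f * (y * f) := by rw [hfyc]
      _ = f * y * f := by group
  have hewinv : e * w * e⁻¹ = w⁻¹ := (hw e (h.le heS)).resolve_left fun hh =>
    (hSfix e heS he2 hh.1).elim he1 hez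
  let M : Subgroup G := S ⊓ centralizer {w}
  have hMmem : ∀ x, x ∈ M ↔ x ∈ S ∧ x * w * x⁻¹ = w := fun x => by
    rw [show M = S ⊓ centralizer {w} from rfl, mem_inf, mem_centralizer_singleton_iff,
      mul_inv_eq_iff_eq_mul]
  have hw2 : ∀ p ∈ P, ∀ q ∈ P, p * w * p⁻¹ = w⁻¹ → q * w * q⁻¹ = w⁻¹ → (p * q) * w * (p * q)⁻¹ = w := by
    intro p hp q hq h1 h2
    rw [show p * q * w * (p * q)⁻¹ = p * (q * w * q⁻¹) * p⁻¹ by group, h2,
      show p * w⁻¹ * p⁻¹ = (p * w * p⁻¹)⁻¹ by group, h1, inv_inv]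
  obtain ⟨u, hu, hu1, huw⟩ : ∃ u ∈ U, u ≠ 1 ∧ u * w * u⁻¹ = w := by
    obtain ⟨p, hp, q, hq, hp1, hq1, hpq⟩ := h.pair
    rcases hw p (h.leU hp) with h1 | h1
    · exact ⟨p, hp, hp1, h1.1⟩
    rcases hw q (h.leU hq) with h2 | h2
    · exact ⟨q, hq, hq1, h2.1⟩
    exact ⟨p * q, mul_mem hp hq, hpq, hw2 p (h.leU hp) q (h.leU hq) h1 h2⟩
  have heo : orderOf e = 2 := orderOf_eq_prime (by rw [pow_two, he2]) he1
  refine ⟨z, e, hzS, hzc, heS, heo, hez, ⟨u * w, mul_mem (h.leU hu) (h.le (hCS hwC)), ?_, ?_⟩,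
    ⟨M, inf_le_left, ?_, fun hM => ?_, fun f hf hf2 => ?_⟩, fun q hq hqq => ?_⟩
  · -- `u * w` centralizes `e`
    have hy := hcomm u (h.leU hu) e heS
    rw [h.inv_eq hu] at hy
    set y := e⁻¹ * (u * e * u) with hy_def
    have hey : u * e * u = e * y := by rw [hy_def, mul_inv_cancel_left]
    have h1 : y * (u * y * u⁻¹) = 1 := by
      rw [h.inv_eq hu]
      calc y * (u * y * u) = e⁻¹ * ((e * y) * (u * y * u)) := by group
        _ = e⁻¹ * ((u * e * u) * (u * y * u)) := by rw [hey]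
        _ = e⁻¹ * (u * e * (u * u) * y * u) := by group
        _ = e⁻¹ * (u * (e * y) * u) := by rw [h.sq hu]; group
        _ = e⁻¹ * (u * u * e * (u * u)) := by rw [← hey]; group
        _ = 1 := by rw [h.sq hu, one_mul, mul_one, inv_mul_cancel]
    have hye : y = z := by
      rcases hinv u (h.leU hu) huw y hy h1 with e' | e'
      · refine absurd (h.one u hu hu1 e heS z hzS he2 hz2 he1 hz1 ?_ (hzc u (h.leU hu))) hez
        calc u * e = u * e * (u * u) := by rw [h.sq hu, mul_one]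
          _ = u * e * u * u := by group
          _ = e * u := by rw [hey, e', mul_one]
      · exact e'
    rw [hye] at hey
    have hwe : w * e = e * z * w := by
      calc w * e = e * (e⁻¹ * w * e) := by group
        _ = e * (e * w * e⁻¹) := by rw [inv_eq_of_mul_eq_one_right he2]
        _ = e * (w * w * (w * w) * w⁻¹) := by rw [hewinv, hw4, one_mul]
        _ = e * (w * w) * w := by group
        _ = e * z * w := by rw [hww]
    calc u * w * e = u * (e * z * w) := by rw [mul_assoc, hwe]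
      _ = u * e * (u * u) * z * w := by rw [h.sq hu]; group
      _ = u * e * u * (u * z) * w := by group
      _ = e * z * (z * u) * w := by rw [hey, hzc u (h.leU hu)]
      _ = e * (z * z) * (u * w) := by group
      _ = e * (u * w) := by rw [hz2, mul_one]
  · rw [show u * w * (u * w) = u * w * u * w by group]
    rw [h.inv_eq hu] at huw
    rw [huw, hww]
  · -- index 2
    rw [relIndex, index_eq_two_iff]
    refine ⟨⟨e, heS⟩, fun x => ?_⟩
    simp only [mem_subgroupOf, Subgroup.coe_mul, hMmem]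
    have hxe : (x : G) * e ∈ S := mul_mem x.2 heS
    rcases hw x (h.le x.2) with h1 | h1
    · refine Or.inr ⟨⟨x.2, h1.1⟩, fun h2 => ?_⟩
      refine hw2ne ?_
      have : (x : G) * e * w * ((x : G) * e)⁻¹ = w⁻¹ := by
        rw [show (x : G) * e * w * ((x : G) * e)⁻¹ = x * (e * w * e⁻¹) * (x : G)⁻¹ by group, hewinv,
          show (x : G) * w⁻¹ * (x : G)⁻¹ = ((x : G) * w * (x : G)⁻¹)⁻¹ by group, h1.1]
      rw [h2.2] at this
      calc w * w = w * w⁻¹ := by rw [← this]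
        _ = 1 := mul_inv_cancel w
    · refine Or.inl ⟨⟨hxe, hw2 _ (h.le x.2) _ (h.le heS) h1 hewinv⟩, fun h2 => hw2ne ?_⟩
      rw [h2.2] at h1
      calc w * w = w * w⁻¹ := by rw [← h1]
        _ = 1 := mul_inv_cancel w
  · exact (hSfix e heS he2 ((hMmem e).1 hM).2).elim he1 hez
  · exact hSfix f ((hMmem f).1 hf).1 hf2 ((hMmem f).1 hf).2
  · -- squares
    have hqS : q * q ∈ S := by
      obtain ⟨x, hx, v, hv, rfl⟩ := h.dec q hq
      rw [show x * v * (x * v) = x * (v * x * v) by group]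
      exact mul_mem hx (h.conjS hv hx)
    refine hSfix _ hqS hqq ?_
    rcases hw q hq with h1 | h1
    · rw [show q * q * w * (q * q)⁻¹ = q * (q * w * q⁻¹) * q⁻¹ by group, h1.1, h1.1]
    · exact hw2 q hq q hq h1 h1

end Setup

end Cfsg.Agent.Components.FourRank
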