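/-
Components of involution centralizers when the 2-layer is the layer, and standard subgroups of
core-free groups. Solvability of groups of odd order is a hypothesis.

Main results: `component_trichotomy`, `standard_trichotomy`.
-/
import Cfsg.Agent.Lib.Components.OddConsumers
import Cfsg.Agent.Lib.Components.GenFitting

set_option autoImplicit false

namespace Cfsg.Agent.Components

open Subgroup
open scoped commutatorElement Pointwise

variable {G : Type*} [Group G] [Finite G]

/-- The image of a subgroup under conjugation. -/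
abbrev conjImage (D : Subgroup G) (t : G) : Subgroup G := D.map (MulAut.conj t).toMonoidHom

theorem mem_conjImage_iff {D : Subgroup G} {t x : G} :
    x ∈ conjImage D t ↔ t⁻¹ * x * t ∈ D := by
  constructor
  · rintro ⟨d, hd, rfl⟩
    simpa [mul_assoc] using hd
  · intro h
    exact ⟨_, h, by simp [mul_assoc]⟩

theorem conj_mem_orbit {D : Subgroup G} {t : G} (ht : t * t = 1) {x : G}
    (hx : x ∈ D ⊔ conjImage D t) : t * x * t⁻¹ ∈ D ⊔ conjImage D t := by
  have hle : D ⊔ conjImage D t ≤ (D ⊔ conjImage D t).comap (MulAut.conj t).toMonoidHom := by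
    refine sup_le (Subgroup.map_le_iff_le_comap.mp (le_sup_right (a := D))) fun y hy => ?_
    rw [mem_comap]
    refine mem_sup_left ?_
    have ti : t⁻¹ = t := inv_eq_of_mul_eq_one_right ht
    have h := mem_conjImage_iff.mp hy
    rw [ti] at h
    simpa [ti] using h
  exact hle hx

/-- A perfect subgroup of the layer centralized by the involution `t`, commuting with the fixed
points of `t` on every orbit of components, is trivial. -/
theorem exists_orbit_not_commute {t : G} (ht : t * t = 1) {L : Subgroup G} (hperf : ⁅L, L⁆ = L)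
    (hne : L ≠ ⊥) (hLE : L ≤ Cfsg.layer G) (hLt : L ≤ centralizer ({t} : Set G)) :
    ∃ D : Subgroup G, Cfsg.IsComponent D ∧
      ⁅L, (D ⊔ conjImage D t) ⊓ centralizer ({t} : Set G)⁆ ≠ ⊥ := by
  by_contra hcon
  push Not at hcon
  have hall : ∀ D : Subgroup G, Cfsg.IsComponent D → L ≤ centralizer (D : Set G) := by
    intro D hD
    set D' := conjImage D t with hD'
    have hD'c : Cfsg.IsComponent D' := IsComponent.conj hD t
    set M := D ⊔ D' with hM
    set R := sSup {J : Subgroup G | Cfsg.IsComponent J ∧ J ≠ D ∧ J ≠ D'} with hR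
    have hMR : M ≤ centralizer (R : Set G) := sup_le
      (IsComponent.le_centralizer_sSup hD (fun J hJ => hJ.1) fun h => h.2.1 rfl)
      (IsComponent.le_centralizer_sSup hD'c (fun J hJ => hJ.1) fun h => h.2.2 rfl)
    have hcomm : ∀ m ∈ M, ∀ r ∈ R, m * r = r * m := fun m hm r hr =>
      (mem_centralizer_iff.mp (hMR hm) r hr).symm
    have hE : Cfsg.layer G ≤ M ⊔ R := layer_le fun J hJ => by
      by_cases h1 : J = D
      · exact h1 ▸ le_sup_of_le_left le_sup_left
      by_cases h2 : J = D'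
      · exact h2 ▸ le_sup_of_le_left le_sup_right
      exact le_sup_of_le_right (le_sSup ⟨hJ, h1, h2⟩)
    have hdec : ∀ l ∈ L, ∃ m ∈ M, ∃ r ∈ R, l = m * r := by
      intro l hl
      have h : l ∈ ((M ⊔ R : Subgroup G) : Set G) := hE (hLE hl)
      rw [coe_mul_of_left_le_normalizer_right M R
        (hMR.trans (centralizer_le_normalizer _))] at h
      obtain ⟨m, hm, r, hr, rfl⟩ := h
      exact ⟨m, hm, r, hr, rfl⟩
    have hRt : ∀ r ∈ R, t * r * t⁻¹ ∈ R := by
      have hle : R ≤ R.comap (MulAut.conj t).toMonoidHom := by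
        refine sSup_le ?_
        rintro J ⟨hJ, h1, h2⟩
        rw [← Subgroup.map_le_iff_le_comap]
        have hinv : ∀ S : Subgroup G, conjImage (conjImage S t) t = S := fun S => by
          ext x
          rw [mem_conjImage_iff, mem_conjImage_iff,
            show t⁻¹ * (t⁻¹ * x * t) * t = (t * t)⁻¹ * x * (t * t) by group, ht]
          simp
        refine le_sSup ⟨IsComponent.conj hJ t, fun h => h2 ?_, fun h => h1 ?_⟩
        · rw [hD', ← h]; exact (hinv J).symm
        · rw [← hinv J, ← hinv D]; exact congrArg (fun S => conjImage S t) h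
      exact fun r hr => hle hr
    -- each element is fixed by `t` up to the centre of `M`
    have hfix : ∀ m ∈ M, ∀ r ∈ R, m * r ∈ L →
        ∃ z ∈ centralizer (M : Set G), z ∈ M ∧ t * m * t⁻¹ = m * z := by
      intro m hm r hr hl
      have he : t * (m * r) * t⁻¹ = m * r := by
        rw [← mem_centralizer_singleton_iff.mp (hLt hl), mul_inv_cancel_right]
      refine ⟨m⁻¹ * (t * m * t⁻¹), ?_, M.mul_mem (M.inv_mem hm) (conj_mem_orbit ht hm), by group⟩
      have e : m⁻¹ * (t * m * t⁻¹) = r * (t * r * t⁻¹)⁻¹ := by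
        have e2 : (t * m * t⁻¹) * (t * r * t⁻¹) = m * r := by
          rw [← he]; group
        calc m⁻¹ * (t * m * t⁻¹) = m⁻¹ * ((t * m * t⁻¹) * (t * r * t⁻¹)) * (t * r * t⁻¹)⁻¹ := by
              group
          _ = _ := by rw [e2]; group
      rw [e, mem_centralizer_iff]
      intro u hu
      exact hcomm u hu _ (R.mul_mem hr (R.inv_mem (hRt r hr)))
    -- iterated commutators of `L` centralize `M`
    have h3 : ∀ a ∈ L, ∀ b ∈ L, ∀ c ∈ L, ⁅⁅a, b⁆, c⁆ ∈ centralizer (M : Set G) := by
      intro a ha b hb c hc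
      obtain ⟨ma, hma, ra, hra, rfl⟩ := hdec a ha
      obtain ⟨mb, hmb, rb, hrb, rfl⟩ := hdec b hb
      obtain ⟨mc, hmc, rc, hrc, rfl⟩ := hdec c hc
      obtain ⟨za, hza, hzaM, hea⟩ := hfix ma hma ra hra ha
      obtain ⟨zb, hzb, hzbM, heb⟩ := hfix mb hmb rb hrb hb
      have hca : ∀ u ∈ M, Commute za u := fun u hu => (mem_centralizer_iff.mp hza u hu).symm
      have hcb : ∀ u ∈ M, Commute zb u := fun u hu => (mem_centralizer_iff.mp hzb u hu).symm
      have hmfix : ⁅ma, mb⁆ ∈ M ⊓ centralizer ({t} : Set G) := by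
        refine ⟨commutator_le_self M (commutator_mem_commutator hma hmb),
          mem_centralizer_singleton_iff.mpr ?_⟩
        have e : t * ⁅ma, mb⁆ * t⁻¹ = ⁅ma, mb⁆ := by
          rw [show t * ⁅ma, mb⁆ * t⁻¹ = ⁅t * ma * t⁻¹, t * mb * t⁻¹⁆ by
            simp only [commutatorElement_def]; group, hea, heb]
          rw [commutatorElement_def, commutatorElement_def, mul_inv_rev, mul_inv_rev]
          calc ma * za * (mb * zb) * (za⁻¹ * ma⁻¹) * (zb⁻¹ * mb⁻¹)
              = ma * (za * mb) * (zb * za⁻¹) * ma⁻¹ * (zb⁻¹ * mb⁻¹) := by group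
            _ = ma * (mb * za) * (za⁻¹ * zb) * ma⁻¹ * (zb⁻¹ * mb⁻¹) := by
                rw [(hca mb hmb).eq, ((hca zb hzbM).symm.inv_right).eq]
            _ = ma * mb * (zb * ma⁻¹) * (zb⁻¹ * mb⁻¹) := by group
            _ = ma * mb * (ma⁻¹ * zb) * (zb⁻¹ * mb⁻¹) := by
                rw [(hcb _ (M.inv_mem hma)).eq]
            _ = ma * mb * ma⁻¹ * mb⁻¹ := by group
        calc ⁅ma, mb⁆ * t = t * ⁅ma, mb⁆ * t⁻¹ * t := by rw [e]
          _ = t * ⁅ma, mb⁆ := by group
      have hab : ⁅ma * ra, mb * rb⁆ = ⁅ma, mb⁆ * ⁅ra, rb⁆ := by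
        rw [commutatorElement_def, commutatorElement_def, commutatorElement_def, mul_inv_rev,
          mul_inv_rev]
        have k1 : ∀ m ∈ M, ∀ r ∈ R, r * m = m * r := fun m hm r hr => (hcomm m hm r hr).symm
        calc ma * ra * (mb * rb) * (ra⁻¹ * ma⁻¹) * (rb⁻¹ * mb⁻¹)
            = ma * (ra * mb) * ((rb * ra⁻¹) * ma⁻¹) * (rb⁻¹ * mb⁻¹) := by group
          _ = ma * (mb * ra) * (ma⁻¹ * (rb * ra⁻¹)) * (rb⁻¹ * mb⁻¹) := by
              rw [k1 mb hmb ra hra, k1 _ (M.inv_mem hma) _ (R.mul_mem hrb (R.inv_mem hra))]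
          _ = ma * mb * (ra * ma⁻¹) * ((rb * ra⁻¹ * rb⁻¹) * mb⁻¹) := by group
          _ = ma * mb * (ma⁻¹ * ra) * (mb⁻¹ * (rb * ra⁻¹ * rb⁻¹)) := by
              rw [k1 _ (M.inv_mem hma) ra hra, k1 _ (M.inv_mem hmb) _
                (R.mul_mem (R.mul_mem hrb (R.inv_mem hra)) (R.inv_mem hrb))]
          _ = ma * mb * ma⁻¹ * (ra * mb⁻¹) * (rb * ra⁻¹ * rb⁻¹) := by group
          _ = ma * mb * ma⁻¹ * (mb⁻¹ * ra) * (rb * ra⁻¹ * rb⁻¹) := by
              rw [k1 _ (M.inv_mem hmb) ra hra]
          _ = ma * mb * ma⁻¹ * mb⁻¹ * (ra * rb * ra⁻¹ * rb⁻¹) := by group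
      set w := ⁅ma, mb⁆ with hw
      set s := ⁅ra, rb⁆ with hs
      have hsR : s ∈ R := commutator_le_self R (commutator_mem_commutator hra hrb)
      have h1 : Commute (mc * rc) w :=
        mem_centralizer_iff.mp (commutator_eq_bot_iff_le_centralizer.mp
          (by rw [commutator_comm]; exact hcon D hD) hmfix) _ hc
      have h2 : Commute rc w := ((hcomm w hmfix.1 rc hrc)).symm
      have h4 : Commute mc w := by
        have := h1.mul_left h2.inv_left
        simpa [mul_assoc] using this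
      have h5 : Commute w s := hcomm w hmfix.1 s hsR
      rw [hab, mem_centralizer_iff]
      intro u hu
      have e : ⁅w * s, mc * rc⁆ = ⁅s, rc⁆ := by
        rw [commutatorElement_def, commutatorElement_def, mul_inv_rev, mul_inv_rev]
        calc w * s * (mc * rc) * (s⁻¹ * w⁻¹) * (rc⁻¹ * mc⁻¹)
            = w * (s * mc) * rc * s⁻¹ * (w⁻¹ * rc⁻¹) * mc⁻¹ := by group
          _ = w * (mc * s) * rc * s⁻¹ * (rc⁻¹ * w⁻¹) * mc⁻¹ := by
              rw [← hcomm mc hmc s hsR, h2.inv_left.inv_right.eq]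
          _ = (w * mc) * (s * rc * s⁻¹ * rc⁻¹) * (w⁻¹ * mc⁻¹) := by group
          _ = (s * rc * s⁻¹ * rc⁻¹) * (w * mc) * (w⁻¹ * mc⁻¹) := by
              rw [hcomm (w * mc) (M.mul_mem hmfix.1 hmc) _
                (R.mul_mem (R.mul_mem (R.mul_mem hsR hrc) (R.inv_mem hsR)) (R.inv_mem hrc))]
          _ = (s * rc * s⁻¹ * rc⁻¹) * (mc * w) * (w⁻¹ * mc⁻¹) := by rw [h4.eq]
          _ = s * rc * s⁻¹ * rc⁻¹ := by group
      rw [e]
      exact hcomm u hu _ (commutator_le_self R (commutator_mem_commutator hsR hrc))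
    have hLn : L ≤ normalizer ((centralizer (M : Set G) : Subgroup G) : Set G) := by
      refine le_trans ?_ (BBalance.normalizer_le_normalizer_centralizer M)
      refine hLE.trans (hE.trans (sup_le le_normalizer ?_))
      intro r hr
      exact centralizer_le_normalizer _ (mem_centralizer_iff.mpr fun u hu => hcomm u hu r hr)
    have h2 : ∀ a ∈ L, ∀ c ∈ L, ⁅a, c⁆ ∈ centralizer (M : Set G) := by
      intro a ha
      rw [← hperf] at ha
      let Q : Subgroup G :=
        { carrier := {a | a ∈ L ∧ ∀ c ∈ L, ⁅a, c⁆ ∈ centralizer (M : Set G)}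
          one_mem' := ⟨L.one_mem, fun c _ => by simp⟩
          mul_mem' := by
            rintro u v ⟨hu, hu'⟩ ⟨hv, hv'⟩
            refine ⟨L.mul_mem hu hv, fun c hc => ?_⟩
            rw [show ⁅u * v, c⁆ = u * ⁅v, c⁆ * u⁻¹ * ⁅u, c⁆ by
              simp only [commutatorElement_def]; group]
            exact mul_mem ((mem_normalizer_iff.mp (hLn hu) _).mp (hv' c hc)) (hu' c hc)
          inv_mem' := by
            rintro u ⟨hu, hu'⟩
            refine ⟨L.inv_mem hu, fun c hc => ?_⟩
            rw [show ⁅u⁻¹, c⁆ = u⁻¹ * ⁅u, c⁆⁻¹ * u⁻¹⁻¹ by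
              simp only [commutatorElement_def]; group]
            exact (mem_normalizer_iff.mp (hLn (L.inv_mem hu)) _).mp (inv_mem (hu' c hc)) }
      have hQ : ⁅L, L⁆ ≤ Q := commutator_le.mpr fun u hu v hv =>
        ⟨commutator_le_self L (commutator_mem_commutator hu hv), fun c hc => h3 u hu v hv c hc⟩
      exact (hQ ha).2
    refine le_trans ?_ (centralizer_le (SetLike.coe_subset_coe.mpr (le_sup_left : D ≤ M)))
    rw [← hperf]
    exact commutator_le.mpr h2
  refine hne ?_
  rw [← hperf, commutator_eq_bot_iff_le_centralizer, le_centralizer_iff]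
  exact hLE.trans (layer_le fun D hD => le_centralizer_iff.mp (hall D hD))

/-- The diagonal of a component and a commuting conjugate. -/
def pairDiag (D : Subgroup G) (t : G) (h : ∀ a ∈ D, ∀ b ∈ conjImage D t, a * b = b * a) : ↥D →* G where
  toFun d := (d : G) * (t * d * t⁻¹)
  map_one' := by simp
  map_mul' a b := by
    have hb : (b : G) * (t * a * t⁻¹) = t * a * t⁻¹ * b := h b b.2 _ ⟨a, a.2, rfl⟩
    calc ((a * b : ↥D) : G) * (t * ((a * b : ↥D) : G) * t⁻¹)
        = a * ((b : G) * (t * a * t⁻¹)) * (t * b * t⁻¹) := by simp only [coe_mul]; group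
      _ = _ := by rw [hb]; group

theorem component_commute {D E : Subgroup G} (hD : Cfsg.IsComponent D) (hE : Cfsg.IsComponent E)
    (h : D ≠ E) : ∀ a ∈ D, ∀ b ∈ E, a * b = b * a := fun _ ha b hb =>
  (mem_centralizer_iff.mp (commutator_eq_bot_iff_le_centralizer.mp
    (IsComponent.commutator_eq_bot hD hE h) ha) b hb).symm

/-- Commutators of fixed points of `t` in a pair of commuting conjugates are diagonal. -/
theorem commutator_fixed_le_diag {D : Subgroup G} {t : G} (ht : t * t = 1)
    (hcomm : ∀ a ∈ D, ∀ b ∈ conjImage D t, a * b = b * a) :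
    ⁅(D ⊔ conjImage D t) ⊓ centralizer ({t} : Set G),
      (D ⊔ conjImage D t) ⊓ centralizer ({t} : Set G)⁆ ≤ (pairDiag D t hcomm).range := by
  have ti : t⁻¹ = t := inv_eq_of_mul_eq_one_right ht
  have hDn : D ≤ normalizer (conjImage D t : Set G) := fun a ha =>
    centralizer_le_normalizer _ (mem_centralizer_iff.mpr fun b hb => (hcomm a ha b hb).symm)
  have hdec : ∀ w ∈ (D ⊔ conjImage D t) ⊓ centralizer ({t} : Set G),
      ∃ e : ↥D, ∃ z ∈ centralizer ((D ⊔ conjImage D t : Subgroup G) : Set G),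
        w = pairDiag D t hcomm e * z := by
    rintro w ⟨hw, hwt⟩
    have hw' : w ∈ ((D ⊔ conjImage D t : Subgroup G) : Set G) := hw
    rw [coe_mul_of_left_le_normalizer_right D _ hDn] at hw'
    obtain ⟨d, hd, f, hf, rfl⟩ := hw'
    obtain ⟨e, he, rfl⟩ := hf
    simp only [MulEquiv.coe_toMonoidHom, MulAut.conj_apply] at hwt ⊢
    have hfix : t * (d * (t * e * t⁻¹)) * t⁻¹ = d * (t * e * t⁻¹) := by
      rw [← mem_centralizer_singleton_iff.mp hwt, mul_inv_cancel_right]
    have hfix' : t * d * t⁻¹ * e = d * (t * e * t⁻¹) := by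
      have hte : t * (t * e * t⁻¹) * t⁻¹ = e := by
        rw [ti]; simp only [mul_assoc]; rw [ht, mul_one, ← mul_assoc, ht, one_mul]
      calc t * d * t⁻¹ * e = t * d * t⁻¹ * (t * (t * e * t⁻¹) * t⁻¹) := by rw [hte]
        _ = t * (d * (t * e * t⁻¹)) * t⁻¹ := by group
        _ = _ := hfix
    have hdz : e⁻¹ * d ∈ centralizer ((D ⊔ conjImage D t : Subgroup G) : Set G) := by
      have h1 : e⁻¹ * d = t * d * t⁻¹ * (t * e * t⁻¹)⁻¹ := by
        have h2 : e * (t * d * t⁻¹) = d * (t * e * t⁻¹) := by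
          rw [← hfix']; exact hcomm e he _ ⟨d, hd, rfl⟩
        calc e⁻¹ * d = e⁻¹ * (d * (t * e * t⁻¹)) * (t * e * t⁻¹)⁻¹ := by group
          _ = _ := by rw [← h2]; group
      have hin : e⁻¹ * d ∈ conjImage D t := by
        rw [h1]; exact mul_mem ⟨d, hd, rfl⟩ (inv_mem ⟨e, he, rfl⟩)
      have hin' : e⁻¹ * d ∈ D := mul_mem (inv_mem he) hd
      rw [mem_centralizer_iff]
      intro u hu
      have hu' : u ∈ ((D ⊔ conjImage D t : Subgroup G) : Set G) := hu
      rw [coe_mul_of_left_le_normalizer_right D _ hDn] at hu'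
      obtain ⟨a, ha, b, hb, rfl⟩ := hu'
      calc a * b * (e⁻¹ * d) = a * ((e⁻¹ * d) * b) := by rw [mul_assoc, hcomm _ hin' b hb]
        _ = (e⁻¹ * d) * a * b := by rw [← mul_assoc, hcomm a ha _ hin]
        _ = _ := by group
    refine ⟨⟨e, he⟩, e⁻¹ * d, hdz, ?_⟩
    show d * (t * e * t⁻¹) = e * (t * e * t⁻¹) * (e⁻¹ * d)
    rw [mul_assoc e, mem_centralizer_iff.mp hdz _
      (mem_sup_right ⟨e, he, rfl⟩ : t * e * t⁻¹ ∈ D ⊔ conjImage D t)]
    group
  rw [commutator_le]
  intro u hu v hv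
  obtain ⟨a, za, hza, rfl⟩ := hdec u hu
  obtain ⟨b, zb, hzb, rfl⟩ := hdec v hv
  have hmem : ∀ c : ↥D, pairDiag D t hcomm c ∈ D ⊔ conjImage D t := fun c =>
    mul_mem (mem_sup_left c.2) (mem_sup_right ⟨c, c.2, rfl⟩)
  have hzaM : za ∈ D ⊔ conjImage D t := by
    have := mul_mem (inv_mem (hmem a)) hu.1
    simpa using this
  have k : ∀ {z : G}, z ∈ centralizer ((D ⊔ conjImage D t : Subgroup G) : Set G) →
      ∀ {x : G}, x ∈ D ⊔ conjImage D t → z * x = x * z :=
    fun hz x hx => (mem_centralizer_iff.mp hz x hx).symm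
  have hval : ⁅pairDiag D t hcomm a * za, pairDiag D t hcomm b * zb⁆ = pairDiag D t hcomm ⁅a, b⁆ := by
    rw [map_commutatorElement]
    set A := pairDiag D t hcomm a
    set B := pairDiag D t hcomm b
    rw [commutatorElement_def, commutatorElement_def, mul_inv_rev, mul_inv_rev]
    calc A * za * (B * zb) * (za⁻¹ * A⁻¹) * (zb⁻¹ * B⁻¹)
        = A * (za * (B * zb)) * za⁻¹ * A⁻¹ * (zb⁻¹ * B⁻¹) := by group
      _ = A * (B * zb * za) * za⁻¹ * A⁻¹ * (zb⁻¹ * B⁻¹) := by rw [k hza hv.1]
      _ = A * B * (zb * A⁻¹) * (zb⁻¹ * B⁻¹) := by group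
      _ = A * B * (A⁻¹ * zb) * (zb⁻¹ * B⁻¹) := by rw [k hzb (inv_mem (hmem a))]
      _ = _ := by group
  exact ⟨⁅a, b⁆, hval.symm⟩

/-- A component of the centralizer of an involution, when the 2-layer is the layer. -/
theorem component_trichotomy
    (hodd : ∀ H : Subgroup G, Odd (Nat.card H) → Group.IsSolvable ↥H)
    (hL2 : Cfsg.pLayer 2 G = Cfsg.layer G) (t : G) (ht : orderOf t = 2) (L : Subgroup G)
    (hLt : L ≤ centralizer ({t} : Set G))
    (hL : Cfsg.IsComponent (L.subgroupOf (centralizer ({t} : Set G)))) :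
    ∃ D : Subgroup G, Cfsg.IsComponent D ∧
      (L = D ∨ (L < D ∧ D = ⁅D, zpowers t⁆) ∨
        (conjImage D t ≠ D ∧
          L = (Cfsg.layer ↥((D ⊔ conjImage D t) ⊓ centralizer ({t} : Set G))).map
            ((D ⊔ conjImage D t) ⊓ centralizer ({t} : Set G)).subtype)) := by
  haveI : Fact (Nat.Prime 2) := ⟨Nat.prime_two⟩
  set C := centralizer ({t} : Set G) with hC
  have htt : t * t = 1 := by rw [← pow_two, ← ht]; exact pow_orderOf_eq_one t
  have hLq : Cfsg.IsQuasisimple ↥L := (isQuasisimple_congr (subgroupOfEquivOfLe hLt)).mp hL.2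
  have hperf : ⁅L, L⁆ = L := Subgroup.isPerfect_iff.mp hLq.1
  have hne : L ≠ ⊥ := (nontrivial_iff_ne_bot L).mp (IsQuasisimple.nontrivial hLq)
  have hLE : L ≤ Cfsg.layer G := by
    rw [← hL2]
    have hCT : centralizer (zpowers t : Set G) = C := by
      rw [zpowers_eq_closure, centralizer_closure]
    have hcomp : Cfsg.IsPComponentOf 2 L C :=
      isPComponentOf_iff.mpr ⟨hLt, hL.1, isPLike_two_of_quasisimple hodd hLq⟩
    have hT : IsPGroup 2 ↥(zpowers t) :=
      IsPGroup.of_card (n := 1) (by rw [Nat.card_zpowers, ht, pow_one])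
    have key : ∀ C' : Subgroup G, C' = C →
        L ≤ (Cfsg.pLayer 2 ↥C').map C'.subtype := by
      rintro _ rfl
      conv_lhs => rw [← map_subgroupOf_eq_of_le hLt]
      exact Subgroup.map_mono (IsPComponent.le_pLayer hcomp.2)
    exact (key _ hCT).trans (pLayer_centralizer_le hT)
  obtain ⟨D, hD, hDc⟩ := exists_orbit_not_commute htt hperf hne hLE hLt
  set D' := conjImage D t with hD'
  have hD'c : Cfsg.IsComponent D' := IsComponent.conj hD t
  set M := D ⊔ D' with hM
  have hME : M ≤ Cfsg.layer G := sup_le (IsComponent.le_layer hD) (IsComponent.le_layer hD'c)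
  have hMn : Cfsg.layer G ≤ normalizer (M : Set G) :=
    (le_inf (IsComponent.layer_le_normalizer hD) (IsComponent.layer_le_normalizer hD'c)).trans
      (Subgroup.normalizer_inf_normalizer_le_normalizer_sup D D')
  have hsn : ((M ⊓ C).subgroupOf C).IsSubnormal := by
    have h1 : (M.subgroupOf (Cfsg.layer G)).Normal := normal_subgroupOf_of_le_normalizer hMn
    have h2 : M.IsSubnormal := IsSubnormal.step M _ hME (layer_normal.isSubnormal) h1
    rw [inf_subgroupOf_right]
    exact h2.subgroupOf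
  have hLM : L ≤ M := by
    rcases IsComponent.le_or_commutes hL hsn with h | h
    · intro l hl
      exact (h (show (⟨l, hLt hl⟩ : ↥C) ∈ L.subgroupOf C from hl)).1
    · refine absurd ?_ hDc
      have h' := congrArg (Subgroup.map C.subtype) h
      rwa [map_commutator, map_subgroupOf_eq_of_le hLt, map_subgroupOf_eq_of_le inf_le_right,
        Subgroup.map_bot] at h'
  refine ⟨D, hD, ?_⟩
  by_cases hDD : D' = D
  · have hLD : L ≤ D := hLM.trans (sup_le le_rfl hDD.le)
    by_cases hLeq : L = D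
    · exact Or.inl hLeq
    refine Or.inr (Or.inl ⟨lt_of_le_of_ne hLD hLeq, ?_⟩)
    set T := zpowers t with hT
    have hTn : T ≤ normalizer (D : Set G) := by
      rw [hT, zpowers_le, mem_normalizer_iff]
      intro x
      constructor
      · intro hx; rw [← hDD]; exact ⟨x, hx, rfl⟩
      · intro hx
        have hx' : t * x * t⁻¹ ∈ D' := hDD.ge hx
        rw [mem_conjImage_iff] at hx'
        simpa [mul_assoc] using hx'
    have hle : ⁅D, T⁆ ≤ D := le_normalizer_iff_commutator_le_left.mp hTn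
    haveI : (⁅D, T⁆.subgroupOf D).Normal :=
      normal_subgroupOf_of_le_normalizer (normalizer_commutator_ge_left D T)
    rcases IsQuasisimple.normal_eq_top_or_le_center hD.2 (⁅D, T⁆.subgroupOf D) with h | h
    · exact le_antisymm (subgroupOf_eq_top.mp h) hle
    · exfalso
      have hc : ⁅⁅D, T⁆, D⁆ = ⊥ := by
        rw [commutator_eq_bot_iff_le_centralizer]
        have := Subgroup.map_mono (f := D.subtype) h
        rw [map_subgroupOf_eq_of_le hle] at this
        exact this.trans (center_map_subtype_le_centralizer D)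
      have h4 : ⁅⁅D, D⁆, T⁆ = ⊥ :=
        commutator_commutator_eq_bot_of_rotate hc (by rw [commutator_comm T D]; exact hc)
      rw [IsComponent.perfect hD, commutator_eq_bot_iff_le_centralizer, hT, zpowers_eq_closure,
        centralizer_closure] at h4
      refine hLeq ?_
      have := IsComponent.eq_of_le hL (IsComponent.subgroupOf hD h4) (fun z hz => hLD hz)
      have h5 := congrArg (Subgroup.map C.subtype) this
      rwa [map_subgroupOf_eq_of_le hLt, map_subgroupOf_eq_of_le h4] at h5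
  · refine Or.inr (Or.inr ⟨hDD, ?_⟩)
    have hcomm := component_commute hD hD'c (Ne.symm hDD)
    set F := M ⊓ C with hF
    set Δ := (pairDiag D t hcomm).range with hΔ
    have hFd : ⁅F, F⁆ ≤ Δ := commutator_fixed_le_diag htt hcomm
    have hΔF : Δ ≤ F := by
      rintro _ ⟨d, rfl⟩
      refine ⟨mul_mem (mem_sup_left d.2) (mem_sup_right ⟨d, d.2, rfl⟩),
        mem_centralizer_singleton_iff.mpr ?_⟩
      show (d : G) * (t * d * t⁻¹) * t = t * ((d : G) * (t * d * t⁻¹))
      have h1 : (d : G) * (t * d * t⁻¹) = t * d * t⁻¹ * d := hcomm d d.2 _ ⟨d, d.2, rfl⟩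
      conv_rhs => rw [h1]
      rw [inv_eq_of_mul_eq_one_right htt]
      simp only [mul_assoc]
      rw [htt, mul_one, ← mul_assoc t t, htt, one_mul]
    have hLF : L ≤ F := le_inf hLM hLt
    have hLΔ : L ≤ Δ := by rw [← hperf]; exact (commutator_mono hLF hLF).trans hFd
    haveI : Nontrivial ↥Δ := (nontrivial_iff_ne_bot Δ).mpr fun e => hne (le_bot_iff.mp (e ▸ hLΔ))
    have hΔq : Cfsg.IsQuasisimple ↥Δ :=
      IsQuasisimple.of_surjective hD.2 (pairDiag D t hcomm).rangeRestrict
        (pairDiag D t hcomm).rangeRestrict_surjective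
    have hsnΔ : (L.subgroupOf Δ).IsSubnormal :=
      hL.1.comap (Subgroup.inclusion (hΔF.trans inf_le_right))
    have hLeqΔ : L = Δ := by
      rcases IsQuasisimple.eq_top_or_le_center hΔq hsnΔ with h | h
      · exact le_antisymm hLΔ (subgroupOf_eq_top.mp h)
      · refine absurd ?_ hne
        have h1 := Subgroup.map_mono (f := Δ.subtype) h
        rw [map_subgroupOf_eq_of_le hLΔ] at h1
        rw [← hperf, commutator_eq_bot_iff_le_centralizer]
        exact (h1.trans (center_map_subtype_le_centralizer Δ)).trans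
          (centralizer_le (SetLike.coe_subset_coe.mpr hLΔ))
    refine le_antisymm ?_ ?_
    · have hc : Cfsg.IsComponent (L.subgroupOf F) :=
        ⟨hL.1.comap (Subgroup.inclusion (inf_le_right : F ≤ C)),
          (isQuasisimple_congr (subgroupOfEquivOfLe hLF)).mpr hLq⟩
      conv_lhs => rw [← map_subgroupOf_eq_of_le hLF]
      exact Subgroup.map_mono (IsComponent.le_layer hc)
    · rw [hLeqΔ, ← layer_perfect, map_commutator]
      exact (commutator_mono (map_subtype_le _) (map_subtype_le _)).trans hFd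

end Cfsg.Agent.Components
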