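/-
`SL_m` as a block subgroup centralized by a diagonal involution in `GL_n` or `SL_n`, `n = m + 1`.
Main results: `isQuasisimple_sl`, `blockSL`, `exists_blocks`, `commutator_centralizer_le`,
`exists_scalar_blocks`.
-/
import Cfsg.Agent.Lib.Linear.SLn
import Cfsg.Agent.Lib.PSL2.Soluble
import Cfsg.Agent.Lib.Components.Basic

set_option autoImplicit false

namespace Cfsg.Agent.Components

open Matrix
open scoped commutatorElement

variable {F : Type*} [Field F]

/-- `SL_m(F)` is quasisimple for `m ≥ 2`, `(m, |F|) ≠ (2, ≤ 3)`. -/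
theorem isQuasisimple_sl [Fintype F] (m : ℕ) (hm : 2 ≤ m) (h : m = 2 → 4 ≤ Fintype.card F) :
    Cfsg.IsQuasisimple (Matrix.SpecialLinearGroup (Fin m) F) := by
  classical
  rcases (show m = 2 ∨ 3 ≤ m by omega) with rfl | h3
  · have h4 := h rfl
    obtain ⟨x, hx⟩ : ∃ x : F, x ∉ ({0, 1, -1} : Finset F) := by
      by_contra hcon
      push Not at hcon
      have : Finset.univ ⊆ ({0, 1, -1} : Finset F) := fun x _ => hcon x
      have h5 := Finset.card_le_card this
      have h6 : ({0, 1, -1} : Finset F).card ≤ 3 := Finset.card_le_three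
      rw [Finset.card_univ] at h5
      omega
    simp only [Finset.mem_insert, Finset.mem_singleton, not_or] at hx
    refine ⟨⟨Linear.commutator_sl_eq_top (.inr ⟨x, hx.1, fun e => ?_⟩)⟩,
      PSL2.isSimpleGroup_psl (by rwa [Nat.card_eq_fintype_card])⟩
    rcases sq_eq_one_iff.1 e with e | e
    exacts [hx.2.1 e, hx.2.2 e]
  · exact ⟨⟨Linear.commutator_sl_eq_top (.inl (by simpa using h3))⟩,
      Linear.isSimpleGroup_psl (by simpa using h3)⟩

variable {n m : ℕ} (e : Fin m ⊕ Fin 1 ≃ Fin n)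

/-- The block diagonal matrix `diag(A, d)` in the basis given by `e`. -/
def bdiag (A : Matrix (Fin m) (Fin m) F) (d : Matrix (Fin 1) (Fin 1) F) : Matrix (Fin n) (Fin n) F :=
  Matrix.reindexAlgEquiv F F e (fromBlocks A 0 0 d)

/-- `diag(-1, 1)`. -/
def bsign : Matrix (Fin n) (Fin n) F := bdiag e (-1) 1

theorem bdiag_one : bdiag e (1 : Matrix (Fin m) (Fin m) F) 1 = 1 := by
  rw [bdiag, fromBlocks_one, map_one]

theorem bdiag_mul (A B : Matrix (Fin m) (Fin m) F) (c d : Matrix (Fin 1) (Fin 1) F) :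
    bdiag e A c * bdiag e B d = bdiag e (A * B) (c * d) := by
  rw [bdiag, bdiag, bdiag, ← map_mul, fromBlocks_multiply]
  simp

theorem bdiag_inj {A B : Matrix (Fin m) (Fin m) F} {c d : Matrix (Fin 1) (Fin 1) F}
    (h : bdiag e A c = bdiag e B d) : A = B ∧ c = d := by
  obtain ⟨h1, -, -, h4⟩ := fromBlocks_inj.1 ((Matrix.reindexAlgEquiv F F e).injective h)
  exact ⟨h1, h4⟩

theorem det_bdiag (A : Matrix (Fin m) (Fin m) F) (c : Matrix (Fin 1) (Fin 1) F) :
    (bdiag e A c).det = A.det * c.det := by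
  rw [bdiag, det_reindexAlgEquiv, det_fromBlocks_zero₁₂]

theorem bsign_mul_self : bsign e * bsign e = (1 : Matrix (Fin n) (Fin n) F) := by
  rw [bsign, bdiag_mul, neg_mul_neg, mul_one, mul_one, bdiag_one]

/-- A matrix commuting with `diag(-1, 1)` is block diagonal. -/
theorem exists_blocks (h2 : (2 : F) ≠ 0) {X : Matrix (Fin n) (Fin n) F}
    (h : X * bsign e = bsign e * X) : ∃ A d, X = bdiag e A d := by
  obtain ⟨Y, rfl⟩ := (Matrix.reindexAlgEquiv F F e).surjective X
  rw [bsign, bdiag, ← map_mul, ← map_mul] at h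
  have h' := (Matrix.reindexAlgEquiv F F e).injective h
  rw [← fromBlocks_toBlocks Y, fromBlocks_multiply, fromBlocks_multiply] at h'
  obtain ⟨-, hB, hC, -⟩ := fromBlocks_inj.1 h'
  simp only [mul_zero, zero_mul, mul_one, one_mul, mul_neg, neg_mul, add_zero, zero_add,
    Matrix.mul_one, Matrix.one_mul, Matrix.mul_neg, Matrix.neg_mul, Matrix.mul_zero,
    Matrix.zero_mul] at hB hC
  refine ⟨Y.toBlocks₁₁, Y.toBlocks₂₂, ?_⟩
  have hB0 : Y.toBlocks₁₂ = 0 := by
    ext a b
    have h1 := congrFun (congrFun hB a) b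
    rw [Matrix.neg_apply] at h1
    have h3 : (2 : F) * Y.toBlocks₁₂ a b = 0 := by linear_combination h1
    exact (mul_eq_zero.1 h3).resolve_left h2
  have hC0 : Y.toBlocks₂₁ = 0 := by
    ext a b
    have h1 := congrFun (congrFun hC a) b
    rw [Matrix.neg_apply] at h1
    have h3 : (2 : F) * Y.toBlocks₂₁ a b = 0 := by linear_combination -h1
    exact (mul_eq_zero.1 h3).resolve_left h2
  conv_lhs => rw [← fromBlocks_toBlocks Y, hB0, hC0]
  rfl

/-- `SL_m → SL_n`, `A ↦ diag(A, 1)`. -/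
def blockSL : Matrix.SpecialLinearGroup (Fin m) F →* Matrix.SpecialLinearGroup (Fin n) F where
  toFun A := ⟨bdiag e A.1 1, by rw [det_bdiag, A.2, det_one, mul_one]⟩
  map_one' := Subtype.ext (bdiag_one e)
  map_mul' A B := Subtype.ext (by
    show bdiag e (A.1 * B.1) 1 = bdiag e A.1 1 * bdiag e B.1 1
    rw [bdiag_mul, mul_one])

theorem coe_blockSL (A : Matrix.SpecialLinearGroup (Fin m) F) :
    ((blockSL e A : Matrix.SpecialLinearGroup (Fin n) F) : Matrix (Fin n) (Fin n) F) =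
      bdiag e A.1 1 := rfl

theorem blockSL_injective : Function.Injective (blockSL e (F := F)) := fun A B h =>
  Subtype.ext (bdiag_inj e (congrArg Subtype.val h)).1

section

variable {G : Type*} [Group G] (ρ : G →* Matrix (Fin n) (Fin n) F)
  (j : Matrix.SpecialLinearGroup (Fin m) F →* G) {t : G}

theorem range_le_centralizer (hρ : Function.Injective ρ) (hj : ∀ A, ρ (j A) = bdiag e A.1 1)
    (ht : ρ t = bsign e) : j.range ≤ Subgroup.centralizer ({t} : Set G) := by
  rintro _ ⟨A, rfl⟩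
  refine Subgroup.mem_centralizer_singleton_iff.2 (hρ ?_)
  rw [map_mul, map_mul, hj, ht, bsign, bdiag_mul, bdiag_mul, mul_neg, neg_mul, mul_one A.1,
    one_mul A.1]

theorem exists_blocks_of_mem (h2 : (2 : F) ≠ 0) (ht : ρ t = bsign e) {g : G}
    (hg : g ∈ Subgroup.centralizer ({t} : Set G)) : ∃ A d, ρ g = bdiag e A d := by
  refine exists_blocks e h2 ?_
  rw [← ht, ← map_mul, ← map_mul, Subgroup.mem_centralizer_singleton_iff.1 hg]

/-- Commutators in `C(t)` lie in the block `SL_m`. -/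
theorem commutator_centralizer_le (hρ : Function.Injective ρ) (hj : ∀ A, ρ (j A) = bdiag e A.1 1)
    (h2 : (2 : F) ≠ 0) (ht : ρ t = bsign e) :
    commutator ↥(Subgroup.centralizer ({t} : Set G)) ≤
      j.range.subgroupOf (Subgroup.centralizer ({t} : Set G)) := by
  rw [commutator_def, Subgroup.commutator_le]
  rintro ⟨x, hx⟩ - ⟨y, hy⟩ -
  obtain ⟨A, a, hA⟩ := exists_blocks_of_mem e ρ h2 ht hx
  obtain ⟨B, b, hB⟩ := exists_blocks_of_mem e ρ h2 ht hy
  obtain ⟨A', a', hA'⟩ := exists_blocks_of_mem e ρ h2 ht (inv_mem hx)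
  obtain ⟨B', b', hB'⟩ := exists_blocks_of_mem e ρ h2 ht (inv_mem hy)
  have hAA : A * A' = 1 ∧ a * a' = 1 := bdiag_inj e (by
    rw [← bdiag_mul, ← hA, ← hA', ← map_mul, mul_inv_cancel, map_one, bdiag_one])
  have hBB : B * B' = 1 ∧ b * b' = 1 := bdiag_inj e (by
    rw [← bdiag_mul, ← hB, ← hB', ← map_mul, mul_inv_cancel, map_one, bdiag_one])
  have hdet : (A * B * A' * B').det = 1 := by
    have h1 := congrArg Matrix.det hAA.1
    have h3 := congrArg Matrix.det hBB.1
    rw [det_mul, det_one] at h1 h3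
    simp only [det_mul]
    linear_combination (B.det * B'.det) * h1 + h3
  have hd : a * b * a' * b' = 1 := by
    have hc : b * a' = a' * b := by
      ext i k
      fin_cases i; fin_cases k
      simp [Matrix.mul_apply, mul_comm]
    rw [mul_assoc a b a', hc, ← mul_assoc, hAA.2, one_mul, hBB.2]
  obtain ⟨S, hS⟩ : ∃ S : Matrix.SpecialLinearGroup (Fin m) F, S.1 = A * B * A' * B' :=
    ⟨⟨_, hdet⟩, rfl⟩
  refine Subgroup.mem_subgroupOf.2 ⟨S, hρ ?_⟩
  rw [hj, hS]
  simp only [commutatorElement_def, Subgroup.coe_mul, Subgroup.coe_inv, map_mul, hA, hB, hA', hB',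
    bdiag_mul, hd]

/-- A subgroup centralizing the block `SL_m` (`m` even) consists of scalar blocks. -/
theorem exists_scalar_blocks (hρ : Function.Injective ρ) (hj : ∀ A, ρ (j A) = bdiag e A.1 1)
    (h2 : (2 : F) ≠ 0) (ht : ρ t = bsign e) (hm : Even m) {g : G}
    (hg : g ∈ Subgroup.centralizer (j.range : Set G)) :
    ∃ a d, ρ g = bdiag e (Matrix.scalar (Fin m) a) d := by
  have hneg : (-1 : Matrix (Fin m) (Fin m) F).det = 1 := by
    rw [det_neg, det_one, mul_one, Fintype.card_fin, hm.neg_one_pow]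
  obtain ⟨S, hS⟩ : ∃ S : Matrix.SpecialLinearGroup (Fin m) F, S.1 = -1 := ⟨⟨_, hneg⟩, rfl⟩
  have htmem : t ∈ j.range := ⟨S, hρ (by rw [hj, ht, hS]; rfl)⟩
  have hgt : g ∈ Subgroup.centralizer ({t} : Set G) :=
    Subgroup.mem_centralizer_singleton_iff.2 (Subgroup.mem_centralizer_iff.1 hg t htmem).symm
  obtain ⟨A, d, hA⟩ := exists_blocks_of_mem e ρ h2 ht hgt
  obtain ⟨a, ha⟩ : A ∈ Set.range (Matrix.scalar (Fin m)) := by
    refine Matrix.mem_range_scalar_of_commute_transvectionStruct fun s => ?_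
    obtain ⟨T, hT⟩ : ∃ T : Matrix.SpecialLinearGroup (Fin m) F, T.1 = s.toMatrix :=
      ⟨⟨_, s.det⟩, rfl⟩
    have h := congrArg ρ (Subgroup.mem_centralizer_iff.1 hg _ ⟨T, rfl⟩)
    rw [map_mul, map_mul, hj, hA, hT, bdiag_mul, bdiag_mul] at h
    exact (bdiag_inj e h).1
  exact ⟨a, d, by rw [hA, ha]⟩

end

end Cfsg.Agent.Components
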