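/-
Standard subgroups of groups with trivial core. Solvability of groups of odd order is a hypothesis.

Main result: `standard_trichotomy`.
-/
import Cfsg.Agent.Lib.Components.InvolutionComponent

set_option autoImplicit false

namespace Cfsg.Agent.Components

open Subgroup
open scoped commutatorElement Pointwise

variable {G : Type*} [Group G] [Finite G]

/-- With trivial core the 2-layer is the layer. -/
theorem pLayer_two_eq_layer (hO : Cfsg.oddCore G = ⊥) : Cfsg.pLayer 2 G = Cfsg.layer G := by
  haveI : Fact (Nat.Prime 2) := ⟨Nat.prime_two⟩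
  have hinj : Function.Injective (QuotientGroup.mk' (Cfsg.pPrimeCore 2 G)) := by
    rw [← MonoidHom.ker_eq_bot_iff, QuotientGroup.ker_mk']; exact hO
  refine le_antisymm (sSup_le fun K hK => ?_) (layer_le fun K hK => ?_)
  · exact IsComponent.le_layer ⟨hK.1, (isQuasisimple_map_iff hinj K).mp hK.2.1.2⟩
  · refine IsPComponent.le_pLayer
      ⟨hK.1, ⟨hK.1.map (QuotientGroup.mk'_surjective _), (isQuasisimple_map_iff hinj K).mpr hK.2⟩,
        fun H _ _ h => Subgroup.map_injective hinj h⟩

/-- A normal subgroup of a group with trivial core contains an involution or is trivial. -/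
theorem exists_involution_of_ne_bot (hO : Cfsg.oddCore G = ⊥) {N : Subgroup G} (hN : N.IsSubnormal)
    (hne : N ≠ ⊥) : ∃ z ∈ N, orderOf z = 2 := by
  haveI : Fact (Nat.Prime 2) := ⟨Nat.prime_two⟩
  have h2 : 2 ∣ Nat.card N := by
    by_contra h
    exact hne (le_bot_iff.mp (hO ▸ Cores.le_pPrimeCore_of_isSubnormal hN
      ((Nat.prime_two.coprime_iff_not_dvd.mpr h).symm)))
  obtain ⟨z, hz⟩ := exists_prime_orderOf_dvd_card' (G := ↥N) 2 h2
  exact ⟨z, z.2, by rwa [Subgroup.orderOf_coe]⟩

theorem standard_conj_mem {A : Subgroup G} (hA : Cfsg.IsStandardSubgroup A) {z g : G}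
    (hz : orderOf z = 2) (hzA : z ∈ centralizer (A : Set G)) (hgz : g * z = z * g) :
    g ∈ normalizer (A : Set G) := by
  obtain ⟨-, hte, -, hNN⟩ := hA
  rw [hNN]
  by_contra hg
  have hzm : z ∈ centralizer (A : Set G) ⊓
      (centralizer (A : Set G)).map (MulAut.conj g).toMonoidHom :=
    ⟨hzA, ⟨z, hzA, by simp [hgz]⟩⟩
  have h : (2 : ℕ) ∣ _ := hz ▸ Subgroup.orderOf_dvd_natCard _ hzm
  exact Nat.not_even_iff_odd.mpr (hte.2 g hg) (even_iff_two_dvd.mpr h)

/-- A standard subgroup of a core-free group is normal, diagonal, or lies in a simple layer. -/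
theorem standard_trichotomy
    (hodd : ∀ H : Subgroup G, Odd (Nat.card H) → Group.IsSolvable ↥H)
    (A : Subgroup G) (hA : Cfsg.IsStandardSubgroup A) (hO : Cfsg.oddCore G = ⊥) (t : G)
    (ht : orderOf t = 2) (htA : t ∈ centralizer (A : Set G)) :
    A.Normal ∨
      (∃ X : Subgroup G, IsSimpleGroup ↥X ∧ ¬ IsMulCommutative ↥X ∧ Nonempty (↥X ≃* ↥A) ∧
        (∀ a ∈ X, ∀ b ∈ X.map (MulAut.conj t).toMonoidHom, a * b = b * a) ∧
        X ⊓ X.map (MulAut.conj t).toMonoidHom = ⊥ ∧
        X ⊔ X.map (MulAut.conj t).toMonoidHom = Cfsg.layer G ∧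
        centralizer (A : Set G) = zpowers t) ∨
      (A ≤ Cfsg.layer G ∧ IsSimpleGroup ↥(Cfsg.layer G) ∧
        ¬ IsMulCommutative ↥(Cfsg.layer G)) := by
  haveI : Fact (Nat.Prime 2) := ⟨Nat.prime_two⟩
  obtain ⟨hAq, hte, hnc, hNN⟩ := id hA
  set C := centralizer ({t} : Set G) with hC
  have htt : t * t = 1 := by rw [← pow_two, ← ht]; exact pow_orderOf_eq_one t
  have hAt : A ≤ C := fun a ha =>
    mem_centralizer_singleton_iff.mpr (mem_centralizer_iff.mp htA a ha)
  have hAperf : ⁅A, A⁆ = A := Subgroup.isPerfect_iff.mp hAq.1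
  have hAne : A ≠ ⊥ := (nontrivial_iff_ne_bot A).mp (IsQuasisimple.nontrivial hAq)
  have hCN : C ≤ normalizer (A : Set G) := fun g hg =>
    standard_conj_mem hA ht htA (mem_centralizer_singleton_iff.mp hg)
  have hcompA : Cfsg.IsComponent (A.subgroupOf C) :=
    ⟨(normal_subgroupOf_of_le_normalizer hCN).isSubnormal,
      (isQuasisimple_congr (subgroupOfEquivOfLe hAt)).mpr hAq⟩
  obtain ⟨D, hD, hcase⟩ :=
    component_trichotomy hodd (pLayer_two_eq_layer hO) t ht A hAt hcompA
  by_cases hAD : A = D
  · -- a component of `G`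
    left
    subst hAD
    refine ⟨fun a ha g => ?_⟩
    have heq : A.map (MulAut.conj g).toMonoidHom = A := by
      by_contra hne
      exact hnc g hne (IsComponent.commutator_eq_bot hD (IsComponent.conj hD g) (Ne.symm hne))
    rw [← heq]
    exact ⟨a, ha, rfl⟩
  right
  set D' := conjImage D t with hD'
  have hD'c : Cfsg.IsComponent D' := IsComponent.conj hD t
  set M := D ⊔ D' with hM
  have hAM : A ≤ M := by
    rcases hcase with h | ⟨h, -⟩ | ⟨-, h⟩
    · exact absurd h hAD
    · exact h.le.trans le_sup_left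
    · exact h.le.trans ((map_subtype_le _).trans inf_le_left)
  have hAeq : ∀ (hDD : D' ≠ D), A = (pairDiag D t (component_commute hD hD'c (Ne.symm hDD))).range := by
    intro hDD
    have hcomm := component_commute hD hD'c (Ne.symm hDD)
    have hle : A ≤ (pairDiag D t hcomm).range := by
      rw [← hAperf]
      exact (commutator_mono (le_inf hAM hAt) (le_inf hAM hAt)).trans
        (commutator_fixed_le_diag htt hcomm)
    set Δ := (pairDiag D t hcomm).range
    haveI : Nontrivial ↥Δ := (nontrivial_iff_ne_bot Δ).mpr fun e => hAne (le_bot_iff.mp (e ▸ hle))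
    have hq : Cfsg.IsQuasisimple ↥Δ := IsQuasisimple.of_surjective hD.2
      (pairDiag D t hcomm).rangeRestrict (pairDiag D t hcomm).rangeRestrict_surjective
    have hΔC : Δ ≤ C := by
      rintro _ ⟨d, rfl⟩
      refine mem_centralizer_singleton_iff.mpr ?_
      show (d : G) * (t * d * t⁻¹) * t = t * ((d : G) * (t * d * t⁻¹))
      have hdt : (d : G) * (t * d * t⁻¹) = t * d * t⁻¹ * d := hcomm d d.2 _ ⟨d, d.2, rfl⟩
      conv_rhs => rw [hdt]
      rw [inv_eq_of_mul_eq_one_right htt]
      simp only [mul_assoc]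
      rw [htt, mul_one, ← mul_assoc t t, htt, one_mul]
    haveI : (A.subgroupOf Δ).Normal :=
      normal_subgroupOf_of_le_normalizer (hΔC.trans hCN)
    rcases IsQuasisimple.normal_eq_top_or_le_center hq (A.subgroupOf Δ) with h | h
    · exact le_antisymm hle (subgroupOf_eq_top.mp h)
    · exfalso
      refine hAne ?_
      have h1 := Subgroup.map_mono (f := Δ.subtype) h
      rw [map_subgroupOf_eq_of_le hle] at h1
      rw [← hAperf, commutator_eq_bot_iff_le_centralizer]
      exact (h1.trans (center_map_subtype_le_centralizer Δ)).trans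
        (centralizer_le (SetLike.coe_subset_coe.mpr hle))
  -- `D` does not normalize `A`
  have hDN : ¬ D ≤ normalizer (A : Set G) := by
    intro hN
    by_cases hDD : D' = D
    · have hle : A ≤ D := hAM.trans (sup_le le_rfl hDD.le)
      haveI : (A.subgroupOf D).Normal := normal_subgroupOf_of_le_normalizer hN
      rcases IsQuasisimple.normal_eq_top_or_le_center hD.2 (A.subgroupOf D) with h | h
      · exact hAD (le_antisymm hle (subgroupOf_eq_top.mp h))
      · refine hAne ?_
        have h1 := Subgroup.map_mono (f := D.subtype) h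
        rw [map_subgroupOf_eq_of_le hle] at h1
        rw [← hAperf, commutator_eq_bot_iff_le_centralizer]
        exact (h1.trans (center_map_subtype_le_centralizer D)).trans
          (centralizer_le (SetLike.coe_subset_coe.mpr hle))
    · have hAd := hAeq hDD
      have hcomm := component_commute hD hD'c (Ne.symm hDD)
      -- every element of `D` centralizes `D` modulo `D ⊓ tDt`
      have h1 : ⁅D, D⁆ ≤ D ⊓ D' := by
        refine commutator_le.mpr fun d hd a ha => ?_
        have hmem : pairDiag D t hcomm ⟨a, ha⟩ ∈ A := by rw [hAd]; exact ⟨⟨a, ha⟩, rfl⟩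
        have h2 := (mem_normalizer_iff.mp (hN hd) _).mp hmem
        rw [hAd] at h2
        obtain ⟨⟨b, hb⟩, hb'⟩ := h2
        change b * (t * b * t⁻¹) = d * (a * (t * a * t⁻¹)) * d⁻¹ at hb'
        have hta : t * a * t⁻¹ ∈ D' := ⟨a, ha, rfl⟩
        have htb : t * b * t⁻¹ ∈ D' := ⟨b, hb, rfl⟩
        have h3 : b * (t * b * t⁻¹) = d * a * d⁻¹ * (t * a * t⁻¹) := by
          calc b * (t * b * t⁻¹) = d * (a * (t * a * t⁻¹)) * d⁻¹ := hb'
            _ = d * a * (t * a * t⁻¹ * d⁻¹) := by group
            _ = d * a * (d⁻¹ * (t * a * t⁻¹)) := by rw [hcomm _ (D.inv_mem hd) _ hta]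
            _ = _ := by group
        have hz1 : b⁻¹ * (d * a * d⁻¹) ∈ D' := by
          have : b⁻¹ * (d * a * d⁻¹) = t * b * t⁻¹ * (t * a * t⁻¹)⁻¹ := by
            calc b⁻¹ * (d * a * d⁻¹)
                = b⁻¹ * (d * a * d⁻¹ * (t * a * t⁻¹)) * (t * a * t⁻¹)⁻¹ := by group
              _ = _ := by rw [← h3]; group
          rw [this]; exact mul_mem htb (inv_mem hta)
        have hz1' : b⁻¹ * (d * a * d⁻¹) ∈ D :=
          mul_mem (inv_mem hb) (mul_mem (mul_mem hd ha) (inv_mem hd))
        have hz2 : b * a⁻¹ ∈ D' := by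
          rw [mem_conjImage_iff, inv_eq_of_mul_eq_one_right htt]
          have : t * (b * a⁻¹) * t = b⁻¹ * (d * a * d⁻¹) := by
            calc t * (b * a⁻¹) * t = t * b * t⁻¹ * (t * a * t⁻¹)⁻¹ := by
                  rw [inv_eq_of_mul_eq_one_right htt]
                  simp only [mul_inv_rev, inv_eq_of_mul_eq_one_right htt, mul_assoc]
                  rw [← mul_assoc t t, htt, one_mul]
              _ = b⁻¹ * (b * (t * b * t⁻¹)) * (t * a * t⁻¹)⁻¹ := by group
              _ = _ := by rw [h3]; group
          rw [this]; exact hz1'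
        have hz2' : b * a⁻¹ ∈ D := mul_mem hb (inv_mem ha)
        refine ⟨commutator_le_self D (commutator_mem_commutator hd ha), ?_⟩
        have e : ⁅d, a⁆ = b * (b⁻¹ * (d * a * d⁻¹)) * a⁻¹ := by
          rw [commutatorElement_def]; group
        have e2 : b * (b⁻¹ * (d * a * d⁻¹)) * a⁻¹ = b⁻¹ * (d * a * d⁻¹) * (b * a⁻¹) := by
          rw [hcomm b hb _ hz1, mul_assoc]
        rw [SetLike.mem_coe, e, e2]
        exact mul_mem hz1 hz2
      rw [IsComponent.perfect hD] at h1
      refine IsComponent.ne_bot hD ?_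
      rw [← IsComponent.perfect hD, commutator_eq_bot_iff_le_centralizer]
      intro a ha
      exact mem_centralizer_iff.mpr fun b hb => (hcomm b hb a (h1 ha).2)
  -- no involution centralizes both `A` and `D`
  have hnoz : ∀ z : G, orderOf z = 2 → z ∈ centralizer (A : Set G) →
      z ∈ centralizer (D : Set G) → False := fun z hz hzA hzD =>
    hDN fun g hg => standard_conj_mem hA hz hzA (mem_centralizer_iff.mp hzD g hg)
  have hcompM : ∀ J : Subgroup G, Cfsg.IsComponent J → J = D ∨ J = D' := by
    intro J hJ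
    by_contra hne
    push Not at hne
    have hJM : J ≤ centralizer (M : Set G) := by
      rw [le_centralizer_iff]
      exact sup_le
        (commutator_eq_bot_iff_le_centralizer.mp (IsComponent.commutator_eq_bot hD hJ (Ne.symm hne.1)))
        (commutator_eq_bot_iff_le_centralizer.mp
          (IsComponent.commutator_eq_bot hD'c hJ (Ne.symm hne.2)))
    obtain ⟨z, hzJ, hz⟩ := exists_involution_of_ne_bot hO hJ.1 (IsComponent.ne_bot hJ)
    exact hnoz z hz (centralizer_le (SetLike.coe_subset_coe.mpr hAM) (hJM hzJ))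
      (centralizer_le (SetLike.coe_subset_coe.mpr le_sup_left) (hJM hzJ))
  have hEM : Cfsg.layer G = M := le_antisymm
    (layer_le fun J hJ => by
      rcases hcompM J hJ with rfl | rfl
      · exact le_sup_left
      · exact le_sup_right)
    (sup_le (IsComponent.le_layer hD) (IsComponent.le_layer hD'c))
  haveI : M.Normal := hEM ▸ inferInstance
  have hZM : M ⊓ centralizer (M : Set G) = ⊥ := by
    by_contra hne
    obtain ⟨z, hz, hz2⟩ := exists_involution_of_ne_bot hO (Normal.isSubnormal inferInstance) hne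
    exact hnoz z hz2 (centralizer_le (SetLike.coe_subset_coe.mpr hAM) hz.2)
      (centralizer_le (SetLike.coe_subset_coe.mpr le_sup_left) hz.2)
  have hDc : D ⊓ centralizer (D : Set G) = ⊥ := by
    by_cases hDD : D' = D
    · have : M = D := le_antisymm (sup_le le_rfl hDD.le) le_sup_left
      rw [← this]; exact hZM
    · refine le_bot_iff.mp (le_trans (le_inf (inf_le_left.trans le_sup_left) ?_) hZM.le)
      rw [le_centralizer_iff]
      refine sup_le (le_centralizer_iff.mp inf_le_right) ?_
      refine le_trans ?_ (centralizer_le (SetLike.coe_subset_coe.mpr inf_le_left))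
      exact commutator_eq_bot_iff_le_centralizer.mp (IsComponent.commutator_eq_bot hD'c hD hDD)
  have hDsimple : IsSimpleGroup ↥D := by
    haveI := hD.2.2
    have hbot : center ↥D = ⊥ := by
      rw [← Subgroup.map_eq_bot_iff_of_injective _ (subtype_injective D), center_map_subtype]
      exact hDc
    exact ((QuotientGroup.quotientMulEquivOfEq hbot).trans
      (QuotientGroup.quotientBot (G := ↥D))).symm.isSimpleGroup
  have hDnc : ¬ IsMulCommutative ↥D := IsQuasisimple.not_isMulCommutative hD.2
  by_cases hDD : D' = D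
  · right
    have hMD : M = D := le_antisymm (sup_le le_rfl hDD.le) le_sup_left
    rw [hEM, hMD]
    exact ⟨hMD ▸ hAM, hDsimple, hDnc⟩
  left
  have hcomm := component_commute hD hD'c (Ne.symm hDD)
  have hint : D ⊓ D' = ⊥ := by
    refine le_bot_iff.mp (le_trans (le_inf inf_le_left ?_) hDc.le)
    exact inf_le_right.trans
      (commutator_eq_bot_iff_le_centralizer.mp (IsComponent.commutator_eq_bot hD'c hD hDD))
  have hAd := hAeq hDD
  have hinj : Function.Injective (pairDiag D t hcomm) := by
    rw [← MonoidHom.ker_eq_bot_iff, eq_bot_iff]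
    intro d hd
    have h1 : (d : G) * (t * d * t⁻¹) = 1 := hd
    have h2' : (d : G) ∈ D' := by
      rw [eq_inv_of_mul_eq_one_left h1]
      exact inv_mem (⟨d, d.2, rfl⟩ : t * d * t⁻¹ ∈ D')
    have h2 : (d : G) ∈ D ⊓ D' := ⟨d.2, h2'⟩
    rw [hint] at h2
    exact mem_bot.mpr (Subtype.ext (mem_bot.mp h2))
  refine ⟨D, hDsimple, hDnc, ⟨(MonoidHom.ofInjective hinj).trans (MulEquiv.subgroupCongr hAd.symm)⟩,
    hcomm, hint, hEM.symm, ?_⟩
  -- the centralizer of `A`
  haveI : (centralizer (M : Set G)).Normal := inferInstance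
  have hF : Cfsg.fittingSubgroup G = ⊥ := by
    by_contra hne
    obtain ⟨z, hzF, hz⟩ :=
      exists_involution_of_ne_bot hO (Normal.isSubnormal inferInstance) hne
    have hzM : z ∈ centralizer (M : Set G) := hEM ▸ fitting_le_centralizer_layer hzF
    exact hnoz z hz (centralizer_le (SetLike.coe_subset_coe.mpr hAM) hzM)
      (centralizer_le (SetLike.coe_subset_coe.mpr le_sup_left) hzM)
  have hCM : centralizer (M : Set G) = ⊥ := by
    refine le_bot_iff.mp (le_trans ?_ hF.le)
    refine le_trans ?_ centralizer_genFitting_le_fitting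
    rw [Cfsg.generalizedFittingSubgroup, hF, sup_bot_eq, hEM]
  -- an element of `C(A)` normalizing `D` is trivial
  have hfixD : ∀ c ∈ centralizer (A : Set G), conjImage D c = D → c = 1 := by
    intro c hc hcD
    have hcD' : conjImage D' c ≤ D' := by
      rcases hcompM _ (IsComponent.conj hD'c c) with h | h
      · exact absurd (Subgroup.map_injective (MulAut.conj c).injective (h.trans hcD.symm)) hDD
      · exact h.le
    have hd : ∀ d ∈ D, c * d * c⁻¹ = d ∧ c * (t * d * t⁻¹) * c⁻¹ = t * d * t⁻¹ := by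
      intro d hd
      have hmem : d * (t * d * t⁻¹) ∈ A := by rw [hAd]; exact ⟨⟨d, hd⟩, rfl⟩
      have h1 : c * (d * (t * d * t⁻¹)) * c⁻¹ = d * (t * d * t⁻¹) := by
        rw [← mem_centralizer_iff.mp hc _ hmem, mul_inv_cancel_right]
      have ha : c * d * c⁻¹ ∈ D := hcD.le ⟨d, hd, rfl⟩
      have hb : c * (t * d * t⁻¹) * c⁻¹ ∈ D' := hcD' ⟨_, ⟨d, hd, rfl⟩, rfl⟩
      have h2 : c * d * c⁻¹ * (c * (t * d * t⁻¹) * c⁻¹) = d * (t * d * t⁻¹) := by
        rw [← h1]; group
      have h3 := Subgroup.mul_injective_of_disjoint (disjoint_iff.mpr hint)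
        (a₁ := (⟨_, ha⟩, ⟨_, hb⟩)) (a₂ := (⟨d, hd⟩, ⟨t * d * t⁻¹, ⟨d, hd, rfl⟩⟩)) h2
      exact ⟨congrArg (fun q : ↥D × ↥D' => (q.1 : G)) h3,
        congrArg (fun q : ↥D × ↥D' => (q.2 : G)) h3⟩
    have hkey : c ∈ centralizer (M : Set G) := by
      rw [← zpowers_le, le_centralizer_iff, zpowers_eq_closure, centralizer_closure]
      refine sup_le (fun d hd' => mem_centralizer_singleton_iff.mpr ?_) ?_
      · calc d * c = c * d * c⁻¹ * c := by rw [(hd d hd').1]
          _ = _ := by group
      · rintro _ ⟨d, hd', rfl⟩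
        refine mem_centralizer_singleton_iff.mpr ?_
        show t * d * t⁻¹ * c = c * (t * d * t⁻¹)
        calc t * d * t⁻¹ * c = c * (t * d * t⁻¹) * c⁻¹ * c := by rw [(hd d hd').2]
          _ = _ := by group
    rw [hCM] at hkey
    exact mem_bot.mp hkey
  refine le_antisymm (fun c hc => ?_) (zpowers_le.mpr htA)
  rcases hcompM _ (IsComponent.conj hD c) with h | h
  · rw [hfixD c hc h]; exact one_mem _
  · have htc : conjImage D' c = D := by
      rcases hcompM _ (IsComponent.conj hD'c c) with h' | h'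
      · exact h'
      · exact absurd (Subgroup.map_injective (MulAut.conj c).injective (h'.trans h.symm)) hDD
    have h1 : conjImage D (c * t) = D := by
      rw [hD', conjImage, conjImage, Subgroup.map_map] at htc
      refine Eq.trans ?_ htc
      show D.map _ = D.map _
      congr 1
      ext x
      simp [mul_assoc]
    have h2 := hfixD (c * t) (mul_mem hc htA) h1
    rw [eq_inv_of_mul_eq_one_left h2]
    exact inv_mem (mem_zpowers t)

end Cfsg.Agent.Components
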